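import Cfsg.Agent.GC.N

/-! The core theorem. -/

set_option autoImplicit false
set_option linter.unusedSectionVars false

namespace GC

open Cfsg Subgroup FT H4 BS SF
open H5.Dich (E3 R3 NF th)
open H8.Sq (P2 p2_of_sq)
open scoped commutatorElement

universe u

variable {G : Type u} [Group G] [Finite G] {Ω : Type u} [MulAction G Ω] [Finite Ω]
  {a b c d g r s t v z : G} {A B H K L M N P R S T U W Y : Subgroup G} {α x y : Ω}

theorem inv_conj (i : Inv a) (h : IsConj a b) : Inv b := by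
  obtain ⟨g, rfl⟩ := isConj_iff.mp h
  exact i.conj g

theorem mem_of_isConj (hn : ⊤ ≤ Nor L) (h : IsConj a b) (ha : a ∈ L) : b ∈ L := by
  obtain ⟨g, rfl⟩ := isConj_iff.mp h
  exact conj_mem (hn (mem_top g)) ha

theorem GE.conj (h : GE t) (g : G) : GE (g * t * g⁻¹) := by
  have k : ∀ {x y : G}, x ∈ Cen1 y → ∀ g : G, g * x * g⁻¹ ∈ Cen1 (g * y * g⁻¹) := fun h g =>
    c1_iff.mpr (conj_comm (c1_iff.mp h) g)
  have k' : ∀ {x : G}, x ∈ Cen1 (g * t * g⁻¹) → g⁻¹ * x * g⁻¹⁻¹ ∈ Cen1 t := fun h => by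
    simpa [mul_assoc] using k h g⁻¹
  refine ⟨fun d hd id d1 => ?_, fun a ha b hb ia ib i => ?_⟩
  · obtain ⟨a, ha, b, hb, ia, ib, e⟩ := h.e1 _ (k' hd) (id.conj _) fun e => d1 (by rw [← e]; group)
    exact ⟨_, by simpa [mul_assoc] using k ha g, _, by simpa [mul_assoc] using k hb g, ia.conj g,
      ib.conj g, by rw [← e]; group⟩
  · rw [← h.e2 _ (k' ha) _ (k' hb) (ia.conj _) (ib.conj _) (by convert i.conj g⁻¹ using 1; group)]
    group

/-- a minimal counterexample -/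
structure K0 (G : Type u) [Group G] (Ω : Type u) [MulAction G Ω] (α : Ω) (W L : Subgroup G) : Prop
    extends KH G Ω α W where
  h0 : Od (⊤ : Subgroup G) = ⊥
  w0 : W ≠ ⊥
  ih : KUp.{u} (Nat.card G)
  nL : ⊤ ≤ Nor L
  L0 : L ≠ ⊥
  min : ∀ N ≤ L, ⊤ ≤ Nor N → N ≠ ⊥ → L ≤ N

namespace K0

variable (h : K0 G Ω α W L)
include h

theorem kh : KH G Ω α W := h.toKH

theorem ne_pt (x : Ω) : ∃ y, y ≠ x := by
  by_contra n
  push Not at n
  exact h.w0 (eq_bot_of_Od h.h0 (fun g _ => h.nor ((n _).trans (n _).symm)) h.odd)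

theorem zs (i : Inv t) : ∃ t', IsConj t t' ∧ t' ≠ t ∧ t' ∈ Cen1 t := by
  by_contra n
  push Not at n
  have h1 : ⊤ ≤ Cen1 t := Cm_eq_bot_iff.mp (le_bot_iff.mp (h.h0 ▸ SF.zst (mem_top t) i fun g _ e => by
    by_contra n'
    exact n _ (MT.isConj_mk g t) n' (c1_iff.mpr e.symm)))
  obtain ⟨x, hx⟩ := h.kh.fix1 i
  obtain ⟨g, e⟩ := h.tr x α
  have := h1.trans (h.cen t (by rw [mem_St, ← e, ← mul_smul, ← c1_iff.mp (h1 (mem_top g)), mul_smul,
    hx]) i)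
  rw [inf_eq_left.mpr (le_top.trans h1)] at this
  exact h.w0 (eq_bot_of_Od h.h0 this h.odd)

theorem ex_inv (hn : ⊤ ≤ Nor N) (h1 : N ≠ ⊥) : ∃ t ∈ N, Inv t := by
  by_contra n
  push Not at n
  exact h1 (eq_bot_of_Od h.h0 hn (odd_of_no_inv n))

theorem rk (hn : ⊤ ≤ Nor N) (h1 : N ≠ ⊥) : RK N := by
  obtain ⟨t, ht, i⟩ := h.ex_inv hn h1
  obtain ⟨t', e, h2, h3⟩ := h.zs i
  exact ⟨t', mem_of_isConj hn e ht, t, ht, inv_conj i e, i, h2, c1_iff.mp h3⟩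

theorem ntr (hn : ⊤ ≤ Nor N) (h1 : N ≠ ⊥) (x y : Ω) : ∃ n ∈ N, n • x = y := by
  obtain ⟨T, h2, h3, -⟩ := h.kh.syl_at x
  have hS := h2.inf_of_le_normalizer le_top (le_top.trans hn)
  obtain ⟨g, rfl⟩ := h.tr x y
  obtain ⟨n, h4, h5⟩ := hS.frattini (hn (mem_top g))
  have := h.fg.nor_fix (inf_le_left.trans h3) ((h.rk hn h1).syl hS) h5
  exact ⟨n, h4, by rw [mul_smul, inv_smul_eq_iff] at this; exact this.symm⟩

theorem faith (hg : ∀ x : Ω, g • x = x) : g = 1 := by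
  by_contra n
  obtain ⟨y, e⟩ := h.ne_pt α
  obtain ⟨k, hk, e'⟩ := h.ntr (N := PS G (Set.univ : Set Ω)) (fun g _ => PS_nor g)
    (fun e => n (mem_bot.mp (e ▸ fun x _ => hg x))) α y
  exact e (e'.symm.trans (hk α trivial))

theorem L_le : L ≤ closure {g | g ∈ L ∧ Odd (orderOf g)} := by
  refine h.min _ ((closure_le _).mpr fun _ hg => hg.1) (fun g _ => mem_nor fun x hx => ?_) fun e => ?_
  · exact closure_induction (p := fun x _ => g * x * g⁻¹ ∈ closure {g | g ∈ L ∧ Odd (orderOf g)})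
      (fun x hx => subset_closure ⟨conj_mem (h.nL (mem_top g)) hx.1, odd_conj hx.2 g⟩)
      (by simp) (fun x y _ _ h1 h2 => conj_mul' g x y ▸ mul_mem h1 h2)
      (fun x _ h => H5.mem_of_eq (inv_mem h) (by group)) hx
  · obtain ⟨x, hx⟩ := h.kh.fix2 (P := L) (isPGroup_iff_forall.mpr fun g hg => by
      obtain ⟨a, -, b, hb, e', h1, h2⟩ := parts g
      have : b = 1 := mem_bot.mp (e ▸ subset_closure ⟨zpowers_le.mpr hg hb, h2⟩)
      rw [e', this, mul_one]; exact h1)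
    obtain ⟨y, e⟩ := h.ne_pt x
    obtain ⟨n, hn, e'⟩ := h.ntr h.nL h.L0 x y
    exact e (e'.symm.trans (hx hn))

theorem r3c (ht : t ∈ L) (i : Inv t) : R3 (Cen1 t) := by
  obtain ⟨T, hT, h1⟩ := H5.exists_isSylowOf_ge (pgroup_zp i.2) le_top
  have tT := h1 (mem_zpowers t)
  have r := h.kh.r3 hT
  obtain ⟨z, hz, zz, z1, hc⟩ := H5.Dich.exists_central hT.isPGroup r.ne_bot
  obtain ⟨v, f⟩ := H5.Dich.exists_NF hT.isPGroup r hz zz z1 hc
  by_cases m : t ∈ Cen1 v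
  · exact (f.r3_of_mem r ⟨tT, m⟩ i.2 i.1).mono inf_le_right
  have hS := hT.inf_of_le_normalizer le_top (le_top.trans h.nL)
  have tS : t ∈ T ⊓ L := ⟨tT, ht⟩
  have n : t ∈ Nor (T ⊓ L ⊓ Cen1 v) := mem_nor fun x hx => ⟨cmem tS hx.1, f.mul_mem_cen
    (T.mul_mem tT hx.1.1) (inv_mem tT) (fun e => m (by simpa using mul_mem e (inv_mem hx.2)))
    (by simpa)⟩
  have e : T ⊓ L = T ⊓ L ⊓ Cen1 v ⊔ zpowers t := le_antisymm (fun g hg =>
    (mem_sup_zp n (i.2 ▸ one_mem _)).mpr (or_iff_not_imp_left.mpr fun h =>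
      ⟨mul_mem hg tS, f.mul_mem_cen hg.1 tT (fun e => h ⟨hg, e⟩) m⟩))
    (sup_le inf_le_left (zpowers_le.mpr tS))
  obtain ⟨φ, hφ⟩ := MT.tt' hS (M := T ⊓ L ⊓ Cen1 v) inf_le_left (by
    rw [← card_sup_zp n (i.2 ▸ one_mem _) fun e => m e.2, ← e])
  by_contra nr
  refine hφ t ht i.2 ?_ (((closure_le _).mpr fun g hg => (MT.mem_kr hg.1).mpr ?_ :
    _ ≤ MT.kr φ) (h.L_le ht))
  · rintro _ hs ⟨g, -, rfl⟩
    have := ((f.r3_of_mem r ⟨hs.1.1, hs.2⟩ (i.conj g).2 (i.conj g).1).mono inf_le_right).conj g⁻¹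
    rw [← conjS_cen1, conjS_inv_conjS] at this
    exact nr this
  · exact P2.eq_one (p2_of_sq (Int.units_mul_self _))
      (odd_map φ (g := ⟨g, hg.1⟩) (by rw [← Subgroup.orderOf_coe]; exact hg.2))

theorem gb (ht : t ∈ L) (i : Inv t) (n : ¬ ∃! x : Ω, t • x = x) : GB t := by
  obtain ⟨x, hx⟩ := h.kh.fix1 i
  obtain ⟨y, hy, e⟩ : ∃ y, t • y = y ∧ y ≠ x := by
    by_contra n'
    push Not at n'
    exact n ⟨x, hx, n'⟩
  refine (h.kh.ge_or_gb h.ih i (h.r3c ht i) hy hx e).resolve_left fun e => ?_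
  obtain ⟨t', h1, h2, h3⟩ := h.zs i
  obtain ⟨g, rfl⟩ := isConj_iff.mp h1
  obtain ⟨a, ha, b, hb, ia, ib, e'⟩ := (e.conj g).e1 t (mem_cen1_comm.mp h3) i h2.symm
  exact h2 (e'.symm.trans (e.e2 a ha b hb ia ib (e' ▸ i.conj g)))

theorem one_conj (e : IsConj a b) (h1 : ∃! x : Ω, a • x = x) : ∃! x : Ω, b • x = x := by
  obtain ⟨g, rfl⟩ := isConj_iff.mp e
  obtain ⟨x, h1, h2⟩ := h1
  refine ⟨g • x, conj_smul h1, fun y hy => ?_⟩
  rw [← h2 (g⁻¹ • y) (by simpa [mul_assoc] using conj_smul (g := g⁻¹) hy), smul_inv_smul]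

theorem pd : PD {a | a ∈ L ∧ Inv a ∧ ∃! x : Ω, a • x = x} Ω := by
  refine ⟨fun a ha => ha.2.1, fun a ha g => ⟨conj_mem (h.nL (mem_top g)) ha.1, ha.2.1.conj g,
    h.one_conj (MT.isConj_mk g a) ha.2.2⟩, fun a ha => ha.2.2, fun a ha b hb ne e =>
    ⟨mul_mem ha.1 hb.1, ha.2.1.mul hb.2.1 ne e, ?_⟩⟩
  by_contra n
  have i := ha.2.1.mul hb.2.1 ne e
  obtain ⟨t', h1, h2, h3⟩ := h.zs i
  have e1 : a * (a * b) = b := by rw [← mul_assoc, ha.2.1.2, one_mul]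
  rcases (h.gb (mul_mem ha.1 hb.1) i n).pair t' h3 a (c1_iff.mpr (by rw [mul_assoc, ← e]))
    (inv_conj i h1) h2 ha.2.1 (fun e' => hb.2.1.1 (by simpa using e')) with k | k
  · exact n (h.one_conj (h1.trans k).symm ha.2.2)
  · exact n (h.one_conj ((h1.trans k).trans (by rw [e1])).symm hb.2.2)

theorem rkD {D : Set G} (p : PD D Ω) (ha : a ∈ D) : RkD D ⊤ ∧ ∀ x : Ω, x ∈ Pt D Ω ⊤ := by
  obtain ⟨t', h1, h2, h3⟩ := h.zs (p.inv a ha)
  obtain ⟨g, rfl⟩ := isConj_iff.mp h1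
  refine ⟨⟨_, p.conj a ha g, a, ha, mem_top _, mem_top _, h2, c1_iff.mp h3⟩, fun x => ?_⟩
  obtain ⟨y, hy⟩ := h.kh.fix1 (p.inv a ha)
  obtain ⟨k, rfl⟩ := h.tr y x
  exact ⟨_, p.conj a ha k, mem_top _, conj_smul hy⟩

theorem all_gb (ht : t ∈ L) (i : Inv t) : GB t := by
  refine h.gb ht i fun o => ?_
  have p := h.pd
  obtain ⟨rk, all⟩ := h.rkD p ⟨ht, i, o⟩
  obtain ⟨y, e⟩ := h.ne_pt α
  obtain ⟨τ, s⟩ := exists_sa p rk all (eq_bot_of_Od h.h0 (fun g hg => nor_Od _ (p.nor_LL hg))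
    (odd_Od _)) e.symm
  exact h.w0 (eq_bot_iff.mpr fun g hg => h.faith (s.odd_triv h.odd h.le
    (fun c hc => h.nor (s.Q_fix hc)) hg))

theorem one_class : ∃ z ∈ L, Inv z ∧ ∀ a : G, Inv a → IsConj a z := by
  obtain ⟨t, ht, i⟩ := h.ex_inv h.nL h.L0
  obtain ⟨t', h1, h2, h3⟩ := h.zs i
  have i' := inv_conj i h1
  have e := c1_iff.mp h3
  have zL := mul_mem (mem_of_isConj h.nL h1 ht) ht
  have iz := i'.mul i h2 e
  have k : ∀ d ∈ Cen1 (t' * t), Inv d → d ≠ t' * t → IsConj d t := fun d hd id n =>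
    ((h.all_gb zL iz).pair d hd t (c1_iff.mpr (by rw [← mul_assoc, e])) id n i
      fun e => i'.1 (by simpa using e)).elim (fun k => k) fun k => by
        rw [← mul_assoc, ← e, mul_assoc, i.2, mul_one] at k
        exact k.trans h1.symm
  obtain ⟨z', h4, h5, h6⟩ := h.zs iz
  have zt := h4.trans (k z' h6 (inv_conj iz h4) h5)
  generalize t' * t = z at zL iz k zt
  have k' : ∀ d ∈ Cen1 z, Inv d → IsConj d z := fun d hd id => by
    by_cases e : d = z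
    exacts [e ▸ IsConj.refl d, (k d hd id e).trans zt.symm]
  refine ⟨z, zL, iz, fun a ia => ?_⟩
  obtain ⟨T, hT, h7⟩ := H5.exists_isSylowOf_ge (pgroup_zp iz.2) le_top
  obtain ⟨w, hw, ww, w1, hc⟩ := H5.Dich.exists_central hT.isPGroup (h.kh.r3 hT).ne_bot
  have e1 := k' w (mem_cen1_comm.mp (hc (h7 (mem_zpowers z)))) ⟨w1, ww⟩
  obtain ⟨g, -, m⟩ := H8.Sq.conj_into hT (mem_top a) (p2_of_sq ia.2)
  obtain ⟨j, rfl⟩ := isConj_iff.mp e1
  exact (MT.isConj_mk g a).trans ((MT.isConj_mk j _).trans (k' _ (c1_iff.mpr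
    (conj_comm (c1_iff.mp (hc m)) j)) ((ia.conj g).conj j)))

theorem false : False := by
  obtain ⟨z, zL, iz, oc⟩ := h.one_class
  have gb : ∀ a : G, Inv a → GB a := fun a i => h.all_gb (mem_of_isConj h.nL (oc a i).symm zL) i
  obtain ⟨T, hT, Tα, r⟩ := h.syl
  obtain ⟨t, ht, tt, t1, hc⟩ := H5.Dich.exists_central hT.isPGroup r.ne_bot
  have i : Inv t := ⟨t1, tt⟩
  have oc' : ∀ a : G, Inv a → ∃ g, g * t * g⁻¹ = a := fun a ia =>
    isConj_iff.mp ((oc t i).trans (oc a ia).symm)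
  have bal : H5.Dich.Bal G := fun a b aa bb a1 b1 e => by
    by_cases n : a = b
    · exact n ▸ inf_le_left
    rw [th_eq b]
    exact (gb b ⟨b1, bb⟩).bal a (c1_iff.mpr e) ⟨a1, aa⟩ n _ inf_le_right
      (odd_of_le (th_eq a ▸ odd_Od _) inf_le_left) fun g hg =>
        mem_nor_inf (nor_th (c1_iff.mp hg.2)) (le_normalizer hg.1)
  obtain ⟨V, kh, nT, e⟩ := wdata (θ := th) (H5.SS.core_conj 2)
    (fun A h1 h2 => (bal.sig ⊤ A le_top h1 h2).1) hT r ((gb t i).con T (hT.of_le hc le_top))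
  have TM := le_normalizer.trans nT
  obtain ⟨a, ha, b, hb, ia, ib, ne, ab⟩ := rk_of_r3 r
  have four : ∀ {Y H : Subgroup G}, Odd (Nat.card Y) → T ≤ Nor Y →
      (∀ c ∈ T, Inv c → Y ⊓ Cen1 c ≤ H) → Y ≤ H := fun h1 h2 h3 => BS.le_of_four ia ib ne ab h1
    (h2 ha) (h2 hb) (h3 a ha ia) (h3 b hb ib) (h3 _ (mul_mem ha hb) (ia.mul ib ne ab))
  have t0 : th t ≠ ⊥ := fun e0 => h.w0 (le_bot_iff.mp (four h.odd (Tα.trans h.nor) fun c hc ic => by
    obtain ⟨g, rfl⟩ := oc' c ic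
    refine (le_Od inf_le_right (h.cen _ (Tα hc) ic) (odd_of_le h.odd inf_le_left)).trans ?_
    rw [← th_eq, th_conj, e0, conjS, Subgroup.map_bot]))
  have tV : ∀ c ∈ T, Inv c → th c ≤ V := fun c hc ic => e c (TM hc) ic ▸ inf_le_left
  have fu : ∀ c ∈ T, Inv c → ∃ m ∈ Nor V, m * t * m⁻¹ = c := fun c hc ic => by
    obtain ⟨g, rfl⟩ := oc' c ic
    have f1 : ∀ c ∈ T, c • ((1 : G) : G ⧸ Nor V) = (1 : G) := fun c hc =>
      smul_mk_eq.mpr (by simpa using TM hc)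
    obtain ⟨k, hk, e⟩ := kh.tr_cen i (f1 t ht) (y := g⁻¹ • ((1 : G) : G ⧸ Nor V))
      (by simpa [mul_assoc] using conj_smul (g := g⁻¹) (f1 _ hc))
    refine ⟨g * k, ?_, by
      rw [show g * k * t * (g * k)⁻¹ = g * (k * t * k⁻¹) * g⁻¹ by group,
        conj_eq_iff.mpr (c1_iff.mp hk)]⟩
    rw [← SF.St_one (H := Nor V), mem_St, mul_smul, e, smul_inv_smul]
  have JV : ⨅ c : Cen1 t, conjS (c : G) V ≤ V := (iInf_le _ 1).trans (conjS_one V).le
  have leJ : ∀ N ≤ V, Cen1 t ≤ Nor N → N ≤ ⨅ c : Cen1 t, conjS (c : G) V := fun N h1 h2 =>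
    le_iInf fun c => mem_normalizer_iff_conjS.mp (h2 c.2) ▸ conjS_mono _ h1
  have nJ : Cen1 t ≤ Nor (⨅ c : Cen1 t, conjS (c : G) V) := fun g hg => mem_nor fun x hx =>
    mem_iInf.mpr fun c => by
      have := mem_iInf.mp hx (⟨g, hg⟩⁻¹ * c)
      rw [mem_conjS] at this ⊢
      exact H5.mem_of_eq this (by simp [mul_assoc])
  generalize ⨅ c : Cen1 t, conjS (c : G) V = J at JV leJ nJ
  have tJ : th t ≤ J := leJ _ (tV t ht i) fun g hg => nor_th (c1_iff.mp hg)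
  have VJ : V ≤ J := bl kh.odd JV (fun e => t0 (le_bot_iff.mp (e ▸ tJ))) (fun C c0 c1 c2 => by
      have c3 := nJ.trans c2
      refine (kh.sub h.ih hT (hc.trans c3) (by rw [SF.St_one]; exact TM) (Or.inl fun e => c0
        (eq_bot_of_Od h.h0 e.ge (odd_of_le kh.odd (c1.trans JV))))).trans (leJ _ (four (odd_Od _)
          ((hc.trans c3).trans (le_nor_Od _)) fun c m ic => le_trans ?_ (tV c m ic))
          (c3.trans (le_nor_Od _)))
      have o := odd_of_le (odd_Od (Nor C)) (inf_le_left (b := Cen1 c))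
      rw [th_eq]
      by_cases n : t = c
      · subst n
        exact le_Od inf_le_right (H4.le_normalizer_inf (c3.trans (le_nor_Od _)) le_normalizer) o
      · exact (gb c ic).bal t (mem_cen1_comm.mp (hc m)) i n _ inf_le_right o fun g hg =>
          mem_nor_inf (le_nor_Od _ (c3 hg.2)) (le_normalizer hg.1))
    fun p hp h1 h2 => h1 (le_bot_iff.mp (four (odd_of_le kh.odd (pCoreIn_le p V))
      (TM.trans (normalizer_le_normalizer_pCoreIn p V)) fun c m ic => by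
        obtain ⟨k, hk, rfl⟩ := fu c m ic
        rw [← mem_normalizer_iff_conjS.mp (normalizer_le_normalizer_pCoreIn p V hk), ← conjS_cen1,
          ← conjS_inf, le_bot_iff, conjS, map_eq_bot_iff_of_injective _ (MulAut.conj k).injective,
          ← le_bot_iff, ← h2]
        exact (le_inf inf_le_left ((inf_le_inf_right _ (pCoreIn_le p V)).trans
          ((e t (TM ht) i).le.trans tJ))).trans (le_pCoreIn inf_le_right (H4.le_normalizer_inf
            (JV.trans (le_normalizer_pCoreIn p V)) le_normalizer) (isPGroup_pCoreIn p V).to_inf_left)))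
  obtain rfl := le_antisymm JV VJ
  refine t0 (le_bot_iff.mp (tJ.trans (le_of_eq ?_)))
  by_cases n : Nor J = ⊤
  · exact eq_bot_of_Od h.h0 n.ge kh.odd
  refine H5.Dich.eq_bot_of_se BS.seThm (_root_.W.se_crit hT r.ne_bot n nT fun c m o => ?_) ?_
    (Od_top.symm.trans h.h0) le_normalizer le_rfl kh.odd.not_two_dvd_nat
  · obtain ⟨k, hk, rfl⟩ := fu c m ⟨ne_one_of_orderOf o, mul_self_eq_one_of_orderOf o⟩
    exact conjS_cen1 k t ▸ (conjS_mono k nJ).trans (conjS_eq_of_mem hk).le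
  · obtain ⟨A, hA⟩ := r
    exact H7.not_prankLE_top_iff.mpr ⟨A, hA.elem, le_trans (by norm_num) hA.card⟩

end K0

theorem kUp (n : ℕ) : KUp.{u} n := by
  induction n with
  | zero => exact fun _ _ _ _ _ _ _ _ h => absurd h (Nat.not_lt_zero _)
  | succ n ih =>
    intro G _ _ Ω _ _ α W hn h
    have ih' := ih.mono (Nat.lt_succ_iff.mp hn)
    by_cases h0 : Od (⊤ : Subgroup G) = ⊥
    · by_contra hc
      have w0 : W ≠ ⊥ := fun e => hc (e ▸ bot_le)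
      obtain ⟨L, hL, hm⟩ := Set.exists_min_image {N : Subgroup G | ⊤ ≤ Nor N ∧ N ≠ ⊥}
        (fun N => Nat.card N) (Set.toFinite _) ⟨⊤, le_normalizer, fun e => w0 (le_bot_iff.mp (e ▸ le_top))⟩
      exact K0.false ⟨h, h0, w0, ih', hL.1, hL.2, fun N h1 h2 h3 =>
        (eq_of_le_card h1 (hm N ⟨h2, h3⟩)).ge⟩
    · obtain ⟨T, h1, h2, -⟩ := h.syl
      simpa using h.sub ih' h1 le_top h2 (Or.inr h0)

end GC
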