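import Cfsg.Agent.SF.P
import Cfsg.Agent.MT.Gen
import Cfsg.Agent.W.Gen
import Cfsg.Agent.H2.Aut2
import Cfsg.Agent.H8.Sq6

/-! Two-generated cores: general tools. -/

set_option autoImplicit false
set_option linter.unusedSectionVars false

namespace GC

open Cfsg Subgroup FT H4 BS SF
open H5.Dich (E3 R3 NF)
open H8.Sq (P2 p2_of_sq)
open scoped commutatorElement

universe u

/-- Sylow 2-subgroup -/
abbrev Syl {G : Type*} [Group G] (P K : Subgroup G) : Prop := H5.IsSylowOf 2 P K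

section Gen

variable {G : Type*} [Group G] [Finite G]

theorem parts (g : G) : ∃ a ∈ zpowers g, ∃ b ∈ zpowers g, g = a * b ∧ P2 a ∧ Odd (orderOf b) := by
  obtain ⟨a, ha, b, hb, e, h1, h2⟩ := exists_pPart 2 g
  exact ⟨a, ha, b, hb, e, h1, h2.odd_of_right⟩

theorem zp_comm {x a b : G} (ha : a ∈ zpowers x) (hb : b ∈ zpowers x) : a * b = b * a :=
  H9.comm_of_mem_zpowers ha hb

theorem p2_sq {x : G} (h : P2 (x * x)) : P2 x := by
  obtain ⟨k, hk⟩ := h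
  exact ⟨k + 1, by rw [pow_succ', pow_mul, sq, hk]⟩

theorem p2_pow {x : G} (h : P2 x) (n : ℕ) : P2 (x ^ n) := P2.of_mem h.zp (pow_mem (mem_zpowers x) n)

theorem step {T P : Subgroup G} (hT : IsPGroup 2 T) (h : P < T) :
    ∃ s ∈ T, s ∉ P ∧ s ∈ Nor P ∧ s * s ∈ P := by
  obtain ⟨x, h1, h2, h3, -, h4, -⟩ := H7.exists_step_up hT le_rfl le_normalizer h
  exact ⟨x, h1, h2, h3, by rwa [← sq]⟩

theorem two_sup {P : Subgroup G} (hP : IsPGroup 2 P) {e : G} (he : e ∈ Nor P) (h : P2 e) :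
    IsPGroup 2 ↥(P ⊔ zpowers e) :=
  hP.to_sup_of_normal_left' h.zp (zpowers_le.2 he)

theorem two_sup' {P Q : Subgroup G} (hP : IsPGroup 2 P) (hQ : IsPGroup 2 Q) (h : Q ≤ Nor P) :
    IsPGroup 2 ↥(P ⊔ Q) := hP.to_sup_of_normal_left' hQ h

theorem mem_nor {H : Subgroup G} {g : G} (h : ∀ x ∈ H, g * x * g⁻¹ ∈ H) : g ∈ Nor H :=
  H5.mem_normalizer_of_forall h

theorem conj_mem' {k x : G} {X : Subgroup G} (hk : k ∈ Nor X) (hx : x ∈ X) : k⁻¹ * x * k ∈ X :=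
  H6.conj_mem' hk hx

theorem of_conj_mem {k x : G} {X : Subgroup G} (hk : k ∈ Nor X) (hx : k * x * k⁻¹ ∈ X) : x ∈ X :=
  (mem_normalizer_iff.mp hk x).mpr hx

theorem odd_pow {g : G} (h : Odd (orderOf g)) (n : ℕ) : Odd (orderOf (g ^ n)) :=
  h.of_dvd_nat (orderOf_pow_dvd n)

theorem odd_zp {g x : G} (h : Odd (orderOf g)) (hx : x ∈ zpowers g) : Odd (orderOf x) :=
  h.of_dvd_nat (orderOf_dvd_of_mem_zpowers hx)

theorem odd_conj {g : G} (h : Odd (orderOf g)) (k : G) : Odd (orderOf (k * g * k⁻¹)) := by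
  rwa [show k * g * k⁻¹ = MulAut.conj k g from rfl, MulEquiv.orderOf_eq]

theorem odd_map {Y : Type*} [Group Y] (f : G →* Y) {g : G} (h : Odd (orderOf g)) :
    Odd (orderOf (f g)) := h.of_dvd_nat (orderOf_map_dvd f g)

theorem odd_card_zp {g : G} (h : Odd (orderOf g)) : Odd (Nat.card (zpowers g)) := by
  rwa [Nat.card_zpowers]

theorem two_odd {P N : Subgroup G} (hP : IsPGroup 2 P) (hN : Odd (Nat.card N)) {x : G} (h1 : x ∈ P)
    (h2 : x ∈ N) : x = 1 := (P2.of_mem hP h1).eq_one (odd_orderOf_of_mem hN h2)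

theorem Od_eq (M : Subgroup G) : Od M = pPrimeCoreIn 2 M := piCoreOf_compl_singleton 2 M

theorem Od_le (M : Subgroup G) : Od M ≤ M := piCoreOf_le _ _

theorem nor_Od (M : Subgroup G) : Nor M ≤ Nor (Od M) := nor_le_nor_piCoreOf _ _

theorem le_nor_Od (M : Subgroup G) : M ≤ Nor (Od M) := le_nor_piCoreOf _ _

theorem Od_top : Od (⊤ : Subgroup G) = oddCore G := by rw [Od_eq, pPrimeCoreIn_top]

theorem eq_bot_of_Od (h : Od (⊤ : Subgroup G) = ⊥) {N : Subgroup G} (hn : ⊤ ≤ Nor N)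
    (ho : Odd (Nat.card N)) : N = ⊥ := le_bot_iff.mp (h ▸ le_Od le_top hn ho)

/-- a normal subgroup and an odd order subgroup normalizing each other commute -/
theorem comm_of_nor {A B : Subgroup G} (hA : IsPGroup 2 A) (hB : Odd (Nat.card B)) {a b : G}
    (ha : a ∈ A) (hb : b ∈ B) (h1 : a ∈ Nor B) (h2 : b ∈ Nor A) : a * b = b * a := by
  have e : a * b * a⁻¹ * b⁻¹ = 1 := two_odd hA hB
    (by rw [mul_assoc, mul_assoc, ← mul_assoc b]; exact mul_mem ha (conj_mem h2 (inv_mem ha)))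
    (mul_mem (conj_mem h1 hb) (inv_mem hb))
  calc a * b = a * b * a⁻¹ * b⁻¹ * (b * a) := by group
    _ = _ := by rw [e, one_mul]

/-- an element of odd order acting trivially on two steps -/
theorem cen_of_stable {k x : G} (ho : Odd (orderOf k)) (h1 : k * (x⁻¹ * (k * x * k⁻¹)) =
    x⁻¹ * (k * x * k⁻¹) * k) (h2 : P2 (x⁻¹ * (k * x * k⁻¹))) : k * x = x * k := by
  obtain ⟨n, hn⟩ := h2
  have := H2.fix_of_stable (φ := MulAut.conj k) (m := orderOf k) (k := 2 ^ n) (g := x)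
    (by rw [← map_pow, pow_orderOf_eq_one, map_one]) (ho.coprime_two_right.pow_right n)
    (by simp only [MulAut.conj_apply]; rw [h1]; group) hn
  simp only [MulAut.conj_apply] at this
  calc k * x = k * x * k⁻¹ * k := by group
    _ = _ := by rw [this]

theorem syl_conj {P K : Subgroup G} (h : Syl P K) {g : G} (hg : g ∈ K) : Syl (conjS g P) K :=
  h.map_conj (le_normalizer hg)

theorem syl_conj' {P K : Subgroup G} (h : Syl P K) (g : G) : Syl (conjS g P) (conjS g K) :=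
  h.map _

theorem mem_of_syl {P K : Subgroup G} (h : Syl P K) {g : G} (hg : g ∈ K) (h2 : P2 g)
    (hn : g ∈ Nor P) : g ∈ P :=
  h.le_of_le_normalizer' h2.zp (zpowers_le.mpr hg) (zpowers_le.mpr hn) (mem_zpowers g)

theorem odd_pow_mem {P K : Subgroup G} (h : Syl P K) {g : G} (hg : g ∈ K) (hn : g ∈ Nor P) :
    ∃ n, Odd n ∧ g ^ n ∈ P := by
  obtain ⟨a, ha, b, hb, e, h1, h2⟩ := parts g
  refine ⟨orderOf b, h2, ?_⟩
  have := mem_of_syl h (zpowers_le.mpr hg ha) h1 (zpowers_le.mpr hn ha)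
  rw [e, (show Commute a b from zp_comm ha hb).mul_pow, pow_orderOf_eq_one, mul_one]
  exact pow_mem this _

theorem r3_syl {K T : Subgroup G} (h : R3 K) (hT : Syl T K) : R3 T := h.sylow hT

theorem e3_sq {A T : Subgroup G} (h : E3 A T) {a : G} (ha : a ∈ A) : a * a = 1 :=
  H5.Dich.mul_self_of_elem h.elem ha

theorem e3_comm {A T : Subgroup G} (h : E3 A T) {a b : G} (ha : a ∈ A) (hb : b ∈ A) :
    a * b = b * a := comm_of_sq (fun _ => e3_sq h) ha hb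

/-- three independent commuting involutions, one of them prescribed -/
theorem r3_iff {T : Subgroup G} {t : G} (ht : Inv t) (hT : t ∈ T) (hc : T ≤ Cen1 t) :
    R3 T ↔ ∃ a ∈ T, ∃ b ∈ T, Inv a ∧ Inv b ∧ a * b = b * a ∧ a ≠ t ∧ b ≠ t ∧ a ≠ b ∧ a ≠ b * t := by
  constructor
  · rintro ⟨A, hA⟩
    have hA := hA.adjoin ht.2 (hA.le.trans hc) hT
    have ht' : t ∈ A ⊔ zpowers t := mem_sup_right (mem_zpowers t)
    generalize A ⊔ zpowers t = B at hA ht'
    have h8 := hA.card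
    obtain ⟨b, hb, hb'⟩ := exists_not_mem (N := zpowers t) (U := B) (by rw [ht.card_zpowers]; omega)
    have b1 : b ≠ 1 := fun e => hb' (e ▸ one_mem _)
    have bt : b ≠ t := fun e => hb' (e ▸ mem_zpowers _)
    have hn : b ∈ Nor (zpowers t) := cen_le_nor _ (by rw [FT.cen_zpowers]; exact hc (hA.le hb))
    obtain ⟨a, ha, ha'⟩ := exists_not_mem (N := zpowers t ⊔ zpowers b) (U := B) (by
      have := card_sup_zp_le hn (by rw [e3_sq hA hb]; exact one_mem _)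
      rw [ht.card_zpowers] at this; omega)
    have m1 : t ∈ zpowers t ⊔ zpowers b := mem_sup_left (mem_zpowers t)
    have m2 : b ∈ zpowers t ⊔ zpowers b := mem_sup_right (mem_zpowers b)
    exact ⟨a, hA.le ha, b, hA.le hb, ⟨fun e => ha' (e ▸ one_mem _), e3_sq hA ha⟩, ⟨b1, e3_sq hA hb⟩,
      e3_comm hA ha hb, fun e => ha' (e ▸ m1), bt, fun e => ha' (e ▸ m2),
      fun e => ha' (e ▸ mul_mem m2 m1)⟩
  · rintro ⟨a, ha, b, hb, ia, ib, e, h1, h2, h3, h4⟩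
    exact ⟨_, H5.Dich.r3_of_three ib.2 ht.2 ia.2 (c1_iff.mp (hc hb)) e.symm
      (c1_iff.mp (hc ha)).symm ib.1 ht.1 h2 ia.1 h3 h1 h4 hb hT ha⟩

end Gen

/-! ### Sections acting on invariant sets -/

section Act

variable {X : Type*} [Group X] {Δ : Type*} [MulAction X Δ] {Γ : Type*} [Group Γ] {H : Subgroup X}

open Classical in
/-- a homomorphism on a subgroup, extended by `1` -/
noncomputable def ph (f : H →* Γ) (g : X) : Γ := if h : g ∈ H then f ⟨g, h⟩ else 1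

variable {f : H →* Γ} {g k : X}

theorem ph_eq (h : g ∈ H) : ph f g = f ⟨g, h⟩ := dif_pos h

theorem ph_coe (g : H) : ph f g = f g := ph_eq g.2

theorem ph_mul (h1 : g ∈ H) (h2 : k ∈ H) : ph f (g * k) = ph f g * ph f k := by
  rw [ph_eq h1, ph_eq h2, ph_eq (mul_mem h1 h2), ← map_mul]; rfl

theorem ph_one : ph f 1 = 1 := by rw [ph_eq (one_mem H)]; exact map_one f

theorem ph_inv (h : g ∈ H) : ph f g⁻¹ = (ph f g)⁻¹ := by
  rw [ph_eq h, ph_eq (inv_mem h), ← map_inv]; rfl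

theorem ph_pow (h : g ∈ H) (n : ℕ) : ph f (g ^ n) = ph f g ^ n := by
  rw [ph_eq h, ph_eq (pow_mem h n), ← map_pow]; rfl

theorem ph_conj (h1 : g ∈ H) (h2 : k ∈ H) : ph f (g * k * g⁻¹) = ph f g * ph f k * (ph f g)⁻¹ := by
  rw [ph_mul (mul_mem h1 h2) (inv_mem h1), ph_mul h1 h2, ph_inv h1]

theorem ph_zp (h : g ∈ H) (hk : k ∈ zpowers g) : ph f k ∈ zpowers (ph f g) := by
  obtain ⟨n, rfl⟩ := hk
  rw [ph_eq h, ph_eq (zpow_mem h n)]
  exact ⟨n, (map_zpow f ⟨g, h⟩ n).symm⟩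

theorem ph_odd (h : g ∈ H) (ho : Odd (orderOf g)) : Odd (orderOf (ph f g)) :=
  ho.of_dvd_nat (orderOf_dvd_of_pow_eq_one (by rw [← ph_pow h, pow_orderOf_eq_one, ph_one]))

theorem ph_p2 (h : g ∈ H) (h2 : P2 g) : P2 (ph f g) :=
  h2.imp fun k hk => by rw [← ph_pow h, hk, ph_one]

theorem mem_im {Y : Subgroup X} {y : Γ} : y ∈ H5.im f Y ↔ ∃ g ∈ Y, g ∈ H ∧ ph f g = y :=
  H5.mem_im.trans ⟨fun ⟨x, h1, h2⟩ => ⟨x, h1, x.2, (ph_coe x).trans h2⟩,
    fun ⟨g, h1, h2, h3⟩ => ⟨⟨g, h2⟩, h1, (ph_eq (f := f) h2).symm.trans h3⟩⟩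

theorem ph_mem_im {Y : Subgroup X} (h1 : g ∈ Y) (h2 : g ∈ H) : ph f g ∈ H5.im f Y :=
  mem_im.mpr ⟨g, h1, h2, rfl⟩

theorem mem_pre {Y : Subgroup Γ} : g ∈ H5.pre f Y ↔ g ∈ H ∧ ph f g ∈ Y :=
  H5.mem_pre.trans ⟨fun ⟨h1, h2⟩ => ⟨h1, by rwa [ph_eq h1]⟩, fun ⟨h1, h2⟩ => ⟨h1, by rwa [ph_eq h1] at h2⟩⟩

theorem ph_surj (hf : Function.Surjective f) (y : Γ) : ∃ g ∈ H, ph f g = y := by
  obtain ⟨g, rfl⟩ := hf y
  exact ⟨g, g.2, ph_coe g⟩

theorem ph_ker {N : Subgroup X} (hk : f.ker = N.subgroupOf H) (h : g ∈ H) : ph f g = 1 ↔ g ∈ N := by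
  rw [ph_eq h]; exact H5.map_eq_one_iff_of_ker hk

theorem ph_nor {Y : Subgroup X} (h : g ∈ H) (hn : g ∈ Nor Y) : ph f g ∈ Nor (H5.im f Y) :=
  H5.im_le_normalizer (zpowers_le.mpr hn) (ph_mem_im (mem_zpowers g) h)

theorem nor_pre {Y : Subgroup Γ} (h : g ∈ H) (hn : ph f g ∈ Nor Y) : g ∈ Nor (H5.pre f Y) :=
  H5.pre_normalizer_le Y (mem_pre.mpr ⟨h, hn⟩)

theorem ph_lift_odd [Finite X] [Finite Γ] (h : g ∈ H) (ho : Odd (orderOf (ph f g))) :
    ∃ y ∈ zpowers g, Odd (orderOf y) ∧ ph f y = ph f g := by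
  obtain ⟨a, ha, b, hb, e, h1, h2⟩ := parts g
  have ha' := zpowers_le.mpr h ha
  have := (ph_p2 (f := f) ha' h1).eq_one (odd_zp ho (ph_zp h ha))
  exact ⟨b, hb, h2, by rw [e, ph_mul ha' (zpowers_le.mpr h hb), this, one_mul]⟩

theorem ph_lift_two [Finite X] [Finite Γ] (h : g ∈ H) (ho : P2 (ph f g)) :
    ∃ y ∈ zpowers g, P2 y ∧ ph f y = ph f g := by
  obtain ⟨a, ha, b, hb, e, h1, h2⟩ := parts g
  have hb' := zpowers_le.mpr h hb
  have := (P2.of_mem ho.zp (ph_zp h hb)).eq_one (ph_odd (f := f) hb' h2)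
  exact ⟨a, ha, h1, by rw [e, ph_mul (zpowers_le.mpr h ha) hb', this, mul_one]⟩

/-- the section `Γ` of `X` acts on `S` -/
structure Act (H : Subgroup X) (S : Set Δ) [MulAction Γ S] (f : H →* Γ) : Prop where
  surj : Function.Surjective f
  smul : ∀ g ∈ H, ∀ x : S, ((ph f g • x : S) : Δ) = g • (x : Δ)

theorem exists_act {S : Set Δ} (hS : ∀ g ∈ H, ∀ x ∈ S, g • x ∈ S) (hf : Function.Surjective f)
    (hk : ∀ g ∈ H, ph f g = 1 → ∀ x ∈ S, g • x = x) : ∃ _ : MulAction Γ S, Act H S f := by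
  letI : MulAction H S :=
    { smul := fun g x => ⟨g.1 • x.1, hS g g.2 x x.2⟩
      one_smul := fun x => Subtype.ext (one_smul X x.1)
      mul_smul := fun a b x => Subtype.ext (mul_smul a.1 b.1 x.1) }
  let ψ : Γ →* Equiv.Perm S := f.liftOfSurjective hf ⟨MulAction.toPermHom H S, fun g hg =>
    Equiv.ext fun x => Subtype.ext (hk g g.2 ((ph_coe g).trans hg) x x.2)⟩
  letI : MulAction Γ S := MulAction.compHom S ψ
  refine ⟨this, hf, fun g hg x => ?_⟩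
  change ((ψ (ph f g) x : S) : Δ) = _
  rw [ph_eq hg, MonoidHom.liftOfRightInverse_comp_apply]
  rfl

theorem exists_loc {X : Type u} [Group X] [Finite X] {Δ : Type u} [MulAction X Δ] [Finite Δ]
    {H : Subgroup X} {S : Set Δ} (hS : ∀ g ∈ H, ∀ x ∈ S, g • x ∈ S) :
    ∃ (Γ : Type u) (_ : Group Γ) (_ : Finite Γ) (_ : MulAction Γ S) (f : H →* Γ), Act H S f ∧
      ∀ y : Γ, (∀ x : S, y • x = x) → y = 1 := by
  letI : MulAction H S :=
    { smul := fun g x => ⟨g.1 • x.1, hS g g.2 x x.2⟩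
      one_smul := fun x => Subtype.ext (one_smul X x.1)
      mul_smul := fun a b x => Subtype.ext (mul_smul a.1 b.1 x.1) }
  refine ⟨(MulAction.toPermHom H S).range, inferInstance, inferInstance, inferInstance,
    (MulAction.toPermHom H S).rangeRestrict, ⟨MonoidHom.rangeRestrict_surjective _,
      fun g hg x => by rw [ph_eq hg]; rfl⟩, fun y hy => Subtype.ext (Equiv.ext hy)⟩

namespace Act

variable {S : Set Δ} [MulAction Γ S] (a : Act H S f)
include a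

theorem fix_iff (h : g ∈ H) {x y : S} : ph f g • x = y ↔ g • (x : Δ) = y := by
  rw [← a.smul g h, Subtype.ext_iff]

theorem mem (h : g ∈ H) {x : Δ} (hx : x ∈ S) : g • x ∈ S := a.smul g h ⟨x, hx⟩ ▸ (ph f g • _ : S).2

theorem ex (y : Γ) : ∃ g ∈ H, ph f g = y := ph_surj a.surj y

end Act

theorem exists_act_top {f : X →* Γ} (hf : Function.Surjective f)
    (hk : ∀ g, f g = 1 → ∀ x : Δ, g • x = x) :
    ∃ _ : MulAction Γ Δ, ∀ (g : X) (x : Δ), f g • x = g • x := by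
  let ψ : Γ →* Equiv.Perm Δ := f.liftOfSurjective hf ⟨MulAction.toPermHom X Δ, fun g hg =>
    Equiv.ext fun x => hk g hg x⟩
  refine ⟨MulAction.compHom Δ ψ, fun g x => ?_⟩
  change ψ (f g) x = _
  rw [MonoidHom.liftOfRightInverse_comp_apply]
  rfl

end Act

end GC
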