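import Cfsg.Agent.GC.A

/-! Groups with a central involution acting trivially. -/

set_option autoImplicit false
set_option linter.unusedSectionVars false

namespace GC

open Cfsg Subgroup FT H4 BS SF
open H5.Dich (E3 R3 NF)
open H8.Sq (P2 p2_of_sq)
open scoped commutatorElement

universe u

variable {X : Type*} [Group X] {t a b d g u v w x y : X}

/-- a central involution -/
structure Ci (t : X) : Prop where
  inv : Inv t
  cen : ∀ g, g * t = t * g

/-- equal up to `t` -/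
def Et (t a b : X) : Prop := a = b ∨ a = b * t

theorem Et.refl (t a : X) : Et t a a := Or.inl rfl

theorem Et.of_eq (h : a = b) : Et t a b := Or.inl h

theorem et_t (t a : X) : Et t (a * t) a := Or.inr rfl

theorem conj_eq_iff : g * a * g⁻¹ = a ↔ g * a = a * g := mul_inv_eq_iff_eq_mul

theorem sq_mul (h : a * b = b * a) : a * b * (a * b) = a * a * (b * b) := by
  calc a * b * (a * b) = a * (b * a) * b := by group
    _ = _ := by rw [← h]; group

theorem sq_conj (g a : X) : g * a * g⁻¹ * (g * a * g⁻¹) = g * (a * a) * g⁻¹ := by group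

theorem conj_mul' (g a b : X) : g * (a * b) * g⁻¹ = g * a * g⁻¹ * (g * b * g⁻¹) := by group

namespace Ci

variable (c : Ci t)
include c

theorem tt : t * t = 1 := c.inv.2

theorem t1 : t ≠ 1 := c.inv.1

theorem ti : t⁻¹ = t := c.inv.inv

theorem conj (g : X) : g * t * g⁻¹ = t := by rw [c.cen, mul_inv_cancel_right]

theorem mv (a b : X) : a * t * b = a * b * t := by rw [mul_assoc, ← c.cen, mul_assoc]

theorem mtt (a : X) : a * t * t = a := by rw [mul_assoc, c.tt, mul_one]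

theorem mem_cen (g : X) : g ∈ Cen1 t := c1_iff.mpr (c.cen g)

theorem t_cen (g : X) : t ∈ Cen1 g := c1_iff.mpr (c.cen g).symm

theorem t_nor (H : Subgroup X) : t ∈ Nor H := cen_le_nor H (cen_iff.mpr fun x _ => (c.cen x).symm)

theorem ne_mul (a : X) : a ≠ a * t := fun e => c.t1 (by simpa using e)

theorem conj_t (g a : X) : g * (a * t) * g⁻¹ = g * a * g⁻¹ * t := by rw [conj_mul', c.conj]

theorem conj_ne (g : X) (h : a ≠ t) : g * a * g⁻¹ ≠ t := fun e =>
  h (by rw [← c.conj g] at e; simpa using e)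

theorem sq_t (a : X) : a * t * (a * t) = a * a := by rw [sq_mul (c.cen a), c.tt, mul_one]

theorem mul_tt (a b : X) : a * t * (b * t) = a * b := by rw [← mul_assoc, c.mv a b, c.mtt]

theorem conj_by (g a : X) : g * t * a * (g * t)⁻¹ = g * a * g⁻¹ := by
  rw [mul_inv_rev, c.ti, c.mv g a, ← mul_assoc, c.mtt]

theorem symm (h : Et t a b) : Et t b a := by
  rcases h with rfl | rfl
  · exact Or.inl rfl
  · exact Or.inr (c.mtt b).symm

theorem trans (h : Et t a b) (h' : Et t b d) : Et t a d := by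
  rcases h with rfl | rfl
  · exact h'
  · rcases h' with rfl | rfl
    · exact Or.inr rfl
    · exact Or.inl (c.mtt d)

theorem mul (h : Et t a b) (h' : Et t x y) : Et t (a * x) (b * y) := by
  rcases h with rfl | rfl <;> rcases h' with rfl | rfl
  · exact Or.inl rfl
  · exact Or.inr (mul_assoc _ _ _).symm
  · exact Or.inr (c.mv _ _)
  · exact Or.inl (c.mul_tt _ _)

theorem einv (h : Et t a b) : Et t a⁻¹ b⁻¹ := by
  rcases h with rfl | rfl
  · exact Or.inl rfl
  · exact Or.inr (by rw [mul_inv_rev, c.ti, c.cen])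

theorem econj (g : X) (h : Et t a b) : Et t (g * a * g⁻¹) (g * b * g⁻¹) :=
  c.mul (c.mul (Et.refl t g) h) (Et.refl t _)

theorem of_conj (g : X) (h : Et t (g * a * g⁻¹) (g * b * g⁻¹)) : Et t a b := by
  simpa [mul_assoc] using c.econj g⁻¹ h

theorem lcancel (h : Et t (g * a) (g * b)) : Et t a b := by
  simpa using c.mul (Et.refl t g⁻¹) h

theorem rcancel (h : Et t (a * g) (b * g)) : Et t a b := by
  simpa using c.mul h (Et.refl t g⁻¹)

theorem et_one : Et t a 1 ↔ a = 1 ∨ a = t := by rw [Et, one_mul]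

theorem et_iff : Et t a b ↔ Et t (b⁻¹ * a) 1 :=
  ⟨fun h => c.lcancel (g := b) (by simpa using h), fun h => by simpa using c.mul (Et.refl t b) h⟩

theorem et_iff' : Et t a b ↔ Et t (a * b⁻¹) 1 :=
  ⟨fun h => c.rcancel (g := b) (by simpa using h), fun h => by simpa using c.mul h (Et.refl t b)⟩

theorem t_et : Et t t 1 := c.et_one.mpr (Or.inr rfl)

theorem mem_zp : a ∈ zpowers t ↔ Et t a 1 :=
  c.et_one.trans (⟨fun h => h.elim (fun e => e ▸ one_mem _) fun e => e ▸ mem_zpowers t,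
    c.inv.mem_zpowers⟩ : a = 1 ∨ a = t ↔ a ∈ zpowers t) |>.symm

theorem sq_et (h : Et t a b) : a * a = b * b := by
  rcases h with rfl | rfl
  · rfl
  · exact c.sq_t b

theorem comm_l (h : Et t a b) (e : b * x = x * b) : a * x = x * a := by
  rcases h with rfl | rfl
  · exact e
  · rw [c.mv, e, mul_assoc]

theorem comm_r (h : Et t a b) (e : x * b = b * x) : x * a = a * x := (c.comm_l h e.symm).symm

theorem comm_one (h : Et t a 1) (x : X) : a * x = x * a := c.comm_l h (by simp)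

theorem conj_et (h : Et t a b) (x : X) : a * x * a⁻¹ = b * x * b⁻¹ := by
  rcases h with rfl | rfl
  · rfl
  · exact c.conj_by _ _

theorem mem_of {H : Subgroup X} (ht : t ∈ H) (h : Et t a b) (hb : b ∈ H) : a ∈ H := by
  rcases h with rfl | rfl
  · exact hb
  · exact mul_mem hb ht

theorem inv_t (h : Inv a) (h1 : a ≠ t) : Inv (a * t) :=
  ⟨fun e => h1 (by rw [← c.mtt a, e, one_mul]), by rw [c.sq_t, h.2]⟩

theorem mul_ne (h : a ≠ 1) : a * t ≠ t := fun e => h (by simpa using e)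

theorem not_one (h : Inv a) (h1 : a ≠ t) : ¬ Et t a 1 := fun e =>
  (c.et_one.mp e).elim h.1 h1

theorem inv_of (h : a * a = 1) (h1 : ¬ Et t a 1) : Inv a ∧ a ≠ t :=
  ⟨⟨fun e => h1 (Or.inl e), h⟩, fun e => h1 (e ▸ c.t_et)⟩

theorem inv_et (h : Et t a b) (hb : Inv b) (h1 : b ≠ t) : Inv a ∧ a ≠ t :=
  c.inv_of ((c.sq_et h).trans hb.2) fun e => c.not_one hb h1 (c.trans (c.symm h) e)

theorem sq_one (h : Et t a 1) : a * a = 1 := by rw [c.sq_et h, one_mul]

theorem cases_sq (h : Et t (a * a) 1) : a * a = 1 ∨ a * a = t := c.et_one.mp h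

theorem et_comm : Et t (a * b) (b * a) ↔ Et t (a * b * a⁻¹) b :=
  ⟨fun h => c.rcancel (g := a) (by simpa using h), fun h => by simpa using c.mul h (Et.refl t a)⟩

variable (hu : u * u = t)
include hu

theorem inv4 : u⁻¹ = u * t :=
  inv_eq_of_mul_eq_one_right (by rw [← mul_assoc, hu, c.tt])

theorem inv4' : Et t u⁻¹ u := Or.inr (c.inv4 hu)

theorem not4 : ¬ Et t u 1 := fun h => c.t1 (by rw [← hu, c.sq_one h])

theorem p4 [Finite X] : P2 u := p2_sq (hu ▸ p2_of_sq c.tt)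

theorem t_mem4 : t ∈ zpowers u := hu ▸ mul_mem (mem_zpowers u) (mem_zpowers u)

theorem mem4 : a ∈ zpowers u ↔ Et t a 1 ∨ Et t a u := by
  constructor
  · rintro ⟨n, rfl⟩
    have h2 : ∀ m : ℤ, Et t (u ^ (2 * m)) 1 := fun m => c.mem_zp.mp (by
      rw [zpow_mul, zpow_two, hu]; exact zpow_mem (mem_zpowers t) m)
    rcases Int.even_or_odd' n with ⟨m, rfl | rfl⟩
    · exact Or.inl (h2 m)
    · right
      change Et t (u ^ (2 * m + 1)) u
      rw [zpow_add_one]
      simpa using c.mul (h2 m) (Et.refl t u)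
  · rintro (h | h)
    · exact c.mem_of (c.t_mem4 hu) h (one_mem _)
    · exact c.mem_of (c.t_mem4 hu) h (mem_zpowers u)

theorem sq4 (g : X) : g * u * g⁻¹ * (g * u * g⁻¹) = t := by rw [sq_conj, hu, c.conj]

theorem nor4 [Finite X] : g ∈ Nor (zpowers u) ↔ Et t (g * u * g⁻¹) u := by
  constructor
  · intro h
    exact ((c.mem4 hu).mp (conj_mem h (mem_zpowers u))).resolve_left (c.not4 (c.sq4 hu g))
  · intro h
    refine mem_nor fun x hx => ?_
    rcases (c.mem4 hu).mp hx with e | e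
    · exact (c.mem4 hu).mpr (Or.inl (by simpa using c.econj g e))
    · exact (c.mem4 hu).mpr (Or.inr (c.trans (c.econj g e) h))

theorem zp4 (h : Et t v u) : zpowers v = zpowers u := by
  have hv : v * v = t := (c.sq_et h).trans hu
  ext x
  rw [c.mem4 hu, c.mem4 hv]
  exact or_congr_right ⟨fun e => c.trans e h, fun e => c.trans e (c.symm h)⟩

theorem cen_nor4 [Finite X] : Cen1 u ≤ Nor (zpowers u) := by
  rw [← FT.cen_zpowers]; exact cen_le_nor _

theorem odd_cen4 [Finite X] (h : g ∈ Nor (zpowers u)) (ho : Odd (orderOf g)) : g * u = u * g := by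
  obtain ⟨k, hk⟩ := c.p4 hu
  exact c1_iff.mp (H9.mem_Cen_of_odd hk h ho)

theorem sq_mul4 (hv : v * v = t) (h : u * v = v * u) : u * v * (u * v) = 1 := by
  rw [sq_mul h, hu, hv, c.tt]

theorem inv_sq (h : v * u * v⁻¹ = u * t) : v * u * (v * u) = v * v := by
  calc v * u * (v * u) = v * u * (v * u * v⁻¹) * v := by group
    _ = v * (u * u * t) * v := by rw [h]; group
    _ = _ := by rw [hu, c.tt, mul_one]

theorem anti (h : v * u * v⁻¹ = u * t) : u * v * u⁻¹ = v * t := by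
  calc u * v * u⁻¹ = u * (v * u * v⁻¹)⁻¹ * v := by group
    _ = _ := by rw [h, mul_inv_rev, c.ti, ← mul_assoc, c.mv, mul_inv_cancel, one_mul, c.cen]

end Ci

/-- `t` is the only involution of `R` -/
def RO (t : X) (R : Subgroup X) : Prop := ∀ a ∈ R, a * a = 1 → Et t a 1

namespace RO

variable [Finite X] {R : Subgroup X} (c : Ci t) (r : RO t R)
include c r

theorem mono {S : Subgroup X} (h : S ≤ R) : RO t S := fun a ha => r a (h ha)

theorem four (hu : u * u = t) (uR : u ∈ R) (hw : w * w = t) (wR : w ∈ R) (h : w * u = u * w) :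
    Et t w u := by
  have := r _ (mul_mem wR uR) (c.sq_mul4 hw hu h)
  exact c.trans (c.rcancel (g := u) (by simpa using this)) (c.inv4' hu)

theorem exists_four (xR : x ∈ R) (h2 : P2 x) (h : ¬ Et t x 1) : ∃ n : ℕ, x ^ n * x ^ n = t := by
  obtain ⟨k, hk⟩ := h2
  induction k generalizing x with
  | zero => exact absurd (Et.of_eq (by simpa using hk)) h
  | succ k ih =>
    by_cases e : Et t (x * x) 1
    · rcases c.cases_sq e with e | e
      · exact absurd (r x xR e) h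
      · exact ⟨1, by simpa using e⟩
    · obtain ⟨n, hn⟩ := ih (mul_mem xR xR) e (by rw [← sq, ← pow_mul, ← pow_succ', hk])
      exact ⟨2 * n, by rw [pow_mul, sq, hn]⟩

/-- a 2-element centralizing `u` and inverted by an element centralizing `u` -/
theorem inverted (hu : u * u = t) (uR : u ∈ R) (xR : x ∈ R) (h2 : P2 x) (hx : x * u = u * x)
    (hd : d * u = u * d) (hi : d * x * d⁻¹ = x⁻¹) : Et t x 1 := by
  by_contra h
  obtain ⟨n, hn⟩ := r.exists_four c xR h2 h
  have e := r.four c hu uR hn (pow_mem xR n) ((show Commute x u from hx).pow_left n)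
  have e1 : d * x ^ n * d⁻¹ = (x ^ n)⁻¹ := by rw [← conj_pow, hi, inv_pow]
  rw [conj_eq_iff.mpr (c.comm_r e hd), c.inv4 hn] at e1
  exact c.ne_mul _ e1

theorem sq_inv (hu : u * u = t) (uR : u ∈ R) (xR : x ∈ R) (h2 : P2 x)
    (hi : x * u * x⁻¹ = u * t) : x * x = t := by
  have hc : x * x * u = u * (x * x) := conj_eq_iff.mp (by
    calc x * x * u * (x * x)⁻¹ = x * (x * u * x⁻¹) * x⁻¹ := by group
      _ = u := by rw [hi, c.conj_t, hi, c.mtt])
  have hn : ∀ y, y * x = x * y → ¬ Et t y u := fun y hy e => by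
    rw [conj_eq_iff.mpr (c.comm_r (c.symm e) hy.symm)] at hi
    exact c.ne_mul _ hi
  by_cases e : Et t (x * x) 1
  · refine (c.cases_sq e).resolve_left fun e => ?_
    rw [conj_eq_iff.mpr (c.comm_one (r x xR e) u)] at hi
    exact c.ne_mul _ hi
  obtain ⟨n, h⟩ := r.exists_four c (mul_mem xR xR) (P2.of_mem h2.zp (mul_mem (mem_zpowers x)
    (mem_zpowers x))) e
  exact (hn _ ((show Commute (x * x) x from mul_assoc x x x).pow_left n) (r.four c hu uR h
    (pow_mem (mul_mem xR xR) n) ((show Commute (x * x) u from hc).pow_left n))).elim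

theorem cyc (hR : IsPGroup 2 R) (hu : u * u = t) (uR : u ∈ R) : ∃ s, R ⊓ Cen1 u = zpowers s :=
  H8.Sq.rk1_cyc (hR.to_le inf_le_left) (fun x hx y hy ix iy => by
    rw [(c.et_one.mp (r x hx.1 ix.2)).resolve_left ix.1,
      (c.et_one.mp (r y hy.1 iy.2)).resolve_left iy.1]) (x := u) ⟨uR, c1_iff.mpr rfl⟩ inf_le_right
    (hu ▸ c.t1)

/-- an odd order element centralizing `u` centralizes a rank one 2-group normalizing `⟨u⟩` -/
theorem odd_cen (hR : IsPGroup 2 R) (hu : u * u = t) (uR : u ∈ R) (hn : R ≤ Nor (zpowers u))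
    (ho : Odd (orderOf g)) (gR : g ∈ Nor R) (hg : g * u = u * g) (xR : x ∈ R) : g * x = x * g := by
  obtain ⟨s, hs⟩ := r.cyc c hR hu uR
  have hC : g ∈ Nor (R ⊓ Cen1 u) := mem_nor_inf gR (le_normalizer (c1_iff.mpr hg))
  have h1 : ∀ y ∈ R ⊓ Cen1 u, g * y = y * g := fun y hy => by
    obtain ⟨k, hk⟩ := P2.of_mem hR (hs.ge (mem_zpowers s)).1
    rw [hs] at hC hy
    have := c1_iff.mp (H9.mem_Cen_of_odd hk hC ho)
    obtain ⟨n, rfl⟩ := hy
    exact (show Commute g s from this).zpow_right n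
  by_cases hx : x ∈ Cen1 u
  · exact h1 x ⟨xR, hx⟩
  have e : ∀ y ∈ R, y ∉ Cen1 u → y * u * y⁻¹ = u * t := fun y hy h =>
    ((c.nor4 hu).mp (hn hy)).resolve_left fun e => h (c1_iff'.mpr e)
  have m : x⁻¹ * (g * x * g⁻¹) ∈ R := mul_mem (inv_mem xR) (conj_mem gR xR)
  refine cen_of_stable ho (h1 _ ⟨m, c1_iff'.mpr ?_⟩) (P2.of_mem hR m)
  have e1 := e _ (conj_mem gR xR) fun h => hx (of_conj_mem (le_normalizer (c1_iff.mpr hg)) h)
  have e2 := e _ (inv_mem xR) fun h => hx (inv_mem_iff.mp h)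
  calc _ = x⁻¹ * (g * x * g⁻¹ * u * (g * x * g⁻¹)⁻¹) * x⁻¹⁻¹ := by group
    _ = u := by rw [e1, c.conj_t, e2, c.mtt]

end RO

/-- in a 2-group of rank at least three, a square root of `t` centralizes another involution -/
theorem Ci.four_cen [Finite X] (c : Ci t) {T : Subgroup X} (hT : IsPGroup 2 T) (h3 : R3 T)
    (hu : u * u = t) (uT : u ∈ T) : ∃ d ∈ T, Inv d ∧ d ≠ t ∧ d * u = u * d := by
  have tT : t ∈ T := hu ▸ mul_mem uT uT
  obtain ⟨y, h⟩ := H5.Dich.exists_NF hT h3 tT c.tt c.t1 fun g _ => c.mem_cen g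
  have iy : Inv y := ⟨h.u1, h.uu⟩
  by_cases hy : y * u = u * y
  · exact ⟨y, h.u_mem, iy, h.ne.symm, hy⟩
  have uy : u * y * u⁻¹ = y * t := (h.act u uT).resolve_left fun e => hy (conj_eq_iff.mp e).symm
  have mU : ∀ x, x ∈ h.U ↔ Et t x 1 ∨ Et t x y := fun x => by
    rw [h.mem_U, c.et_one, Et, c.cen y, or_assoc]
  have cU : ∀ x ∈ h.U, u * x = x * u → Et t x 1 := fun x hx e =>
    ((mU x).mp hx).resolve_right fun e' => hy (c.comm_l (c.symm e') e.symm)
  have hn : T ≤ Nor (T ⊓ Cen1 y) := fun g hg => mem_nor fun x hx =>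
    ⟨cmem hg hx.1, c1_iff.mpr (c.comm_r (c.symm (h.act g hg))
      (conj_comm (c1_iff.mp hx.2) g))⟩
  obtain ⟨v, hv, vU, h1, h2⟩ := H7.exists_central_mod hT (N := h.U) inf_le_left hn fun e => by
    obtain ⟨A, hA⟩ := h.r3_cen h3
    have h8 := hA.card.trans (card_le_of_le (hA.le.trans e))
    have : h.U ≤ zpowers t ⊔ zpowers y := fun x hx => by
      have m : t ∈ zpowers t ⊔ zpowers y := mem_sup_left (mem_zpowers t)
      rcases (mU x).mp hx with e | e
      · exact c.mem_of m e (one_mem _)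
      · exact c.mem_of m e (mem_sup_right (mem_zpowers y))
    have h4 := (card_le_of_le this).trans (card_sup_zp_le (N := zpowers t) (x := y)
      (cen_le_nor _ (by rw [FT.cen_zpowers]; exact c.mem_cen y)) (by rw [iy.2]; exact one_mem _))
    rw [c.inv.card_zpowers] at h4
    omega
  rw [sq] at h2
  have key : ∀ v ∈ T ⊓ Cen1 y, v ∉ h.U → v * v ∈ h.U → u * v = v * u →
      ∃ d ∈ T, Inv d ∧ d ≠ t ∧ d * u = u * d := fun v hv vU h2 e => by
    have n1 : ¬ Et t v 1 := fun e => vU ((mU v).mpr (Or.inl e))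
    rcases c.cases_sq (cU _ h2 (by rw [← mul_assoc, e, mul_assoc, e, mul_assoc])) with e1 | e1
    · exact ⟨v, hv.1, (c.inv_of e1 n1).1, (c.inv_of e1 n1).2, e.symm⟩
    · have := c.inv_of (c.sq_mul4 hu e1 e) fun e2 => hy (c.comm_r (b := v⁻¹)
        (c.rcancel (g := v) (by simpa using e2)) (c1_iff.mp (inv_mem hv.2)).symm)
      exact ⟨u * v, mul_mem uT hv.1, this.1, this.2, by rw [mul_assoc, e]⟩
  have m := h1 u uT
  rw [commutatorElement_def] at m
  have mc : v * (v * u * v⁻¹ * u⁻¹) = v * u * v⁻¹ * u⁻¹ * v := by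
    rcases (mU _).mp m with e | e
    · exact (c.comm_one e v).symm
    · exact c.comm_r e (c1_iff.mp hv.2)
  have ms : v * u * v⁻¹ * u⁻¹ * (v * u * v⁻¹ * u⁻¹) = 1 := H5.Dich.mul_self_of_elem h.U_elem m
  have e0 : u * v * u⁻¹ = (v * u * v⁻¹ * u⁻¹)⁻¹ * v := by group
  rw [inv_eq_self_of_sq ms] at e0
  generalize v * u * v⁻¹ * u⁻¹ = z at m mc ms e0
  have e1 : u * z = z * u := by
    have : u * (u * v * u⁻¹) * u⁻¹ = v := by
      calc _ = u * u * v * (u * u)⁻¹ := by group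
        _ = v := by rw [hu, ← c.cen, mul_inv_cancel_right]
    rw [e0, conj_mul', e0, ← mul_assoc, mul_eq_right, mul_eq_one_iff_eq_inv,
      inv_eq_self_of_sq ms] at this
    exact conj_eq_iff.mp this
  rcases c.et_one.mp (cU z m e1) with rfl | rfl
  · exact key v hv vU h2 (conj_eq_iff.mp (by rw [e0, one_mul]))
  · have my : y ∈ h.U := h.u_mem_U
    refine key (v * y) (mul_mem hv ⟨h.u_mem, c1_iff.mpr rfl⟩) (fun e => vU ?_) ?_
      (conj_eq_iff.mp ?_)
    · simpa using mul_mem e (inv_mem my)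
    · rwa [sq_mul (c1_iff.mp hv.2), iy.2, mul_one]
    · rw [conj_mul', e0, uy, ← c.cen, c.mul_tt]

/-! ### The setting -/

variable {Δ : Type*} [MulAction X Δ]

/-- pointwise stabilizer -/
def PS (X : Type*) [Group X] {Δ : Type*} [MulAction X Δ] (S : Set Δ) : Subgroup X where
  carrier := {g | ∀ x ∈ S, g • x = x}
  one_mem' := fun x _ => one_smul X x
  mul_mem' := fun ha hb x hx => by rw [mul_smul, hb x hx, ha x hx]
  inv_mem' := fun ha x hx => by rw [inv_smul_eq_iff, ha x hx]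

/-- a square root of `t` fixing at least two points -/
def T4 (Δ : Type*) [MulAction X Δ] (t u : X) : Prop :=
  u * u = t ∧ ∃ x y : Δ, x ≠ y ∧ u • x = x ∧ u • y = y

/-- the centralizer of an involution acting on its fixed points -/
structure SC (Δ : Type*) [MulAction X Δ] (t : X) : Prop extends Ci t where
  fix : ∀ x : Δ, t • x = x
  one : ∀ d : X, Inv d → d ≠ t → ∃! x : Δ, d • x = x
  r3 : R3 (⊤ : Subgroup X)
  tr : ∀ x y : Δ, ∃ g : X, g • x = y

theorem T4.conj (c : Ci t) (h : T4 Δ t u) (g : X) : T4 Δ t (g * u * g⁻¹) := by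
  obtain ⟨h1, x, y, h2, h3, h4⟩ := h
  exact ⟨c.sq4 h1 g, g • x, g • y, fun e => h2 (smul_left_cancel g e), conj_smul h3, conj_smul h4⟩

namespace SC

variable [Finite X] [Finite Δ] (h : SC Δ t) {α β : Δ}
include h

theorem c : Ci t := h.toCi

theorem et_smul (e : Et t a b) (α : Δ) : a • α = b • α := by
  rcases e with rfl | rfl
  · rfl
  · rw [mul_smul, h.fix]

theorem ex (hd : Inv d) (h1 : d ≠ t) : ∃ α : Δ, d • α = α := (h.one d hd h1).exists

theorem uniq (hd : Inv d) (h1 : d ≠ t) (e1 : d • α = α) (e2 : d • β = β) : α = β :=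
  (h.one d hd h1).unique e1 e2

theorem cen_fix (hd : Inv d) (h1 : d ≠ t) (e1 : d • α = α) (e : Et t (g * d * g⁻¹) d) :
    g • α = α :=
  h.uniq hd h1 (by rw [← h.et_smul e]; exact conj_smul e1) e1

theorem cen_fix' (hd : Inv d) (h1 : d ≠ t) (e1 : d • α = α) (e : g * d = d * g) : g • α = α :=
  h.cen_fix hd h1 e1 (Et.of_eq (conj_eq_iff.mpr e))

theorem T4_et (h4 : T4 Δ t u) (e : Et t v u) : T4 Δ t v := by
  obtain ⟨h1, x, y, h2, h3, h4⟩ := h4
  exact ⟨(h.c.sq_et e).trans h1, x, y, h2, (h.et_smul e x).trans h3, (h.et_smul e y).trans h4⟩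

theorem exists_D : ∃ d : X, Inv d ∧ d ≠ t := by
  obtain ⟨a, -, b, -, h1, -, -, h2, -⟩ := (r3_iff h.inv (mem_top t) fun g _ => h.c.mem_cen g).mp h.r3
  exact ⟨a, h1, h2⟩

theorem odd_univ : Odd (Set.univ : Set Δ).ncard := by
  obtain ⟨d, hd, h1⟩ := h.exists_D
  obtain ⟨α, hα⟩ := h.ex hd h1
  have := modEq_fix_elt (p := 2) (k := 1) (g := d) (by rw [pow_one, sq, hd.2])
    (S := (Set.univ : Set Δ)) fun _ _ => trivial
  rw [show Set.univ ∩ Fx Δ d = {α} from Set.ext fun z => ⟨fun e => h.uniq hd h1 e.2 hα,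
    fun e => ⟨trivial, e ▸ hα⟩⟩, Set.ncard_singleton] at this
  exact Nat.odd_iff.mpr this

theorem odd_Fx (h2 : P2 g) : Odd (Fx Δ g).ncard := by
  obtain ⟨k, hk⟩ := h2
  have := modEq_fix_elt hk (S := (Set.univ : Set Δ)) fun _ _ => trivial
  rw [Set.univ_inter] at this
  exact Nat.odd_iff.mpr (Eq.trans this.symm (Nat.odd_iff.mp h.odd_univ))

theorem exists_fix {P : Subgroup X} (hP : IsPGroup 2 P) : ∃ α : Δ, P ≤ St X α := by
  obtain ⟨z, -, hz⟩ := exists_fix_pgroup hP (S := (Set.univ : Set Δ)) (fun _ _ _ _ => trivial)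
    h.odd_univ.not_two_dvd_nat
  exact ⟨z, hz⟩

theorem syl_at {P : Subgroup X} (hP : IsPGroup 2 P) (hα : P ≤ St X α) :
    ∃ T, Syl T ⊤ ∧ P ≤ T ∧ T ≤ St X α := by
  obtain ⟨T, hT, h1⟩ := H5.exists_isSylowOf_ge hP hα
  obtain ⟨S, hS⟩ := H5.exists_isSylowOf 2 (⊤ : Subgroup X)
  obtain ⟨β, hβ⟩ := h.exists_fix hS.isPGroup
  obtain ⟨g, rfl⟩ := h.tr β α
  have h2 := syl_conj hS (mem_top g)
  exact ⟨T, h2.of_card_le hT.isPGroup le_top (hT.card_le h2.isPGroup
    (by rw [← conjS_St]; exact conjS_mono g hβ)), h1, hT.le⟩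

theorem t_mem {T K : Subgroup X} (hT : Syl T K) (hK : t ∈ K) : t ∈ T :=
  mem_of_syl hT hK (p2_of_sq h.c.tt) (h.c.t_nor T)

theorem four_cen (hu : u * u = t) (hα : u • α = α) :
    ∃ d : X, Inv d ∧ d ≠ t ∧ d * u = u * d ∧ d • α = α := by
  obtain ⟨T, hT, h1, h2⟩ := h.syl_at (h.c.p4 hu).zp (zpowers_le.mpr hα)
  obtain ⟨d, hd, h3⟩ := h.c.four_cen hT.isPGroup (r3_syl h.r3 hT) hu (h1 (mem_zpowers u))
  exact ⟨d, h3.1, h3.2.1, h3.2.2, h2 hd⟩

theorem D_at (α : Δ) : ∃ d : X, Inv d ∧ d ≠ t ∧ d • α = α := by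
  obtain ⟨d, hd, h1⟩ := h.exists_D
  obtain ⟨β, hβ⟩ := h.ex hd h1
  obtain ⟨g, rfl⟩ := h.tr β α
  exact ⟨_, hd.conj g, h.c.conj_ne g h1, conj_smul hβ⟩

theorem ro (hne : α ≠ β) {R : Subgroup X} (h1 : R ≤ St X α) (h2 : R ≤ St X β) : RO t R :=
  fun a ha e => by
    by_contra n
    exact hne (h.uniq (h.c.inv_of e n).1 (h.c.inv_of e n).2 (h1 ha) (h2 ha))

theorem ro4 (h4 : T4 Δ t u) : RO t (PS X (Fx Δ u)) := by
  obtain ⟨-, x, y, h2, h3, h4⟩ := h4
  exact h.ro h2 (fun g hg => hg x h3) fun g hg => hg y h4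

theorem Fx_nor (hu : u * u = t) (hg : g ∈ Nor (zpowers u)) (hα : α ∈ Fx Δ u) : g • α ∈ Fx Δ u :=
  (h.et_smul ((h.c.nor4 hu).mp hg) _).symm.trans (conj_smul hα)

end SC

end GC
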