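import Cfsg.Agent.GC.B

/-! Groups generated around a Bender group. -/

set_option autoImplicit false
set_option linter.unusedSectionVars false

namespace GC

open Cfsg Subgroup FT H4 BS SF
open H5.Dich (E3 R3 NF)
open H8.Sq (P2 p2_of_sq)
open scoped commutatorElement

universe u

variable {G : Type u} [Group G] [Finite G] {Ω : Type*} [MulAction G Ω] [Finite Ω] {D : Set G}
  {x y z : Ω} {τ a c e g : G}

/-- `⟨D⟩` is a Bender group acting on all of `Ω` -/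
structure Sa (D : Set G) (x y : Ω) (τ : G) : Prop extends Sr D ⊤ x y τ where
  all : ∀ z : Ω, z ∈ Pt D Ω ⊤

theorem exists_sa (h : PD D Ω) (h2 : RkD D ⊤) (hall : ∀ z : Ω, z ∈ Pt D Ω ⊤)
    (h0 : Od (LL D ⊤) = ⊥) (hne : x ≠ y) : ∃ τ, Sa D x y τ := by
  have l : Lr D ⊤ x := ⟨h2, hall x, h.not_le_of_ne (hall y) hne.symm⟩
  obtain ⟨τ, -, h1, h3⟩ := h.Pt_swap (hall x) (hall y) hne
  exact ⟨τ, h.sr_of (h.pure l) l (h0 ▸ bot_le) h1 (mem_top τ) h3 hne, hall⟩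

theorem Od_LL_fix (h : PD D Ω) (h2 : RkD D ⊤) (hall : ∀ z : Ω, z ∈ Pt D Ω ⊤) (z : Ω) :
    Od (LL D ⊤) ≤ St G z := h.Od_le_St h2.LL (Pt_LL' (hall z))

namespace Sa

variable (s : Sa D x y τ)
include s

theorem sr : Sr D ⊤ x y τ := s.toSr

theorem nL (g : G) : g ∈ Nor (LL D ⊤) := s.pd.nor_LL (mem_top g)

theorem nQ (hg : g • x = x) : g ∈ Nor (Qx D ⊤ x) := nor_Qx (s.nL g) hg

theorem nA (hg : g • x = x) : g ∈ Nor (Az D ⊤ x) := nor_Q0 (s.nQ hg)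

theorem Q_fix (hc : c ∈ Qx D ⊤ x) : c • x = x := Qx_le_St ⊤ x hc

theorem A_fix (hc : c ∈ Az D ⊤ x) : c • x = x := s.Q_fix (Az_le ⊤ x hc)

theorem dec (hz : z ≠ x) : ∃ c ∈ Qx D ⊤ x, c • y = z := s.sr.tr (s.all z) hz

theorem Q_le {P : Subgroup G} (hP : Syl P (St G x)) : Qx D ⊤ x ≤ P :=
  hP.le_of_le_normalizer (Qx_two ⊤ x) (Qx_le_St ⊤ x) fun _ hg => s.nQ (hP.le hg)

theorem mem_A (h1 : a ∈ D) (h2 : a • x = x) : a ∈ Az D ⊤ x := s.sr.mem_A_of h1 h2 (mem_top a)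

theorem A_sq (ha : a ∈ Az D ⊤ x) : a * a = 1 := s.bd.sq0 a ha

theorem A_cen (ha : a ∈ Az D ⊤ x) (hc : c ∈ Qx D ⊤ x) : a * c = c * a := s.bd.cen0 a ha c hc

theorem sqA (hc : c ∈ Qx D ⊤ x) : c * c ∈ Az D ⊤ x := by
  obtain ⟨a, ha⟩ := s.bd.toA1.exists_dist
  rcases s.bd.tri ha with h | h | h
  · rw [SF.Az, h.1]; exact mul_mem hc hc
  · exact s.bd.sq_mem h.2.1 c hc
  · exact s.bd.sq_mem h.2.1 c hc

theorem fix_all (h1 : g • x = x) (h2 : g • y = y) (hc : g ∈ Cen (Qx D ⊤ x)) (z : Ω) :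
    g • z = z := by
  by_cases e : z = x
  · rw [e, h1]
  obtain ⟨c, h, rfl⟩ := s.dec e
  rw [← mul_smul, cen_iff.mp hc c h, mul_smul, h2]

theorem odd_fix (h1 : g • x = x) (ho : Odd (orderOf g)) (hc : g ∈ Cen (Qx D ⊤ x)) (z : Ω) :
    g • z = z := by
  refine s.fix_all h1 ?_ hc z
  obtain ⟨c, h, e⟩ := s.dec (s.sr.smul_ne h1 s.ne.symm)
  have key : ∀ n : ℕ, g ^ n • y = c ^ n • y := fun n => by
    induction n with
    | zero => simp
    | succ n ih =>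
      rw [pow_succ', mul_smul, ih, ← mul_smul, cen_iff.mp hc _ (pow_mem h n), mul_smul, ← e,
        ← mul_smul, ← pow_succ]
  have h2 := key (orderOf g)
  rw [pow_orderOf_eq_one, one_smul] at h2
  have h3 := s.sr.semi (pow_mem h _) h2.symm s.ne.symm
  rw [← e, (P2.of_mem (Qx_two ⊤ x) h).eq_one (ho.of_dvd_nat (orderOf_dvd_of_pow_eq_one h3)),
    one_smul]

/-- an odd order subgroup normalized by `Q` acts trivially -/
theorem odd_triv {Y : Subgroup G} (hY : Odd (Nat.card Y)) (hx : Y ≤ St G x)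
    (hn : Qx D ⊤ x ≤ Nor Y) (hg : g ∈ Y) (z : Ω) : g • z = z :=
  s.odd_fix (hx hg) (odd_orderOf_of_mem hY hg) (cen_iff.mpr fun _ hc =>
    (comm_of_nor (Qx_two ⊤ x) hY hc hg (hn hc) (s.nQ (hx hg))).symm) z

theorem odd_le {Y : Subgroup G} (hY : Odd (Nat.card Y)) (hn : Az D ⊤ x ≤ Nor Y) : Y ≤ St G x := by
  obtain ⟨a, ha, b, hb, a1, b1, hab⟩ := exists_two (A := Az D ⊤ x)
    (le_trans (by norm_num) s.bd.four_le)
  exact s.pd.odd_le_St hY ⟨a, s.sr.A_D ha a1, b, s.sr.A_D hb b1, hn ha, hn hb, hab,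
    s.sr.A_comm ha hb⟩ ⟨a, s.sr.A_D ha a1, hn ha, s.A_fix ha⟩

theorem mem_Q_of_cen (hf : ∀ g : G, (∀ z : Ω, g • z = z) → g = 1) (hA : Ab (Qx D ⊤ x))
    (h1 : g • x = x) (hc : g ∈ Cen (Qx D ⊤ x)) : g ∈ Qx D ⊤ x := by
  obtain ⟨c, h, e⟩ := s.dec (s.sr.smul_ne h1 s.ne.symm)
  have := hf (c⁻¹ * g) (s.fix_all (by rw [mul_smul, h1, s.Q_fix (inv_mem h)])
    (by rw [mul_smul, ← e, inv_smul_smul])
    (mul_mem (cen_iff.mpr fun v hv => hA _ (inv_mem h) v hv) hc))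
  rwa [← inv_mul_eq_one.mp this]

/-- an involution with a unique fixed point is inner -/
theorem inn (hf : ∀ g : G, (∀ z : Ω, g • z = z) → g = 1) (h2 : a * a = 1) (hx : a • x = x)
    (hu : ∀ z : Ω, a • z = z → z = x) : a ∈ D := by
  have hy : y ≠ a • y := fun e => s.ne (hu y e.symm).symm
  have aa : ∀ z : Ω, a • a • z = z := fun z => by rw [← mul_smul, h2, one_smul]
  obtain ⟨d, hd, -, dy, hc⟩ := s.pd.exists_T_cen (R := zpowers a) (s.all y) (s.all _) hy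
    (pgroup_zp h2) (fun _ _ => mem_nor fun _ _ => mem_top _) fun r hr => by
      obtain ⟨n, rfl⟩ := hr
      have hz : a ^ (2 : ℤ) = 1 := by rw [zpow_two, h2]
      rcases Int.even_or_odd' n with ⟨m, rfl | rfl⟩
      · left; simp [zpow_mul, hz]
      · right; simp [zpow_add, zpow_mul, hz, aa]
  have ad := hc a (mem_zpowers a)
  have dx : d • x = x := hu _ (by rw [← mul_smul, ad, mul_smul, hx])
  have dA := s.mem_A hd dx
  have dd := s.A_sq dA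
  obtain ⟨e, he⟩ : ∃ e, e = d * a := ⟨_, rfl⟩
  have ea : a = d * e := by rw [he, ← mul_assoc, dd, one_mul]
  have ex : e • x = x := by rw [he, mul_smul, hx, dx]
  have ey : e • y = y := by rw [he, mul_smul, ← dy, s.pd.smul_smul hd]
  have ee : e * e = 1 := by rw [he, sq_mul ad.symm, dd, h2, one_mul]
  have ed : d * e = e * d := by rw [he, mul_assoc, ad]
  have nofix : ∀ c ∈ Qx D ⊤ x, c⁻¹ * (e * c * e⁻¹) ≠ d := fun c hc h => by
    refine s.sr.smul_ne (s.Q_fix hc) s.ne.symm (hu _ ?_)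
    have : a * c = c * e := by
      calc a * c = d * c * (c⁻¹ * (e * c * e⁻¹)) * e := by rw [ea]; group
        _ = c * (d * d) * e := by rw [h, s.A_cen dA hc]; group
        _ = _ := by rw [dd, mul_one]
    rw [← mul_smul, this, mul_smul, ey]
  have cA : e ∈ Cen (Az D ⊤ x) := by
    by_contra h
    obtain ⟨-, h1⟩ := sq_lemma (fun _ => s.A_sq) (s.nA ex) (fun _ _ => by rw [ee]; simp)
      (fun h' => h (le_cen1_iff.mp h')) fun p hp q hq p1 q1 => by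
        obtain ⟨k, hk, h⟩ := s.bd.K_tr hp.1 hq.1 p1 q1
        refine ⟨k, s.nA (s.sr.K_x hk), (conj_eq_iff.mp ?_).symm, h⟩
        refine s.bd.K_inj hp.1 p1 (conj_mem (s.sr.nor_K (s.nL e) ex ey) hk) hk ?_
        calc _ = e * (k * (e⁻¹ * p * e) * k⁻¹) * e⁻¹ := by group
          _ = _ := by
            rw [mul_assoc e⁻¹, c1_iff.mp hp.2, inv_mul_cancel_left, h, ← c1_iff.mp hq.2,
              mul_inv_cancel_right]
    obtain ⟨p, hp, h⟩ := h1 d ⟨dA, c1_iff.mpr ed⟩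
    exact nofix p (Az_le ⊤ x hp) (by rwa [inv_eq_self_of_sq (s.A_sq hp)])
  have key : ∀ c ∈ Qx D ⊤ x, c⁻¹ * (e * c * e⁻¹) ∈ Az D ⊤ x → c⁻¹ * (e * c * e⁻¹) = 1 :=
    fun c hc h => by
      by_contra h1
      obtain ⟨k, hk, h3⟩ := s.bd.K_tr h dA h1 (s.pd.inv d hd).1
      refine nofix _ (conj_mem (s.nQ (s.sr.K_x hk)) hc) ?_
      have := s.sr.cen_K (s.nL e) ex ey cA hk
      calc _ = k * c⁻¹ * k⁻¹ * (e * k) * c * (e * k)⁻¹ := by group
        _ = _ := by rw [this, ← h3]; group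
  have cQ : e ∈ Cen (Qx D ⊤ x) := cen_iff.mpr fun c hc => by
    have m : c⁻¹ * (e * c * e⁻¹) ∈ Qx D ⊤ x := mul_mem (inv_mem hc) (conj_mem (s.nQ ex) hc)
    have e1 : e * (c⁻¹ * (e * c * e⁻¹)) * e⁻¹ = (c⁻¹ * (e * c * e⁻¹))⁻¹ := by
      calc _ = e * c⁻¹ * e⁻¹ * (e * e) * c * (e * e)⁻¹ := by group
        _ = _ := by rw [ee]; group
    have e2 := key _ m (by rw [e1]; exact s.sqA (inv_mem m))
    rw [e1, ← mul_inv_rev, inv_eq_one] at e2
    exact conj_eq_iff.mp (inv_mul_eq_one.mp (key c hc (s.bd.mem0.mpr ⟨m, e2⟩))).symm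
  rw [ea, hf e (s.fix_all ex ey cQ), mul_one]
  exact hd

end Sa

end GC
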