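import Cfsg.Agent.GC.C

/-! The local group of a square root of the central involution. -/

set_option autoImplicit false
set_option linter.unusedSectionVars false

namespace GC

open Cfsg Subgroup FT H4 BS SF
open H5.Dich (E3 R3 NF)
open H8.Sq (P2 p2_of_sq)
open scoped commutatorElement

universe u

variable {X : Type u} [Group X] [Finite X] {Δ : Type u} [MulAction X Δ] [Finite Δ]
  {t u a b d e g k p r v w : X} {Γ : Type u} [Group Γ] [Finite Γ] [MulAction Γ (Fx Δ u)]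
  {f : Nor (zpowers u) →* Γ} {α β : Δ}

/-- the involutions other than `t` centralizing `u` -/
def Du (t u : X) : Set X := {d | Inv d ∧ d ≠ t ∧ d * u = u * d}

/-- their images -/
def Ds {Γ : Type u} [Group Γ] (t : X) {u : X} (f : Nor (zpowers u) →* Γ) : Set Γ := ph f '' Du t u

/-- the local group -/
structure Lc (Δ : Type u) [MulAction X Δ] (t : X) {u : X} {Γ : Type u} [Group Γ]
    [MulAction Γ (Fx Δ u)] (f : Nor (zpowers u) →* Γ) : Prop extends SC Δ t where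
  t4 : T4 Δ t u
  act : Act (Nor (zpowers u)) (Fx Δ u) f
  faith : ∀ y : Γ, (∀ x : Fx Δ u, y • x = x) → y = 1

theorem SC.exists_lc (h : SC Δ t) (h4 : T4 Δ t u) : ∃ (Γ : Type u) (_ : Group Γ) (_ : Finite Γ)
    (_ : MulAction Γ (Fx Δ u)) (f : Nor (zpowers u) →* Γ), Lc Δ t f := by
  obtain ⟨Γ, _, _, _, f, h1, h2⟩ := exists_loc (H := Nor (zpowers u)) (S := Fx Δ u)
    fun g hg x hx => h.Fx_nor h4.1 hg hx
  exact ⟨Γ, _, inferInstance, _, f, h, h4, h1, h2⟩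

theorem inv_part {x : X} (ha : a * a = 1) (hb : b * b = 1) (hx : x ∈ zpowers (a * b)) :
    a * x * a⁻¹ = x⁻¹ := H9.conj_inv_of_mem_zpowers (H9.invol_conj_mul ha hb) hx

theorem SC.fix_of_nor (h : SC Δ t) (hu : u * u = t) (hd : Inv d) (h1 : d ≠ t)
    (hn : d ∈ Nor (zpowers u)) (hα : d • α = α) : α ∈ Fx Δ u :=
  h.cen_fix hd h1 hα (h.c.et_comm.mp (h.c.symm (h.c.et_comm.mpr ((h.c.nor4 hu).mp hn))))

namespace Lc

variable (l : Lc Δ t f)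
include l

theorem sc : SC Δ t := l.toSC

theorem c : Ci t := l.toCi

theorem hu : u * u = t := l.t4.1

theorem ro : RO t (PS X (Fx Δ u)) := l.sc.ro4 l.t4

theorem uR : u ∈ PS X (Fx Δ u) := fun _ hx => hx

theorem cN (h : g * u = u * g) : g ∈ Nor (zpowers u) := l.c.cen_nor4 l.hu (c1_iff.mpr h)

theorem dN (h : d ∈ Du t u) : d ∈ Nor (zpowers u) := l.cN h.2.2

theorem uN : u ∈ Nor (zpowers u) := l.cN rfl

theorem tN : t ∈ Nor (zpowers u) := l.c.t_nor _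

theorem ker (hg : g ∈ Nor (zpowers u)) : ph f g = 1 ↔ g ∈ PS X (Fx Δ u) :=
  ⟨fun e x hx => (l.act.fix_iff hg (x := ⟨x, hx⟩) (y := ⟨x, hx⟩)).mp (by rw [e, one_smul]),
    fun e => l.faith _ fun x => (l.act.fix_iff hg).mpr (e x x.2)⟩

theorem ph_u : ph f u = 1 := (l.ker l.uN).mpr l.uR

theorem ph_t : ph f t = 1 := (l.ker l.tN).mpr fun x _ => l.fix x

theorem ph_et (e : Et t a b) (hb : b ∈ Nor (zpowers u)) : ph f a = ph f b := by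
  rcases e with rfl | rfl
  · rfl
  · rw [ph_mul hb l.tN, l.ph_t, mul_one]

theorem nor_PS (hg : g ∈ Nor (zpowers u)) : g ∈ Nor (PS X (Fx Δ u)) := mem_nor fun x hx y hy => by
  rw [mul_smul, mul_smul, hx _ (l.sc.Fx_nor l.hu (inv_mem hg) hy), smul_inv_smul]

theorem eq_iff (ha : a ∈ Nor (zpowers u)) (hb : b ∈ Nor (zpowers u)) :
    ph f a = ph f b ↔ a * b⁻¹ ∈ PS X (Fx Δ u) := by
  rw [← l.ker (mul_mem ha (inv_mem hb)), ph_mul ha (inv_mem hb), ph_inv hb, mul_inv_eq_one]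

theorem one_fix (hd : Inv d) (h1 : d ≠ t) (hn : d ∈ Nor (zpowers u)) :
    ∃! x : Fx Δ u, ph f d • x = x := by
  obtain ⟨α, hα⟩ := l.sc.ex hd h1
  exact ⟨⟨α, l.sc.fix_of_nor l.hu hd h1 hn hα⟩, (l.act.fix_iff hn).mpr hα, fun y hy =>
    Subtype.ext (l.sc.uniq hd h1 ((l.act.fix_iff hn).mp hy) hα)⟩

theorem ph_ne (hd : Inv d) (h1 : d ≠ t) (hn : d ∈ Nor (zpowers u)) : ph f d ≠ 1 := fun e =>
  l.c.not_one hd h1 (l.ro d ((l.ker hn).mp e) hd.2)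

theorem ph_inv' (hd : Inv d) (h1 : d ≠ t) (hn : d ∈ Nor (zpowers u)) : Inv (ph f d) :=
  ⟨l.ph_ne hd h1 hn, by rw [← ph_mul hn hn, hd.2, ph_one]⟩

/-- a 2-element of the kernel centralizing `u` and inverted by an element centralizing `u` -/
theorem et_one (h2 : P2 v) (hv : v * u = u * v) (h0 : ph f v = 1) (hd : d * u = u * d)
    (hi : d * v * d⁻¹ = v⁻¹) : Et t v 1 :=
  l.ro.inverted l.c l.hu l.uR ((l.ker (l.cN hv)).mp h0) h2 hv hd hi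

theorem mul_cen (ha : a ∈ Du t u) (hb : b ∈ Du t u) : a * b * u = u * (a * b) := by
  rw [mul_assoc, hb.2.2, ← mul_assoc, ha.2.2, mul_assoc]

theorem zp_cen (h : g * u = u * g) (hv : v ∈ zpowers g) : v * u = u * v :=
  c1_iff.mp (zpowers_le.mpr (c1_iff.mpr h) hv)

theorem same (ha : a ∈ Du t u) (hb : b ∈ Du t u) (e : ph f a = ph f b) (h2 : P2 (a * b)) :
    Et t a b := by
  have := l.et_one h2 (l.mul_cen ha hb) (by
    rw [ph_mul (l.dN ha) (l.dN hb), e, ← ph_mul (l.dN hb) (l.dN hb), hb.1.2, ph_one]) ha.2.2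
    (inv_part ha.1.2 hb.1.2 (mem_zpowers _))
  exact l.c.et_iff'.mpr (by rwa [hb.1.inv])

theorem mem_Du (hv : v * u = u * v) (h0 : ph f v ≠ 1) (h2 : Et t (v * v) 1) :
    v ∈ Du t u ∨ (v * v = t ∧ v * u ∈ Du t u) := by
  have n1 : ∀ x, ph f x ≠ 1 → ¬ Et t x 1 := fun x hx e =>
    hx ((l.ph_et e (one_mem _)).trans ph_one)
  rcases l.c.cases_sq h2 with e | e
  · exact Or.inl ⟨(l.c.inv_of e (n1 v h0)).1, (l.c.inv_of e (n1 v h0)).2, hv⟩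
  · have := l.c.inv_of (l.c.sq_mul4 e l.hu hv) (n1 _ (by
      rwa [ph_mul (l.cN hv) l.uN, l.ph_u, mul_one]))
    exact Or.inr ⟨e, this.1, this.2, by rw [hv, mul_assoc, hv]⟩

theorem exists_Du (hv : v * u = u * v) (h0 : ph f v ≠ 1) (h2 : Et t (v * v) 1) :
    ∃ d ∈ Du t u, ph f d = ph f v ∧ (d = v ∨ d = v * u) := by
  rcases l.mem_Du hv h0 h2 with h | h
  · exact ⟨v, h, rfl, Or.inl rfl⟩
  · exact ⟨_, h.2, by rw [ph_mul (l.cN hv) l.uN, l.ph_u, mul_one], Or.inr rfl⟩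

theorem conj_Du (hd : d ∈ Du t u) (hg : g ∈ Nor (zpowers u)) : g * d * g⁻¹ ∈ Du t u :=
  ⟨hd.1.conj g, l.c.conj_ne g hd.2.1, l.c.comm_r (l.c.symm ((l.c.nor4 l.hu).mp hg))
    (conj_comm hd.2.2 g)⟩

theorem pd : PD (Ds t f) (Fx Δ u) where
  inv := by rintro _ ⟨d, hd, rfl⟩; exact l.ph_inv' hd.1 hd.2.1 (l.dN hd)
  conj := by
    rintro _ ⟨d, hd, rfl⟩ y
    obtain ⟨g, hg, rfl⟩ := l.act.ex y
    exact ⟨_, l.conj_Du hd hg, ph_conj hg (l.dN hd)⟩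
  one := by rintro _ ⟨d, hd, rfl⟩; exact l.one_fix hd.1 hd.2.1 (l.dN hd)
  mul := by
    rintro _ ⟨a, ha, rfl⟩ _ ⟨b, hb, rfl⟩ hne hc
    have ia := l.ph_inv' ha.1 ha.2.1 (l.dN ha)
    have ib := l.ph_inv' hb.1 hb.2.1 (l.dN hb)
    have hm := l.mul_cen ha hb
    have i := ia.mul ib hne hc
    rw [← ph_mul (l.dN ha) (l.dN hb)] at i ⊢
    obtain ⟨x, hx, h2, e⟩ := ph_lift_two (f := f) (l.cN hm) (p2_of_sq i.2)
    have hc := l.zp_cen hm hx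
    have m : x * x ∈ zpowers (a * b) := mul_mem hx hx
    obtain ⟨d, hd, e', -⟩ := l.exists_Du hc (e ▸ i.1) (l.et_one (P2.of_mem h2.zp
      (mul_mem (mem_zpowers x) (mem_zpowers x))) (l.zp_cen hm m)
      (by rw [ph_mul (l.cN hc) (l.cN hc), e, i.2]) ha.2.2 (inv_part ha.1.2 hb.1.2 m))
    exact ⟨d, hd, e'.trans e⟩

theorem pt_all (x : Fx Δ u) : x ∈ Pt (Ds t f) (Fx Δ u) ⊤ := by
  obtain ⟨d, h1, h2, h3, h4⟩ := l.sc.four_cen l.hu x.2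
  exact ⟨_, ⟨d, ⟨h1, h2, h3⟩, rfl⟩, mem_top _, (l.act.fix_iff (l.cN h3)).mpr h4⟩

theorem LL_le : LL (Ds t f) ⊤ ≤ H5.im f (Cen1 u) := LL_le_iff.mpr (by
  rintro _ ⟨d, hd, rfl⟩ -
  exact ph_mem_im (c1_iff.mpr hd.2.2) (l.dN hd))

theorem two_pts : ∃ x y : Fx Δ u, x ≠ y := by
  obtain ⟨-, x, y, h, hx, hy⟩ := l.t4
  exact ⟨⟨x, hx⟩, ⟨y, hy⟩, fun e => h (congrArg Subtype.val e)⟩

theorem other (x : Fx Δ u) : ∃ y, x ≠ y := by
  obtain ⟨y, z, h⟩ := l.two_pts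
  by_cases e : x = y
  · exact ⟨z, e ▸ h⟩
  · exact ⟨y, e⟩

theorem u1 (ha : a ∈ Du t u) (hb : b ∈ Du t u) :
    ∃ g, g * u = u * g ∧ Et t (g * a * g⁻¹) b := by
  obtain ⟨x, y, hne⟩ := l.two_pts
  obtain ⟨γ, h1, h2⟩ := l.pd.conj_D (l.pt_all x) (l.pt_all y) hne (mem_top _) ⟨a, ha, rfl⟩
    (mem_top _) ⟨b, hb, rfl⟩
  obtain ⟨g, hg, gN, rfl⟩ := mem_im.mp (l.LL_le h1)
  rw [← ph_conj gN (l.dN ha)] at h2
  have ha' := l.conj_Du ha gN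
  have hm := l.mul_cen hb ha'
  obtain ⟨x, hx, o, ho, e, p2, od⟩ := parts (b * (g * a * g⁻¹))
  have h0 : ph f (b * (g * a * g⁻¹)) = 1 := by
    rw [ph_mul (l.dN hb) (l.dN ha'), h2, ← ph_mul (l.dN hb) (l.dN hb), hb.1.2, ph_one]
  have e1 := l.et_one p2 (l.zp_cen hm hx) (by simpa [h0] using ph_zp (f := f) (l.cN hm) hx)
    hb.2.2 (inv_part hb.1.2 ha'.1.2 hx)
  have e2 : b * x * (g * a * g⁻¹) = o := by
    rw [mul_assoc, l.c.comm_one e1, ← mul_assoc, e, mul_assoc, ← zp_comm hx ho, ← mul_assoc,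
      l.c.sq_one e1, one_mul]
  have e3 : Et t (b * x) b := by simpa using l.c.mul (Et.refl t b) e1
  obtain ⟨n, -, -, h⟩ := exists_swap ha'.1.2 ((l.c.sq_et e3).trans hb.1.2) (by rwa [e2])
  rw [e2] at h
  refine ⟨o ^ n * g, c1_iff.mp (mul_mem (pow_mem (c1_iff.mpr (l.zp_cen hm ho)) n) hg), ?_⟩
  rw [show o ^ n * g * a * (o ^ n * g)⁻¹ = o ^ n * (g * a * g⁻¹) * (o ^ n)⁻¹ by group, h]
  exact e3

theorem exists_sa (h2 : RkD (Ds t f) ⊤) {x y : Fx Δ u} (hne : x ≠ y) :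
    ∃ τ, Sa (Ds t f) x y τ :=
  GC.exists_sa l.pd h2 l.pt_all (eq_bot_iff.mpr fun g hg => l.faith g fun z =>
    Od_LL_fix l.pd h2 l.pt_all z hg) hne

theorem rk_of (ha : a ∈ Du t u) (hb : b ∈ Du t u) (h2 : P2 (a * b)) (hn : ¬ Et t a b) :
    RkD (Ds t f) ⊤ := by
  refine l.pd.rk_of_even ⟨a, ha, rfl⟩ ⟨b, hb, rfl⟩ (mem_top _) (mem_top _) fun ho => hn ?_
  rw [← ph_mul (l.dN ha) (l.dN hb)] at ho
  have := (ph_p2 (f := f) (l.cN (l.mul_cen ha hb)) h2).eq_one ho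
  rw [ph_mul (l.dN ha) (l.dN hb), mul_eq_one_iff_eq_inv,
    (l.ph_inv' hb.1 hb.2.1 (l.dN hb)).inv] at this
  exact l.same ha hb this h2

end Lc

end GC
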