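import Cfsg.Agent.GC.D

/-! The local group of rank at least two. -/

set_option autoImplicit false
set_option linter.unusedSectionVars false

namespace GC

open Cfsg Subgroup FT H4 BS SF
open H5.Dich (E3 R3 NF)
open H8.Sq (P2 p2_of_sq)
open scoped commutatorElement

universe u

variable {X : Type u} [Group X] [Finite X] {Δ : Type u} [MulAction X Δ] [Finite Δ]
  {t u a b d e g k p r v w : X} {Γ : Type u} [Group Γ] [Finite Γ] [MulAction Γ (Fx Δ u)]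
  {f : Nor (zpowers u) →* Γ} {α β : Δ} {F P : Subgroup X}

/-- a quaternion group of order 8 -/
structure Q8 (t : X) (F : Subgroup X) (a b : X) : Prop where
  tm : t ∈ F
  am : a ∈ F
  bm : b ∈ F
  sq : ∀ x ∈ F, ¬ Et t x 1 → x * x = t
  a1 : ¬ Et t a 1
  b1 : ¬ Et t b 1
  ab : ¬ Et t a b
  cls : ∀ x ∈ F, Et t x 1 ∨ Et t x a ∨ Et t x b ∨ Et t x (a * b)

/-- in a group all of whose elements outside `⟨t⟩` square to `t` independent elements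
anticommute -/
theorem Ci.anti' (c : Ci t) (h : ∀ x ∈ F, ¬ Et t x 1 → x * x = t) (ha : a ∈ F) (hb : b ∈ F)
    (a1 : ¬ Et t a 1) (b1 : ¬ Et t b 1) (hab : ¬ Et t a b) :
    ¬ Et t (a * b) 1 ∧ a * b * a⁻¹ = b * t := by
  have n : ¬ Et t (a * b) 1 := fun e =>
    hab (c.trans (c.rcancel (g := b) (by simpa using e)) (c.inv4' (h b hb b1)))
  refine ⟨n, ?_⟩
  calc a * b * a⁻¹ = a * b * (a * b) * b⁻¹ * (a * a)⁻¹ := by group
    _ = _ := by rw [h _ (mul_mem ha hb) n, h a ha a1, c.inv4 (h b hb b1), c.ti, ← c.cen, c.mtt]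

/-- the Sylow 2-subgroup of the kernel -/
abbrev Qk (Δ : Type u) [MulAction X Δ] (u : X) (P : Subgroup X) : Subgroup X := P ⊓ PS X (Fx Δ u)

/-- the local structure with local group `A₅` or `S₅` -/
structure BL (t u : X) (P F : Subgroup X) (a b k : X) (α : Δ) : Prop where
  q8 : Q8 t F a b
  le : F ≤ P
  cen : F ≤ Cen (Qk Δ u P)
  inf : ∀ x ∈ F, x ∈ PS X (Fx Δ u) → Et t x 1
  inv : ∀ d ∈ P, d * d = 1 → d ∈ Qk Δ u P ⊔ F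
  norE : P ≤ Nor (Qk Δ u P ⊔ F)
  cenF : ∀ g ∈ P, (∀ x ∈ F, Et t (g * x * g⁻¹) x) → g ∈ Qk Δ u P ⊔ F
  fixa : ∀ g ∈ P, Et t (g * a * g⁻¹) a
  kodd : Odd (orderOf k)
  kF : k ∈ Nor F
  kQ : k ∈ Cen (Qk Δ u P)
  ktr : ∀ x ∈ F, ∀ y ∈ F, ¬ Et t x 1 → ¬ Et t y 1 → ∃ n : ℕ, Et t (k ^ n * x * (k ^ n)⁻¹) y
  o1 : ∀ Y ≤ Nor (zpowers u), Odd (Nat.card Y) → F ≤ Nor Y → Y ≤ PS X (Fx Δ u)
  o2 : (Fx Δ u).ncard = 5
  o3 : ∀ s ∈ P, s ∉ Qk Δ u P ⊔ F → Et t (s * s) 1 → ∃ β ∈ Fx Δ u, β ≠ α ∧ s • β = β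

/-- the local group together with a Sylow 2-subgroup -/
structure Ls (t : X) {u : X} {Γ : Type u} [Group Γ] [MulAction Γ (Fx Δ u)]
    (f : Nor (zpowers u) →* Γ) (x y : Fx Δ u) (τ : Γ) (P : Subgroup X) : Prop extends Lc Δ t f where
  sa : Sa (Ds t f) x y τ
  syl : Syl P (Nor (zpowers u))
  st : P ≤ St X (x : Δ)

namespace Ls

variable {x y : Fx Δ u} {τ z : Γ} (l : Ls t f x y τ P)
include l

theorem lc : Lc Δ t f := l.toLc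

theorem pN (hp : p ∈ P) : p ∈ Nor (zpowers u) := l.syl.le hp

theorem p2 (hp : p ∈ P) : P2 p := P2.of_mem l.syl.isPGroup hp

theorem uP : u ∈ P := l.syl.le_of_le_normalizer (l.lc.c.p4 l.lc.hu).zp le_normalizer l.syl.le
  (mem_zpowers u)

theorem tP : t ∈ P := l.lc.hu ▸ mul_mem l.uP l.uP

theorem ph_x (hp : p ∈ P) : ph f p • x = x := (l.act.fix_iff (l.pN hp)).mpr (l.st hp)

theorem norC (hg : g ∈ Nor (zpowers u)) : g ∈ Nor (Cen1 u) := by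
  rw [← FT.cen_zpowers]; exact normalizer_le_normalizer_centralizer _ hg

theorem sylC : Syl (P ⊓ Cen1 u) (Cen1 u) :=
  l.syl.inf_of_le_normalizer (l.lc.c.cen_nor4 l.lc.hu) fun _ h => l.norC (l.pN h)

theorem exC (hz : z ∈ Qx (Ds t f) ⊤ x) : ∃ p ∈ P, p * u = u * p ∧ ph f p = z := by
  have := (l.sylC.im (f := f) (l.lc.c.cen_nor4 l.lc.hu)).le_of_le_normalizer (Qx_two ⊤ x)
    (((Qx_le ⊤ x).trans inf_le_left).trans l.lc.LL_le) (fun z hz => by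
      obtain ⟨p, hp, -, rfl⟩ := mem_im.mp hz
      exact l.sa.nQ (l.ph_x hp.1)) hz
  obtain ⟨p, hp, -, e⟩ := mem_im.mp this
  exact ⟨p, hp.1, c1_iff.mp hp.2, e⟩

theorem liftD (hz : z ∈ SF.Az (Ds t f) ⊤ x) (h1 : z ≠ 1) : ∃ d ∈ P, d ∈ Du t u ∧ ph f d = z := by
  obtain ⟨d, hd, e⟩ := l.sa.sr.A_D hz h1
  obtain ⟨p, hp, pu, e'⟩ := l.exC (Az_le ⊤ x hz)
  have hle : P ⊓ Cen1 u ≤ Nor (zpowers u) := fun _ h => l.pN h.1
  obtain ⟨g, hg, h⟩ := H8.Sq.conj_into (l.sylC.of_le (H := H5.pre f (H5.im f (P ⊓ Cen1 u)) ⊓ Cen1 u)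
    (le_inf (H5.le_pre_im hle) inf_le_right) inf_le_right) (x := d)
    ⟨mem_pre.mpr ⟨l.lc.dN hd, mem_im.mpr ⟨p, ⟨hp, c1_iff.mpr pu⟩, l.pN hp, e'.trans e.symm⟩⟩,
      c1_iff.mpr hd.2.2⟩ (p2_of_sq hd.1.2)
  obtain ⟨gN, h2⟩ := mem_pre.mp hg.1
  obtain ⟨q, hq, qN, e2⟩ := mem_im.mp h2
  refine ⟨_, cmem (inv_mem hq.1) h.1, l.lc.conj_Du (l.lc.conj_Du hd gN) (inv_mem qN), ?_⟩
  rw [ph_conj (inv_mem qN) (l.lc.dN (l.lc.conj_Du hd gN)), ph_conj gN (l.lc.dN hd), ph_inv qN, e2, e]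
  group

theorem inn (hp : p ∈ P) (h2 : ph f p * ph f p = 1) (hu : ∀ β ∈ Fx Δ u, p • β = β → β = x) :
    ph f p ∈ SF.Az (Ds t f) ⊤ x :=
  l.sa.mem_A (l.sa.inn l.faith h2 (l.ph_x hp) fun z hz =>
    Subtype.ext (hu z z.2 ((l.act.fix_iff (l.pN hp)).mp hz))) (l.ph_x hp)

theorem inn' (hp : d ∈ P) (hd : Inv d) (h1 : d ≠ t) : ph f d ∈ SF.Az (Ds t f) ⊤ x :=
  l.inn hp (l.lc.ph_inv' hd h1 (l.pN hp)).2 fun _ _ h => l.lc.sc.uniq hd h1 h (l.st hp)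

theorem norL (hg : g ∈ Nor (zpowers u)) (h : ph f g • x = x) :
    g ∈ Nor (H5.pre f (Qx (Ds t f) ⊤ x)) := nor_pre hg (l.sa.nQ h)

theorem lift_k (hz : z • x = x) (ho : Odd (orderOf z)) : ∃ k ∈ Nor (zpowers u), Odd (orderOf k) ∧
    ph f k = z ∧ k ∈ Nor (P ⊓ H5.pre f (Qx (Ds t f) ⊤ x)) := by
  have hS := l.syl.inf_of_le_normalizer (H5.pre_le (f := f) (Qx (Ds t f) ⊤ x))
    fun _ h => l.norL (l.pN h) (l.ph_x h)
  obtain ⟨g, hg, rfl⟩ := l.act.ex z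
  obtain ⟨n, hn, h⟩ := hS.frattini (l.norL hg hz)
  obtain ⟨nN, h1⟩ := mem_pre.mp hn
  obtain ⟨p, hp, -, e⟩ := l.exC h1
  have m : p * (n⁻¹ * g) ∈ Nor (zpowers u) := mul_mem (l.pN hp) (mul_mem (inv_mem nN) hg)
  have e1 : ph f (p * (n⁻¹ * g)) = ph f g := by
    rw [ph_mul (l.pN hp) (mul_mem (inv_mem nN) hg), ph_mul (inv_mem nN) hg, ph_inv nN, e,
      mul_inv_cancel_left]
  obtain ⟨k, hk, h2, h3⟩ := ph_lift_odd (f := f) m (e1 ▸ ho)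
  exact ⟨k, zpowers_le.mpr m hk, h2, h3.trans e1, zpowers_le.mpr (mul_mem (le_normalizer
    (show p ∈ P ⊓ _ from ⟨hp, mem_pre.mpr ⟨l.pN hp, e ▸ h1⟩⟩)) h) hk⟩

theorem roQ : RO t (Qk Δ u P) := l.lc.ro.mono l.lc.c inf_le_right

theorem uQ : u ∈ Qk Δ u P := ⟨l.uP, l.lc.uR⟩

theorem norQ (hp : p ∈ P) : p ∈ Nor (Qk Δ u P) :=
  mem_nor_inf (le_normalizer hp) (l.lc.nor_PS (l.pN hp))

theorem k_cen (hk : k ∈ Nor (zpowers u)) (ho : Odd (orderOf k))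
    (hn : k ∈ Nor (P ⊓ H5.pre f (Qx (Ds t f) ⊤ x))) : k ∈ Cen (Qk Δ u P) :=
  cen_iff.mpr fun _ hq => l.roQ.odd_cen l.lc.c (l.syl.isPGroup.to_le inf_le_left) l.lc.hu l.uQ
    (fun _ h => l.pN h.1) ho (mem_nor fun v hv => ⟨(conj_mem hn ⟨hv.1, mem_pre.mpr ⟨l.pN hv.1, by
      rw [(l.lc.ker (l.pN hv.1)).mpr hv.2]; exact one_mem _⟩⟩).1, conj_mem (l.lc.nor_PS hk) hv.2⟩)
    (l.lc.c.odd_cen4 l.lc.hu hk ho) hq

/-- membership in the preimage of `Z` -/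
def M2 (t : X) {u : X} {Γ : Type u} [Group Γ] [MulAction Γ (Fx Δ u)] (f : Nor (zpowers u) →* Γ)
    (x : Fx Δ u) (P : Subgroup X) (e : X) : Prop :=
  e ∈ P ∧ e * u = u * e ∧ ph f e ∈ SF.Az (Ds t f) ⊤ x ∧ Et t (e * e) 1

theorem m2_ker (h : M2 t f x P e) (h0 : ph f e = 1) : e ∈ zpowers u := by
  have hR := (l.lc.ker (l.pN h.1)).mp h0
  rcases l.lc.c.cases_sq h.2.2.2 with e | e
  · exact (l.lc.c.mem4 l.lc.hu).mpr (Or.inl (l.lc.ro _ hR e))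
  · exact (l.lc.c.mem4 l.lc.hu).mpr (Or.inr (l.lc.ro.four l.lc.c l.lc.hu l.lc.uR e hR h.2.1))

theorem m2_D (hp : d ∈ P) (hd : d ∈ Du t u) : M2 t f x P d :=
  ⟨hp, hd.2.2, l.inn' hp hd.1 hd.2.1, Et.of_eq hd.1.2⟩

theorem zp_sq (hv : v ∈ zpowers u) : Et t (v * v) 1 := by
  rcases (l.lc.c.mem4 l.lc.hu).mp hv with e | e
  · exact Et.of_eq (l.lc.c.sq_one e)
  · rw [l.lc.c.sq_et e, l.lc.hu]; exact l.lc.c.t_et

theorem zp_c (h : g * u = u * g) (hv : v ∈ zpowers u) : g * v = v * g :=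
  (c1_iff.mp (zpowers_le.mpr (c1_iff.mpr h.symm) hv)).symm

theorem m2_dec (h : M2 t f x P e) :
    ∃ d, (d = 1 ∨ (d ∈ P ∧ d ∈ Du t u)) ∧ ∃ v ∈ zpowers u, e = d * v := by
  by_cases h0 : ph f e = 1
  · exact ⟨1, Or.inl rfl, e, l.m2_ker h h0, (one_mul e).symm⟩
  obtain ⟨d, hd, -, rfl | rfl⟩ := l.lc.exists_Du h.2.1 h0 h.2.2.2
  · exact ⟨d, Or.inr ⟨h.1, hd⟩, 1, one_mem _, (mul_one d).symm⟩
  · exact ⟨_, Or.inr ⟨mul_mem h.1 l.uP, hd⟩, u⁻¹, inv_mem (mem_zpowers u), by group⟩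

theorem m2_mul (ha : M2 t f x P a) (hb : M2 t f x P b) : M2 t f x P (a * b) := by
  have hc : a * b * u = u * (a * b) := c1_iff.mp (mul_mem (c1_iff.mpr ha.2.1) (c1_iff.mpr hb.2.1))
  refine ⟨mul_mem ha.1 hb.1, hc, by
    rw [ph_mul (l.pN ha.1) (l.pN hb.1)]; exact mul_mem ha.2.2.1 hb.2.2.1, ?_⟩
  obtain ⟨d, hd, v, hv, rfl⟩ := l.m2_dec ha
  obtain ⟨d', hd', v', hv', rfl⟩ := l.m2_dec hb
  have c1 : d * u = u * d := by rcases hd with rfl | h; exacts [by simp, h.2.2.2]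
  have c2 : d' * u = u * d' := by rcases hd' with rfl | h; exacts [by simp, h.2.2.2]
  have c3 : d * d' * u = u * (d * d') := c1_iff.mp (mul_mem (c1_iff.mpr c1) (c1_iff.mpr c2))
  rw [show d * v * (d' * v') = d * d' * (v * v') by
    rw [mul_assoc, ← mul_assoc v, ← l.zp_c c2 hv]; group, sq_mul (l.zp_c c3 (mul_mem hv hv'))]
  suffices Et t (d * d' * (d * d')) 1 by simpa using l.lc.c.mul this (l.zp_sq (mul_mem hv hv'))
  rcases hd with rfl | h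
  · rcases hd' with rfl | h'
    · exact Et.of_eq (by simp)
    · exact Et.of_eq (by simpa using h'.2.1.2)
  rcases hd' with rfl | h'
  · exact Et.of_eq (by simpa using h.2.1.2)
  have m := mul_mem h.1 h'.1
  have m' : d * d' * (d * d') ∈ zpowers (d * d') := mul_mem (mem_zpowers _) (mem_zpowers _)
  refine l.lc.et_one (l.p2 (mul_mem m m)) (l.lc.zp_cen c3 m') ?_ c1 (inv_part h.2.1.2 h'.2.1.2 m')
  rw [ph_mul (l.pN m) (l.pN m), ph_mul (l.pN h.1) (l.pN h'.1)]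
  exact l.sa.A_sq (mul_mem (l.m2_D h.1 h.2).2.2.1 (l.m2_D h'.1 h'.2).2.2.1)

theorem m2_one : M2 t f x P 1 := ⟨one_mem _, by simp, ph_one (f := f) ▸ one_mem _, Et.of_eq (by simp)⟩

theorem m2_inv (ha : M2 t f x P a) : M2 t f x P a⁻¹ :=
  ⟨inv_mem ha.1, c1_iff.mp (inv_mem (c1_iff.mpr ha.2.1)), by
    rw [ph_inv (l.pN ha.1)]; exact inv_mem ha.2.2.1, by simpa using l.lc.c.einv ha.2.2.2⟩

theorem m2_et (h : Et t a b) (hb : M2 t f x P b) : M2 t f x P a :=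
  ⟨l.lc.c.mem_of l.tP h hb.1, l.lc.c.comm_l h hb.2.1, l.lc.ph_et h (l.pN hb.1) ▸ hb.2.2.1,
    l.lc.c.sq_et h ▸ hb.2.2.2⟩

theorem m2_self (ha : M2 t f x P a) : Et t a⁻¹ a :=
  l.lc.c.symm (l.lc.c.et_iff'.mpr (by simpa using ha.2.2.2))

theorem m2_comm (ha : M2 t f x P a) (hb : M2 t f x P b) : Et t (a * b) (b * a) :=
  l.lc.c.trans (l.lc.c.symm (l.m2_self (l.m2_mul ha hb)))
    (by simpa using l.lc.c.mul (l.m2_self hb) (l.m2_self ha))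

theorem m2_L (ha : M2 t f x P a) : a ∈ P ⊓ H5.pre f (Qx (Ds t f) ⊤ x) :=
  ⟨ha.1, mem_pre.mpr ⟨l.pN ha.1, Az_le ⊤ x ha.2.2.1⟩⟩

theorem m2_conj (hk : k ∈ Nor (zpowers u)) (hx : ph f k • x = x)
    (hn : k ∈ Nor (P ⊓ H5.pre f (Qx (Ds t f) ⊤ x))) (ha : M2 t f x P a) :
    M2 t f x P (k * a * k⁻¹) :=
  ⟨(conj_mem hn (l.m2_L ha)).1, c1_iff.mp (conj_mem (l.norC hk) (c1_iff.mpr ha.2.1)), by
    rw [ph_conj hk (l.pN ha.1)]; exact conj_mem (l.sa.nA hx) ha.2.2.1, by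
    rw [sq_conj]; simpa using l.lc.c.econj k ha.2.2.2⟩

theorem m2_ex (hz : z ∈ SF.Az (Ds t f) ⊤ x) : ∃ e, M2 t f x P e ∧ ph f e = z := by
  by_cases h : z = 1
  · exact ⟨1, l.m2_one, h ▸ ph_one⟩
  obtain ⟨d, h1, h2, e⟩ := l.liftD hz h
  exact ⟨d, l.m2_D h1 h2, e⟩

/-- the complement `F` -/
structure FF (t : X) {u : X} {Γ : Type u} [Group Γ] [MulAction Γ (Fx Δ u)]
    (f : Nor (zpowers u) →* Γ) (x y : Fx Δ u) (τ : Γ) (P F : Subgroup X) (k : X) : Prop where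
  kN : k ∈ Nor (zpowers u)
  kodd : Odd (orderOf k)
  kK : zpowers (ph f k) = Kg (Ez (Ds t f) ⊤ x y) τ
  kL : k ∈ Nor (P ⊓ H5.pre f (Qx (Ds t f) ⊤ x))
  kF : k ∈ Nor F
  tm : t ∈ F
  m2 : ∀ e ∈ F, M2 t f x P e
  cen : F ≤ Cen (Qk Δ u P)
  inf : ∀ e ∈ F, ph f e = 1 → Et t e 1
  surj : ∀ z ∈ SF.Az (Ds t f) ⊤ x, ∃ e ∈ F, ph f e = z
  tr : ∀ a ∈ F, ∀ b ∈ F, ¬ Et t a 1 → ¬ Et t b 1 → ∃ n : ℕ, Et t (k ^ n * a * (k ^ n)⁻¹) b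

theorem exists_FF : ∃ F k, FF t f x y τ P F k := by
  have c := l.lc.c
  obtain ⟨κ, hK, sz⟩ := l.sa.bd.exists_suz
  have κK : κ ∈ Kg (Ez (Ds t f) ⊤ x y) τ := hK ▸ mem_zpowers κ
  have κx := l.sa.sr.K_x κK
  obtain ⟨k, kN, ko, rfl, kL⟩ := l.lift_k κx (odd_orderOf_of_mem l.sa.sr.K_odd κK)
  have kQ := l.k_cen kN ko kL
  have mc := fun a ha => l.m2_conj (a := a) kN κx kL ha
  let F : Subgroup X :=
    { carrier := {v | ∃ e, M2 t f x P e ∧ Et t v (k * e * k⁻¹ * e⁻¹)}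
      one_mem' := ⟨1, l.m2_one, Et.of_eq (by simp)⟩
      mul_mem' := by
        rintro v w ⟨a, ha, h1⟩ ⟨b, hb, h2⟩
        refine ⟨_, l.m2_mul ha hb, c.trans (c.mul h1 h2) ?_⟩
        rw [show k * (a * b) * k⁻¹ * (a * b)⁻¹ = k * a * k⁻¹ * (k * b * k⁻¹ * b⁻¹ * a⁻¹) by group,
          mul_assoc]
        exact c.mul (Et.refl _ _) (l.m2_comm (l.m2_inv ha) (l.m2_mul (mc b hb) (l.m2_inv hb)))
      inv_mem' := by
        rintro v ⟨a, ha, h1⟩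
        exact ⟨a, ha, c.trans (c.einv h1) (l.m2_self (l.m2_mul (mc a ha) (l.m2_inv ha)))⟩ }
  have m2 : ∀ e ∈ F, M2 t f x P e := by
    rintro v ⟨a, ha, h1⟩
    exact l.m2_et h1 (l.m2_mul (mc a ha) (l.m2_inv ha))
  have phe : ∀ a, M2 t f x P a → ph f (k * a * k⁻¹ * a⁻¹) =
      ph f k * ph f a * (ph f k)⁻¹ * (ph f a)⁻¹ := fun a ha => by
    rw [ph_mul (l.pN (mc a ha).1) (inv_mem (l.pN ha.1)), ph_conj kN (l.pN ha.1), ph_inv (l.pN ha.1)]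
  have fpf : ∀ z ∈ SF.Az (Ds t f) ⊤ x, ph f k * z = z * ph f k → z = 1 := fun z hz e => by
    by_contra h
    exact sz.ne (l.sa.bd.K_fpf (Az_le ⊤ x hz) h κK e)
  have inf : ∀ e ∈ F, ph f e = 1 → Et t e 1 := by
    rintro v ⟨a, ha, h1⟩ h0
    rw [l.lc.ph_et h1 (l.pN (l.m2_mul (mc a ha) (l.m2_inv ha)).1), phe a ha, mul_inv_eq_one,
      conj_eq_iff] at h0
    rwa [conj_eq_iff.mpr (l.zp_c (c.odd_cen4 l.lc.hu kN ko) (l.m2_ker ha (fpf _ ha.2.2.1 h0))),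
      mul_inv_cancel] at h1
  have kF : k ∈ Nor F := mem_nor (by
    rintro v ⟨a, ha, h1⟩
    exact ⟨_, mc a ha, c.trans (c.econj k h1) (Et.of_eq (by group))⟩)
  refine ⟨F, k, kN, ko, hK, kL, kF, ⟨1, l.m2_one, by simpa using c.t_et⟩, m2, ?_, inf,
    fun z hz => ?_, fun a ha b hb a1 b1 => ?_⟩
  · rintro v ⟨a, ha, h1⟩
    refine c.mem_of (cen_iff.mpr fun q _ => (c.cen q).symm) h1 ?_
    rw [mul_assoc, mul_assoc, ← mul_assoc a]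
    exact mul_mem kQ (conj_mem (normalizer_le_normalizer_centralizer _ (l.norQ ha.1)) (inv_mem kQ))
  · obtain ⟨z', hz', e⟩ := H8.Sq.fpf_surj (l.sa.nA κx) fpf hz
    obtain ⟨a, ha, rfl⟩ := l.m2_ex hz'
    exact ⟨_, ⟨a, ha, Et.refl _ _⟩, (phe a ha).trans e⟩
  · obtain ⟨n, e⟩ := sz.tr _ (m2 a ha).2.2.1 _ (m2 b hb).2.2.1 (fun e => a1 (inf a ha e))
      fun e => b1 (inf b hb e)
    have m := conj_mem (pow_mem kF n) ha
    refine ⟨n, c.et_iff'.mpr (inf _ (mul_mem m (inv_mem hb)) ?_)⟩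
    rw [ph_mul (l.pN (m2 _ m).1) (inv_mem (l.pN (m2 b hb).1)), ph_inv (l.pN (m2 b hb).1),
      ph_conj (pow_mem kN n) (l.pN (m2 a ha).1), ph_pow kN, ← e, mul_inv_cancel]

variable (h : FF t f x y τ P F k)
include h

theorem FF_dec (he : M2 t f x P e) : ∃ a ∈ F, ∃ v ∈ zpowers u, e = a * v := by
  obtain ⟨a, ha, e1⟩ := h.surj _ he.2.2.1
  refine ⟨a, ha, a⁻¹ * e, l.m2_ker (l.m2_mul (l.m2_inv (h.m2 a ha)) he) ?_, by group⟩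
  rw [ph_mul (inv_mem (l.pN (h.m2 a ha).1)) (l.pN he.1), ph_inv (l.pN (h.m2 a ha).1), e1,
    inv_mul_cancel]

theorem FF_et (ha : a ∈ F) (hb : b ∈ F) (e : ph f a = ph f b) : Et t a b :=
  l.lc.c.et_iff'.mpr (h.inf _ (mul_mem ha (inv_mem hb)) (by
    rw [ph_mul (l.pN (h.m2 a ha).1) (inv_mem (l.pN (h.m2 b hb).1)), ph_inv (l.pN (h.m2 b hb).1), e,
      mul_inv_cancel]))

theorem FF_dich : (∀ a ∈ F, a * a = 1) ∨ ∀ a ∈ F, ¬ Et t a 1 → a * a = t := by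
  have c := l.lc.c
  by_contra hc
  rw [not_or] at hc
  obtain ⟨h1, h2⟩ := hc
  push Not at h1 h2
  obtain ⟨a, ha, a2⟩ := h1
  obtain ⟨b, hb, b1, b2⟩ := h2
  obtain ⟨n, e⟩ := h.tr a ha b hb (fun e => a2 (c.sq_one e)) b1
  rw [← c.sq_et e, c.sq4 ((c.cases_sq (h.m2 a ha).2.2.2).resolve_left a2)] at b2
  exact b2 rfl

theorem sing (hs : ∀ a ∈ F, a * a = 1) :
    (∀ a ∈ P, ∀ b ∈ P, a ∈ Du t u → b ∈ Du t u → a * b = b * a) ∧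
      ∀ a ∈ P, Inv a → a * u = u * a := by
  have c := l.lc.c
  have key : ∀ d ∈ P, d ∈ Du t u → d ∈ F := fun d hp hd => by
    obtain ⟨a, ha, v, hv, rfl⟩ := l.FF_dec h (l.m2_D hp hd)
    rcases (c.mem4 l.lc.hu).mp hv with e | e
    · exact mul_mem ha (c.mem_of h.tm e (one_mem _))
    · have := hd.1.2
      rw [sq_mul (l.zp_c (h.m2 a ha).2.1 hv), hs a ha, c.sq_et e, l.lc.hu, one_mul] at this
      exact absurd this c.t1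
  refine ⟨fun a ha b hb h1 h2 => comm_of_sq hs (key a ha h1) (key b hb h2), fun a ha ia => ?_⟩
  by_contra hc
  have at' : a ≠ t := fun e => hc (e ▸ (c.cen u).symm)
  have au : a * u * a⁻¹ = u * t :=
    ((c.nor4 l.lc.hu).mp (l.pN ha)).resolve_left fun e => hc (conj_eq_iff.mp e)
  obtain ⟨d, hp, hd, e⟩ := l.liftD (l.inn' ha ia at') (l.lc.ph_ne ia at' (l.pN ha))
  have m : a * d⁻¹ ∈ Qk Δ u P :=
    ⟨P.mul_mem ha (P.inv_mem hp), (l.lc.eq_iff (l.pN ha) (l.pN hp)).mp e.symm⟩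
  have h1 := l.roQ.sq_inv c l.lc.hu l.uQ m (l.p2 m.1) (by
    rw [← au]
    calc _ = a * (d⁻¹ * u * d⁻¹⁻¹) * a⁻¹ := by group
      _ = _ := by rw [conj_eq_iff.mpr (c1_iff.mp (inv_mem (c1_iff.mpr hd.2.2)))])
  have h2 := sq_mul (cen_iff.mp (h.cen (key d hp hd)) _ m).symm
  rw [inv_mul_cancel_right, ia.2, h1, hd.1.2, mul_one] at h2
  exact c.t1 h2.symm

variable (hs : ∀ a ∈ F, ¬ Et t a 1 → a * a = t)
include hs

theorem cls (ha : a ∈ F) (hb : b ∈ F) (a1 : ¬ Et t a 1) (b1 : ¬ Et t b 1) (hab : ¬ Et t a b)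
    (hv : v ∈ F) : Et t v 1 ∨ Et t v a ∨ Et t v b ∨ Et t v (a * b) := by
  have c := l.lc.c
  by_contra hc
  simp only [not_or] at hc
  obtain ⟨h1, h2, h3, h4⟩ := hc
  have e1 := (c.anti' hs hv ha h1 a1 h2).2
  have e2 := (c.anti' hs hv hb h1 b1 h3).2
  have e3 := (c.anti' hs hv (mul_mem ha hb) h1 (c.anti' hs ha hb a1 b1 hab).1 h4).2
  rw [conj_mul', e1, e2, c.mul_tt] at e3
  exact c.ne_mul _ e3

theorem exists_ab : ∃ a ∈ F, ∃ b ∈ F, ¬ Et t a 1 ∧ ¬ Et t b 1 ∧ ¬ Et t a b := by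
  obtain ⟨z, hz, z', hz', h1, h2, h3⟩ := exists_two (A := SF.Az (Ds t f) ⊤ x)
    (le_trans (by norm_num) l.sa.bd.four_le)
  obtain ⟨a, ha, rfl⟩ := h.surj z hz
  obtain ⟨b, hb, rfl⟩ := h.surj z' hz'
  exact ⟨a, ha, b, hb, fun e => h1 ((l.lc.ph_et e (one_mem _)).trans ph_one),
    fun e => h2 ((l.lc.ph_et e (one_mem _)).trans ph_one),
    fun e => h3 (l.lc.ph_et e (l.pN (h.m2 b hb).1))⟩

theorem card_A : Nat.card (SF.Az (Ds t f) ⊤ x) = 4 := by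
  refine le_antisymm ?_ l.sa.bd.four_le
  obtain ⟨a, ha, b, hb, a1, b1, hab⟩ := l.exists_ab h hs
  have aN := l.pN (h.m2 a ha).1
  have bN := l.pN (h.m2 b hb).1
  have : (SF.Az (Ds t f) ⊤ x : Set Γ) ⊆ {1, ph f a, ph f b, ph f (a * b)} := fun z hz => by
    obtain ⟨v, hv, rfl⟩ := h.surj z hz
    rcases l.cls h hs ha hb a1 b1 hab hv with e | e | e | e
    · exact Or.inl ((l.lc.ph_et e (one_mem _)).trans ph_one)
    · exact Or.inr (Or.inl (l.lc.ph_et e aN))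
    · exact Or.inr (Or.inr (Or.inl (l.lc.ph_et e bN)))
    · exact Or.inr (Or.inr (Or.inr (l.lc.ph_et e (mul_mem aN bN))))
  have h1 := Set.ncard_le_ncard this
  rw [← SetLike.coe_sort_coe, Nat.card_coe_set_eq]
  refine h1.trans ((Set.ncard_insert_le _ _).trans ?_)
  have h2 := Set.ncard_insert_le (ph f a) {ph f b, ph f (a * b)}
  have h3 := Set.ncard_insert_le (ph f b) {ph f (a * b)}
  rw [Set.ncard_singleton] at h3
  omega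

theorem not_U3 {ω : Γ} (hna : ¬ Ab (Qx (Ds t f) ⊤ x))
    (hc : Nat.card (Qx (Ds t f) ⊤ x) = Nat.card (SF.Az (Ds t f) ⊤ x) ^ 3)
    (hw : WE (Qx (Ds t f) ⊤ x) (Ez (Ds t f) ⊤ x y) ω) : False := by
  have c := l.lc.c
  have wx : ω • x = x := hw.1.2.1
  obtain ⟨w, wN, wo, rfl, wL⟩ := l.lift_k wx (l.sa.bd.toA1.odd_D hw.1)
  have wu := c.odd_cen4 l.lc.hu wN wo
  have wF : ∀ e ∈ F, w * e = e * w := fun e he => by
    have m := h.m2 e he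
    have m' := l.m2_mul (l.m2_inv m) (l.m2_conj wN wx wL m)
    refine cen_of_stable wo (l.zp_c wu (l.m2_ker m' ?_)) (l.p2 m'.1)
    rw [ph_mul (inv_mem (l.pN m.1)) (l.pN (l.m2_conj wN wx wL m).1), ph_conj wN (l.pN m.1),
      ph_inv (l.pN m.1), conj_eq_iff.mpr (cen_iff.mp hw.2.1 _ m.2.2.1), inv_mul_cancel]
  have pF : ∀ p ∈ P ⊓ H5.pre f (Qx (Ds t f) ⊤ x), p * u = u * p → ∀ e ∈ F,
      Et t (p * e * p⁻¹) e := fun p hp pu e he => by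
    have m := h.m2 e he
    have pL : p ∈ Nor (P ⊓ H5.pre f (Qx (Ds t f) ⊤ x)) := le_normalizer hp
    have m1 := l.m2_conj (l.pN hp.1) (l.ph_x hp.1) pL m
    have m' := l.m2_mul (l.m2_inv m) m1
    have hv := l.m2_ker m' (by
      rw [ph_mul (inv_mem (l.pN m.1)) (l.pN m1.1), ph_conj (l.pN hp.1) (l.pN m.1), ph_inv (l.pN m.1),
        conj_eq_iff.mpr (l.sa.A_cen m.2.2.1 (mem_pre.mp hp.2).2).symm, inv_mul_cancel])
    refine c.et_iff.mpr (((c.mem4 l.lc.hu).mp hv).resolve_right fun e1 => ?_)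
    have h1 := sq_mul (l.zp_c m.2.1 hv)
    rw [mul_inv_cancel_left, c.sq_et e1, l.lc.hu, sq_conj,
      conj_eq_iff.mpr (c.comm_one m.2.2.2 p).symm] at h1
    exact c.ne_mul _ h1
  let Y := H5.im f (P ⊓ H5.pre f (Qx (Ds t f) ⊤ x) ⊓ Cen1 u ⊓ Cen F)
  have YQ : Y ≤ Qx (Ds t f) ⊤ x := fun z hz => by
    obtain ⟨p, hp, -, rfl⟩ := mem_im.mp hz
    exact (mem_pre.mp hp.1.1.2).2
  have hA := l.sa.bd.sq_surj hna YQ (by
    rw [← h.kK, zpowers_le]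
    exact ph_nor h.kN (mem_nor_inf (mem_nor_inf h.kL (l.norC h.kN))
      (normalizer_le_normalizer_centralizer _ h.kF))) fun hle => hna fun q hq q' hq' => by
    refine l.sa.A_cen (l.sa.bd.mod_W hc hna hw hq (hle ?_)) hq'
    obtain ⟨p, hp, pu, rfl⟩ := l.exC hq
    have pL : p ∈ P ⊓ H5.pre f (Qx (Ds t f) ⊤ x) := ⟨hp, mem_pre.mpr ⟨l.pN hp, hq⟩⟩
    have m := conj_mem wL pL
    rw [← ph_conj wN (l.pN hp), ← ph_inv (l.pN hp), ← ph_mul (inv_mem (l.pN hp)) (l.pN m.1)]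
    refine ph_mem_im ⟨⟨Subgroup.mul_mem _ (Subgroup.inv_mem _ pL) m, (Cen1 u).mul_mem
      ((Cen1 u).inv_mem (c1_iff.mpr pu)) (cmem (c1_iff.mpr wu) (c1_iff.mpr pu))⟩, cen_iff.mpr fun e he => conj_eq_iff.mp ?_⟩
      (l.pN (mul_mem (inv_mem hp) m.1))
    have e1 : w⁻¹ * e * w = e := by rw [mul_assoc, ← wF e he, inv_mul_cancel_left]
    have e2 : w * (p * e * p⁻¹) * w⁻¹ = p * e * p⁻¹ :=
      conj_eq_iff.mpr (c.comm_r (pF p pL pu e he) (wF e he))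
    calc _ = p⁻¹ * (w * (p * (w⁻¹ * e * w) * p⁻¹) * w⁻¹) * p := by group
      _ = e := by rw [e1, e2]; group
  obtain ⟨a, ha, b, hb, a1, b1, hab⟩ := l.exists_ab h hs
  obtain ⟨q, hq, e⟩ := hA _ (h.m2 a ha).2.2.1
  obtain ⟨p, hp, pN, e'⟩ := mem_im.mp (show ph f a ∈ Y from e ▸ mul_mem hq hq)
  have m : a * p⁻¹ ∈ Qk Δ u P := ⟨P.mul_mem (h.m2 a ha).1 (P.inv_mem hp.1.1.1),
    (l.lc.eq_iff (l.pN (h.m2 a ha).1) pN).mp e'.symm⟩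
  have h1 : a ∈ Cen1 b := by
    simpa using mul_mem (c1_iff.mpr (cen_iff.mp (h.cen hb) _ m).symm)
      (c1_iff.mpr (cen_iff.mp hp.2 b hb))
  have h2 := (c.anti' hs ha hb a1 b1 hab).2
  rw [c1_iff'.mp h1] at h2
  exact c.ne_mul _ h2

theorem Q_eq : SF.Az (Ds t f) ⊤ x = Qx (Ds t f) ⊤ x := by
  obtain ⟨s, hs'⟩ := l.sa.bd.toA1.exists_dist
  rcases l.sa.bd.tri hs' with h1 | ⟨-, -, -, m, h1, h2⟩ | ⟨h1, h2, -, ω, h3⟩
  · exact h1.1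
  · have := l.card_A h hs
    rw [SF.Az, h2, pow_succ, pow_mul] at this
    have h3 : (2 ^ 2) ^ 1 ≤ (2 ^ 2) ^ m := Nat.pow_le_pow_right (by norm_num) h1
    generalize (2 ^ 2) ^ m = n at this h3
    omega
  · exact (l.not_U3 h hs h2 h1 h3).elim

theorem mem_E : p ∈ Qk Δ u P ⊔ F ↔ p ∈ P ∧ ph f p ∈ SF.Az (Ds t f) ⊤ x := by
  constructor
  · intro hp
    have : Qk Δ u P ⊔ F ≤ P ⊓ H5.pre f (SF.Az (Ds t f) ⊤ x) := sup_le
      (fun q hq => ⟨hq.1, mem_pre.mpr ⟨l.pN hq.1, by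
        rw [(l.lc.ker (l.pN hq.1)).mpr hq.2]; exact one_mem _⟩⟩)
      fun q hq => ⟨(h.m2 q hq).1, mem_pre.mpr ⟨l.pN (h.m2 q hq).1, (h.m2 q hq).2.2.1⟩⟩
    exact ⟨(this hp).1, (mem_pre.mp (this hp).2).2⟩
  · rintro ⟨h1, h2⟩
    obtain ⟨a, ha, e⟩ := h.surj _ h2
    have m : p * a⁻¹ ∈ Qk Δ u P := ⟨P.mul_mem h1 (P.inv_mem (h.m2 a ha).1),
      (l.lc.eq_iff (l.pN h1) (l.pN (h.m2 a ha).1)).mp e.symm⟩
    simpa using mul_mem (mem_sup_left (T := F) m) (mem_sup_right ha)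

theorem norF (hp : p ∈ P) (ha : a ∈ F) : ∃ b ∈ F, ph f b = ph f p * ph f a * (ph f p)⁻¹ :=
  h.surj _ (conj_mem (l.sa.nA (l.ph_x hp)) (h.m2 a ha).2.2.1)

theorem nonsing : ∃ a b, BL t u P F a b k (x : Δ) := by
  have c := l.lc.c
  have eQ := l.Q_eq h hs
  have cA := l.card_A h hs
  have FP : F ≤ P := fun q hq => (h.m2 q hq).1
  obtain ⟨z, hz, hc⟩ := exists_cen_pgroup (H5.isPGroup_im (f := f) l.syl.isPGroup)
    (S := {z | z ∈ SF.Az (Ds t f) ⊤ x ∧ z ≠ 1}) (fun g hg z hz => by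
      obtain ⟨p, hp, -, rfl⟩ := mem_im.mp hg
      exact ⟨conj_mem (l.sa.nA (l.ph_x hp)) hz.1, conj_ne_one hz.2⟩) (by
      have := ncard_ne_one (SF.Az (Ds t f) ⊤ x)
      omega)
  obtain ⟨a, ha, rfl⟩ := h.surj z hz.1
  have a1 : ¬ Et t a 1 := fun e => hz.2 ((l.lc.ph_et e (one_mem _)).trans ph_one)
  obtain ⟨b, hb, b1, hab⟩ : ∃ b ∈ F, ¬ Et t b 1 ∧ ¬ Et t a b := by
    obtain ⟨b, hb, b', hb', h1, h2, h3⟩ := l.exists_ab h hs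
    by_cases e : Et t a b
    · exact ⟨b', hb', h2, fun e' => h3 (c.trans (c.symm e) e')⟩
    · exact ⟨b, hb, h1, e⟩
  have nE : P ≤ Nor (Qk Δ u P ⊔ F) := fun p hp => mem_nor fun q hq => by
    obtain ⟨h1, h2⟩ := (l.mem_E h hs).mp hq
    exact (l.mem_E h hs).mpr ⟨cmem hp h1, by
      rw [ph_conj (l.pN hp) (l.pN h1)]; exact conj_mem (l.sa.nA (l.ph_x hp)) h2⟩
  refine ⟨a, b, ⟨h.tm, ha, hb, hs, a1, b1, hab, fun v hv => l.cls h hs ha hb a1 b1 hab hv⟩, FP,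
    h.cen, fun q hq e => h.inf q hq ((l.lc.ker (l.pN (FP hq))).mpr e), fun d hd e => ?_, nE,
    fun g hg e => ?_, fun g hg => ?_, h.kodd, h.kF, l.k_cen h.kN h.kodd h.kL, h.tr,
    fun Y hY ho hn g hg => ?_, ?_, fun s hp hE h2 => ?_⟩
  · by_cases e1 : Et t d 1
    · exact mem_sup_right (c.mem_of h.tm e1 (one_mem _))
    · exact (l.mem_E h hs).mpr ⟨hd, l.inn' hd (c.inv_of e e1).1 (c.inv_of e e1).2⟩
  · refine (l.mem_E h hs).mpr ⟨hg, eQ ▸ l.sa.mem_Q_of_cen l.faith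
      (eQ ▸ fun _ h1 _ h2 => l.sa.sr.A_comm h1 h2) (l.ph_x hg) (eQ ▸ cen_iff.mpr fun z hz => ?_)⟩
    obtain ⟨q, hq, rfl⟩ := h.surj z hz
    rw [← conj_eq_iff, ← ph_conj (l.pN hg) (l.pN (FP hq))]
    exact l.lc.ph_et (e q hq) (l.pN (FP hq))
  · have e1 : ph f (g * a * g⁻¹) = ph f a := by
      rw [ph_conj (l.pN hg) (l.pN (FP ha)), conj_eq_iff.mpr (hc _ (ph_mem_im hg (l.pN hg)))]
    have m : g * a * g⁻¹ * a⁻¹ ∈ Qk Δ u P := ⟨P.mul_mem (cmem hg (FP ha)) (P.inv_mem (FP ha)),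
      (l.lc.eq_iff (l.pN (cmem hg (FP ha))) (l.pN (FP ha))).mp e1⟩
    refine c.et_iff'.mpr (l.roQ _ m ?_)
    have h1 := sq_mul (cen_iff.mp (h.cen ha) _ m).symm
    rw [inv_mul_cancel_right, c.sq4 (hs a ha a1), hs a ha a1] at h1
    exact (mul_eq_right.mp h1.symm)
  · have h1 : SF.Az (Ds t f) ⊤ x ≤ Nor (H5.im f Y) := fun z hz => by
      obtain ⟨q, hq, rfl⟩ := h.surj z hz
      exact ph_nor (l.pN (FP hq)) (hn hq)
    have h2 : Odd (Nat.card (H5.im f Y)) := ho.of_dvd_nat (H5.card_im_dvd Y)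
    exact (l.lc.ker (hY hg)).mp (l.faith _
      (l.sa.odd_triv h2 (l.sa.odd_le h2 h1) (eQ ▸ h1) (ph_mem_im hg (hY hg))))
  · have := l.sa.sr.card_Pt
    rw [Set.eq_univ_of_forall l.sa.all, Set.ncard_univ, Nat.card_coe_set_eq, ← eQ, cA] at this
    exact this
  · by_contra hn
    push Not at hn
    refine hE ((l.mem_E h hs).mpr ⟨hp, l.inn hp ?_ fun β hβ e => by_contra fun n => hn β hβ n e⟩)
    rw [← ph_mul (l.pN hp) (l.pN hp), l.lc.ph_et h2 (one_mem _), ph_one]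

end Ls

theorem Lc.el (l : Lc Δ t f) (h2 : RkD (Ds t f) ⊤) (hP : Syl P (Nor (zpowers u)))
    (hα : α ∈ Fx Δ u) (st : P ≤ St X α) :
    ((∀ a ∈ P, ∀ b ∈ P, a ∈ Du t u → b ∈ Du t u → a * b = b * a) ∧
      ∀ a ∈ P, Inv a → a * u = u * a) ∨ ∃ F a b k, BL t u P F a b k α := by
  obtain ⟨y, hy⟩ := l.other ⟨α, hα⟩
  obtain ⟨τ, s⟩ := l.exists_sa h2 hy
  have l' : Ls t f ⟨α, hα⟩ y τ P := ⟨l, s, hP, st⟩
  obtain ⟨F, k, h⟩ := l'.exists_FF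
  rcases l'.FF_dich h with hs | hs
  · exact Or.inl (l'.sing h hs)
  · obtain ⟨a, b, h⟩ := l'.nonsing h hs
    exact Or.inr ⟨F, a, b, k, h⟩

end GC
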