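import Cfsg.Agent.GC.E

/-! The case without inverted square roots fixing two points. -/

set_option autoImplicit false
set_option linter.unusedSectionVars false

namespace GC

open Cfsg Subgroup FT H4 BS SF
open H5.Dich (E3 R3 NF)
open H8.Sq (P2 p2_of_sq)
open scoped commutatorElement

universe u

variable {X : Type u} [Group X] [Finite X] {Δ : Type u} [MulAction X Δ] [Finite Δ]
  {t u a b d e g k p r s v w x y : X} {α β : Δ} {F P T : Subgroup X}

/-- the balanced types -/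
structure TB (t : X) : Prop where
  pair : ∀ d d' : X, Inv d → d ≠ t → Inv d' → d' ≠ t → ∃ g, Et t (g * d * g⁻¹) d'
  bal : ∀ d : X, Inv d → d ≠ t → ∀ Y : Subgroup X, Odd (Nat.card Y) → Cen1 d ≤ Nor Y → Y = ⊥
  con : ∀ T : Subgroup X, Syl T ⊤ → ∀ d ∈ T, Inv d → R3 (T ⊓ Cen1 d)

/-- the central product type -/
structure TE (t : X) : Prop where
  e1 : ∀ d : X, Inv d → d ≠ t →
    ∃ a b, Inv a ∧ Inv b ∧ a * d = d * a ∧ b * d = d * b ∧ a * b * (a * b) = t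
  e2 : ∀ a b : X, Inv a → Inv b → Inv (a * b * (a * b)) → a * b * (a * b) = t

theorem mul_left_comm' (h : u * a = a * u) (z : X) : a * (u * z) = u * (a * z) := by
  rw [← mul_assoc, ← h, mul_assoc]

namespace Q8

variable (c : Ci t) (q : Q8 t F a b)
include c q

theorem anti (hx : x ∈ F) (hy : y ∈ F) (x1 : ¬ Et t x 1) (y1 : ¬ Et t y 1) (h : ¬ Et t x y) :
    x * y * x⁻¹ = y * t := (c.anti' q.sq hx hy x1 y1 h).2

theorem mul1 (hx : x ∈ F) (hy : y ∈ F) (x1 : ¬ Et t x 1) (y1 : ¬ Et t y 1) (h : ¬ Et t x y) :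
    ¬ Et t (x * y) 1 := (c.anti' q.sq hx hy x1 y1 h).1

theorem of_comm (hx : x ∈ F) (hy : y ∈ F) (x1 : ¬ Et t x 1) (y1 : ¬ Et t y 1)
    (h : x * y = y * x) : Et t x y := by
  by_contra n
  have := q.anti c hx hy x1 y1 n
  rw [conj_eq_iff.mpr h] at this
  exact c.ne_mul _ this

theorem aa : a * a = t := q.sq a q.am q.a1

theorem bb : b * b = t := q.sq b q.bm q.b1

theorem ab1 : ¬ Et t (a * b) 1 := q.mul1 c q.am q.bm q.a1 q.b1 q.ab

theorem abab : a * b * (a * b) = t := q.sq _ (mul_mem q.am q.bm) (q.ab1 c)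

theorem sq' (hx : x ∈ F) : Et t (x * x) 1 := by
  by_cases h : Et t x 1
  · exact Et.of_eq (c.sq_one h)
  · rw [q.sq x hx h]; exact c.t_et

theorem self (hx : x ∈ F) : Et t x⁻¹ x := c.symm (c.et_iff'.mpr (by simpa using q.sq' c hx))

theorem ecomm (hx : x ∈ F) (hy : y ∈ F) : Et t (x * y) (y * x) :=
  c.trans (c.symm (q.self c (mul_mem hx hy))) (by simpa using c.mul (q.self c hy) (q.self c hx))

theorem econj (hx : x ∈ F) (hy : y ∈ F) : Et t (x * y * x⁻¹) y := c.et_comm.mp (q.ecomm c hx hy)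

theorem cen_one (hx : x ∈ F) (h1 : x * a = a * x) (h2 : x * b = b * x) : Et t x 1 := by
  by_contra n
  exact q.ab (c.trans (c.symm (q.of_comm c hx q.am n q.a1 h1)) (q.of_comm c hx q.bm n q.b1 h2))

theorem other (hx : x ∈ F) : ∃ y ∈ F, ¬ Et t y 1 ∧ ¬ Et t y x := by
  by_cases h : Et t a x
  · exact ⟨b, q.bm, q.b1, fun e => q.ab (c.trans h (c.symm e))⟩
  · exact ⟨a, q.am, q.a1, h⟩

theorem le {H : Subgroup X} (ha : a ∈ H) (hb : b ∈ H) : F ≤ H := fun x hx => by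
  have ht : t ∈ H := q.aa c ▸ mul_mem ha ha
  rcases q.cls x hx with e | e | e | e
  exacts [c.mem_of ht e (one_mem _), c.mem_of ht e ha, c.mem_of ht e hb,
    c.mem_of ht e (mul_mem ha hb)]

/-- any two independent elements generate -/
theorem change (hx : x ∈ F) (hy : y ∈ F) (x1 : ¬ Et t x 1) (y1 : ¬ Et t y 1) (h : ¬ Et t x y) :
    Q8 t F x y := by
  refine ⟨q.tm, hx, hy, q.sq, x1, y1, h, fun v hv => ?_⟩
  by_contra hc
  simp only [not_or] at hc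
  obtain ⟨h1, h2, h3, h4⟩ := hc
  have e1 := q.anti c hv hx h1 x1 h2
  have e2 := q.anti c hv hy h1 y1 h3
  have e3 := q.anti c hv (mul_mem hx hy) h1 (q.mul1 c hx hy x1 y1 h) h4
  rw [conj_mul', e1, e2, c.mul_tt] at e3
  exact c.ne_mul _ e3

theorem conj (g : X) : Q8 t (conjS g F) (g * a * g⁻¹) (g * b * g⁻¹) := by
  have n : ∀ {x y}, ¬ Et t x y → ¬ Et t (g * x * g⁻¹) (g * y * g⁻¹) := fun h e => h (c.of_conj g e)
  refine ⟨c.conj g ▸ conj_mem_conjS q.tm, conj_mem_conjS q.am, conj_mem_conjS q.bm, ?_,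
    by simpa using n q.a1, by simpa using n q.b1, n q.ab, ?_⟩
  · rintro _ ⟨x, hx, rfl⟩ h
    exact c.sq4 (q.sq x hx fun e => h (by simpa using c.econj g e)) g
  · rintro _ ⟨x, hx, rfl⟩
    rcases q.cls x hx with e | e | e | e
    · exact Or.inl (by simpa using c.econj g e)
    · exact Or.inr (Or.inl (c.econj g e))
    · exact Or.inr (Or.inr (Or.inl (c.econj g e)))
    · exact Or.inr (Or.inr (Or.inr (conj_mul' g a b ▸ c.econj g e)))

theorem two : IsPGroup 2 F := isPGroup_iff_forall.mpr fun _ hx =>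
  p2_sq (p2_of_sq (c.sq_one (q.sq' c hx)))

theorem ro : RO t F := fun x hx e => by
  by_contra n
  exact c.t1 ((q.sq x hx n).symm.trans e)

end Q8

/-- the local structure in context -/
structure BC (t u : X) (P F : Subgroup X) (a b k : X) (α : Δ) : Prop
    extends BL t u P F a b k α where
  sc : SC Δ t
  t4 : T4 Δ t u
  syl : Syl P (Nor (zpowers u))
  st : P ≤ St X α

namespace BC

variable (h : BC t u P F a b k α)
include h

theorem c : Ci t := h.sc.c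

theorem hu : u * u = t := h.t4.1

theorem two : IsPGroup 2 P := h.syl.isPGroup

theorem uP : u ∈ P := h.syl.le_of_le_normalizer (h.c.p4 h.hu).zp le_normalizer h.syl.le
  (mem_zpowers u)

theorem uQ : u ∈ Qk Δ u P := ⟨h.uP, fun _ hx => hx⟩

theorem tQ : t ∈ Qk Δ u P := h.hu ▸ mul_mem h.uQ h.uQ

theorem roQ : RO t (Qk Δ u P) := (h.sc.ro4 h.t4).mono h.c inf_le_right

theorem QF (hr : r ∈ Qk Δ u P) (hx : x ∈ F) : r * x = x * r := (cen_iff.mp (h.cen hx) r hr).symm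

theorem E_le : Qk Δ u P ⊔ F ≤ P := sup_le inf_le_left h.le

theorem memE : e ∈ Qk Δ u P ⊔ F ↔ ∃ r ∈ Qk Δ u P, ∃ x ∈ F, r * x = e :=
  mem_sup_of_le_normalizer_left (h.cen.trans (cen_le_nor _))

theorem invE (hr : r ∈ Qk Δ u P) (hx : x ∈ F) (h2 : r * x * (r * x) = 1) (h1 : ¬ Et t (r * x) 1) :
    r * r = t ∧ x * x = t := by
  rw [sq_mul (h.QF hr hx)] at h2
  have x1 : ¬ Et t x 1 := fun e => h1 (by
    rw [h.c.sq_one e, mul_one] at h2
    simpa using h.c.mul (h.roQ r hr h2) e)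
  have := h.q8.sq x hx x1
  rw [this, mul_eq_one_iff_eq_inv, h.c.ti] at h2
  exact ⟨h2, this⟩

theorem fourE (he : e ∈ Qk Δ u P ⊔ F) (h2 : e * e = t) : e ∈ Qk Δ u P ∨ e ∈ F := by
  obtain ⟨r, hr, x, hx, rfl⟩ := h.memE.mp he
  by_cases x1 : Et t x 1
  · exact Or.inl (mul_mem hr (h.c.mem_of h.tQ x1 (one_mem _)))
  · rw [sq_mul (h.QF hr hx), h.q8.sq x hx x1, mul_eq_right] at h2
    exact Or.inr (mul_mem (h.c.mem_of h.q8.tm (h.roQ r hr h2) (one_mem _)) hx)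

theorem norQ (hp : p ∈ P) : p ∈ Nor (Qk Δ u P) :=
  mem_nor_inf (le_normalizer hp) (mem_nor fun x hx y hy => by
    rw [mul_smul, mul_smul, hx _ (h.sc.Fx_nor h.hu (inv_mem (h.syl.le hp)) hy), smul_inv_smul])

theorem norF (hp : p ∈ P) : p ∈ Nor F := mem_nor fun x hx => by
  by_cases x1 : Et t x 1
  · exact h.c.mem_of h.q8.tm (h.c.econj p x1) (by simp)
  · exact (h.fourE (conj_mem (h.norE hp) (mem_sup_right hx))
      (h.c.sq4 (h.q8.sq x hx x1) p)).resolve_left fun e =>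
        x1 (h.inf x hx (of_conj_mem (h.norQ hp) e).2)

theorem decD (hp : d ∈ P) (hd : d ∈ Du t u) : ∃ x ∈ F, x * x = t ∧ Et t d (u * x) := by
  obtain ⟨r, hr, x, hx, rfl⟩ := h.memE.mp (h.inv d hp hd.1.2)
  obtain ⟨h1, h2⟩ := h.invE hr hx hd.1.2 (h.c.not_one hd.1 hd.2.1)
  refine ⟨x, hx, h2, h.c.mul (h.roQ.four h.c h.hu h.uQ h1 hr ?_) (Et.refl _ _)⟩
  have := hd.2.2
  rw [mul_assoc, ← h.QF h.uQ hx, ← mul_assoc, ← mul_assoc] at this
  exact mul_right_cancel this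

theorem no_pair (hp : d ∈ P) (hd : d ∈ Du t u) (hq : e ∈ P) (he : e ∈ Du t u)
    (hc : d * e = e * d) : Et t d e := by
  obtain ⟨x, hx, x2, e1⟩ := h.decD hp hd
  obtain ⟨y, hy, y2, e2⟩ := h.decD hq he
  have := h.c.comm_l (h.c.symm e1) (h.c.comm_r (h.c.symm e2) hc)
  rw [mul_assoc, mul_assoc, mul_left_cancel_iff, ← mul_assoc, ← mul_assoc, ← h.QF h.uQ hx,
    ← h.QF h.uQ hy, mul_assoc, mul_assoc, mul_left_cancel_iff] at this
  exact h.c.trans e1 (h.c.trans (h.c.mul (Et.refl _ _)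
    (h.q8.of_comm h.c hx hy (h.c.not4 x2) (h.c.not4 y2) this)) (h.c.symm e2))

theorem inv_mul (hr : r ∈ Qk Δ u P) (hx : x ∈ F) (h1 : r * r = t) (h2 : x * x = t) :
    Inv (r * x) ∧ r * x ≠ t :=
  h.c.inv_of (h.c.sq_mul4 h1 h2 (h.QF hr hx)) fun e => h.c.not4 h2 (h.inf x hx (by
    have : x ∈ Qk Δ u P := h.c.mem_of h.tQ (h.c.lcancel (g := r) (b := r⁻¹) (by simpa using e))
      (inv_mem hr)
    exact this.2))

theorem mem_P (hT : IsPGroup 2 T) (hs : s ∈ T) (hn : s ∈ Nor P) (e : Et t (s * u * s⁻¹) u) : s ∈ P :=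
  mem_of_syl h.syl ((h.c.nor4 h.hu).mpr e) (P2.of_mem hT hs) hn

end BC

/-- the quotient by `⟨t⟩` -/
structure Qt (Δ : Type u) [MulAction X Δ] (t : X) {Y : Type u} [Group Y] [MulAction Y Δ]
    (π : X →* Y) : Prop where
  surj : Function.Surjective π
  eq : ∀ {a b}, π a = π b ↔ Et t a b
  smul : ∀ (g : X) (x : Δ), π g • x = g • x

theorem SC.exists_qt (h : SC Δ t) : ∃ (Y : Type u) (_ : Group Y) (_ : Finite Y) (_ : MulAction Y Δ)
    (π : X →* Y), Qt Δ t π := by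
  haveI : (zpowers t).Normal := ⟨fun x hx g => h.c.mem_zp.mpr
    (by simpa using h.c.econj g (h.c.mem_zp.mp hx))⟩
  have e : ∀ {a b}, QuotientGroup.mk' (zpowers t) a = QuotientGroup.mk' (zpowers t) b ↔
      Et t a b := fun {a b} => by
    rw [eq_comm, QuotientGroup.mk'_apply, QuotientGroup.mk'_apply, QuotientGroup.eq, h.c.mem_zp,
      ← h.c.et_iff]
  obtain ⟨i, hi⟩ := exists_act_top (Δ := Δ) (QuotientGroup.mk'_surjective (zpowers t))
    fun g hg x => by rw [h.et_smul (e.mp (hg.trans (map_one _).symm)), one_smul]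
  exact ⟨_, _, inferInstance, i, _, QuotientGroup.mk'_surjective _, e, hi⟩

namespace Qt

variable {Y : Type u} [Group Y] [Finite Y] [MulAction Y Δ] {π : X →* Y} (q : Qt Δ t π)
include q

theorem one : π a = 1 ↔ Et t a 1 := by rw [← q.eq, map_one]

theorem conj : π g * π a * (π g)⁻¹ = π b ↔ Et t (g * a * g⁻¹) b := by
  rw [← q.eq, map_mul, map_mul, map_inv]

theorem comm : π a * π b = π b * π a ↔ Et t (a * b) (b * a) := by rw [← q.eq, map_mul, map_mul]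

theorem sq : π a * π a = 1 ↔ Et t (a * a) 1 := by rw [← q.one, map_mul]

theorem inv : Inv (π a) ↔ ¬ Et t a 1 ∧ Et t (a * a) 1 := and_congr q.one.not q.sq

theorem p2 (c : Ci t) (h : P2 (π a)) : P2 a := by
  obtain ⟨k, hk⟩ := h
  rw [← map_pow, q.one] at hk
  exact ⟨k + 1, by rw [pow_succ, pow_mul, _root_.sq, c.sq_one hk]⟩

theorem two (c : Ci t) {R : Subgroup Y} (h : IsPGroup 2 R) : IsPGroup 2 (R.comap π) :=
  isPGroup_iff_forall.mpr fun _ hx => q.p2 c (P2.of_mem h hx)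

theorem Od_bot (c : Ci t) (h0 : Od (⊤ : Subgroup X) = ⊥) : Od (⊤ : Subgroup Y) = ⊥ := by
  rw [Od_top]
  refine W.core_central (H := ⊤) (Q := zpowers t) (f := π.comp (⊤ : Subgroup X).subtype)
    (fun y => ?_) ?_ (pgroup_zp c.tt) le_top ?_ ((Od_eq _).symm.trans h0)
  · obtain ⟨g, rfl⟩ := q.surj y
    exact ⟨⟨g, mem_top g⟩, rfl⟩
  · ext g
    rw [MonoidHom.mem_ker, mem_subgroupOf, c.mem_zp, ← q.one]; rfl
  · rw [FT.cen_zpowers]; exact fun g _ => c.mem_cen g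

end Qt

/-- no square root of `t` fixing two points is inverted by an involution -/
def NT2 (Δ : Type u) [MulAction X Δ] (t : X) : Prop :=
  ∀ u, T4 Δ t u → ∀ a : X, Inv a → a ∈ Nor (zpowers u) → a * u = u * a

namespace SC

variable (h : SC Δ t)
include h

theorem el (h4 : T4 Δ t u) (hP : Syl P (Nor (zpowers u))) (ha : a ∈ P) (hb : b ∈ P)
    (da : a ∈ Du t u) (db : b ∈ Du t u) (hn : ¬ Et t a b) :
    ((∀ a ∈ P, ∀ b ∈ P, a ∈ Du t u → b ∈ Du t u → a * b = b * a) ∧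
      ∀ a ∈ P, Inv a → a * u = u * a) ∨ ∃ F a b k, ∃ α : Δ, BC t u P F a b k α := by
  obtain ⟨Γ, _, _, _, f, l⟩ := h.exists_lc h4
  obtain ⟨α, hα⟩ := h.exists_fix hP.isPGroup
  have uP : u ∈ P := hP.le_of_le_normalizer (h.c.p4 h4.1).zp le_normalizer hP.le (mem_zpowers u)
  rcases l.el (l.rk_of da db (P2.of_mem hP.isPGroup (mul_mem ha hb)) hn) hP (hα uP) hα with
    e | ⟨F, a, b, k, e⟩
  · exact Or.inl e
  · exact Or.inr ⟨F, a, b, k, α, e, h, h4, hP, hα⟩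

theorem u1 (h4 : T4 Δ t u) (ha : a ∈ Du t u) (hb : b ∈ Du t u) :
    ∃ g, g * u = u * g ∧ Et t (g * a * g⁻¹) b := by
  obtain ⟨Γ, _, _, _, f, l⟩ := h.exists_lc h4
  exact l.u1 ha hb

theorem not_bc (n : NT2 Δ t) (l : BC t u P F a b k α) : False := by
  have c := h.c
  have hD : ∀ d ∈ P, Inv d → d * u = u * d := fun d hd i => n u l.t4 d i (l.syl.le hd)
  obtain ⟨T, hT, h1⟩ := H5.exists_isSylowOf_ge l.two le_top
  rcases h1.eq_or_lt with rfl | h1
  · obtain ⟨x, hx, y, hy, ix, iy, e, h1, h2, h3, h4⟩ := (r3_iff h.inv (l.tQ.1)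
      fun g _ => c.mem_cen g).mp (r3_syl h.r3 hT)
    exact (l.no_pair hx ⟨ix, h1, hD x hx ix⟩ hy ⟨iy, h2, hD y hy iy⟩ e).elim h3 h4
  obtain ⟨s, hs, sP, sn, -⟩ := step hT.isPGroup h1
  have m := conj_mem sn l.uP
  have m2 := c.sq4 l.hu s
  have key : ∀ x ∈ F, x * x = t → u * x ∈ Cen1 (s * u * s⁻¹) := fun x hx e => by
    have i := (l.inv_mul l.uQ hx l.hu e).1.conj s⁻¹
    have := conj_comm (hD _ (conj_mem (inv_mem sn) (mul_mem l.uP (l.le hx))) i) s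
    simpa [c1_iff, mul_assoc] using this
  have k1 := key a l.q8.am (l.q8.aa c)
  have k2 := key b l.q8.bm (l.q8.bb c)
  have k3 := key _ (mul_mem l.q8.am l.q8.bm) (l.q8.abab c)
  have hu : u ∈ Cen1 (s * u * s⁻¹) := by
    refine H5.mem_of_eq (mul_mem (mul_mem k1 k2) k3) ?_
    have e1 := mul_left_comm' (l.QF l.uQ l.q8.am)
    have e2 := mul_left_comm' (l.QF l.uQ l.q8.bm)
    calc _ = u * u * u * (a * b * (a * b)) := by simp only [mul_assoc, e1, e2]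
      _ = u := by rw [l.hu, l.q8.abab c, ← c.cen, c.mtt]
  have ha : a ∈ Cen1 (s * u * s⁻¹) := by simpa using mul_mem (inv_mem hu) k1
  have hb : b ∈ Cen1 (s * u * s⁻¹) := by simpa using mul_mem (inv_mem hu) k2
  have hF := l.q8.le c ha hb
  rcases l.fourE (l.cenF _ m fun x hx => Et.of_eq (conj_eq_iff.mpr (c1_iff.mp (hF hx)).symm)) m2
    with e | e
  · exact sP (l.mem_P hT.isPGroup hs sn (l.roQ.four c l.hu l.uQ m2 e (c1_iff.mp hu).symm))
  · exact c.not4 m2 (l.q8.cen_one c e (c1_iff.mp ha).symm (c1_iff.mp hb).symm)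

theorem exists_T4 (n : NT2 Δ t) (hv : v * v = t) (h4 : ¬ T4 Δ t v) (hne : ∃ α β : Δ, α ≠ β) :
    ∃ e, T4 Δ t e ∧ ∃ d ∈ Du t e, Et t v (d * e) := by
  have c := h.c
  obtain ⟨Y, _, _, _, π, q⟩ := h.exists_qt
  obtain ⟨α, hα⟩ := h.exists_fix (c.p4 hv).zp
  have hα : v • α = α := hα (mem_zpowers v)
  obtain ⟨β, hβ⟩ : ∃ β, α ≠ β := by
    obtain ⟨x, y, e⟩ := hne
    by_cases e' : α = x
    exacts [⟨y, e' ▸ e⟩, ⟨x, e'⟩]
  obtain ⟨d, hd, d1, dβ⟩ := h.D_at β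
  have s1 : π d * π d = 1 := q.sq.mpr (Et.of_eq hd.2)
  have s2 : π v * π v = 1 := q.sq.mpr (hv ▸ c.t_et)
  have nc : ∀ g w : X, w * w = t → ¬ Et t w (g * d * g⁻¹) := fun g w hw e =>
    c.t1 (by rw [← hw, c.sq_et e, (hd.conj g).2])
  by_cases ho : Odd (orderOf (π v * π d))
  · obtain ⟨m, -, -, e⟩ := exists_swap s1 s2 ho
    rw [← map_mul, ← map_pow, q.conj] at e
    exact (nc _ v hv (c.symm e)).elim
  obtain ⟨m, h1, h2, h3, h5⟩ := exists_central_inv s1 s2 fun e => ho (by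
    rwa [← orderOf_inv, mul_inv_rev, inv_eq_self_of_sq s1, inv_eq_self_of_sq s2])
  obtain ⟨j, hj⟩ := dihedral_conj s1 s2 m
  simp only [← map_mul, ← map_pow, ← map_inv, q.eq, q.one, Ne] at h1 h2 h3 h5 hj
  have hw : (d * v) ^ j * (d * v) ^ m = (d * v) ^ m * (d * v) ^ j := pow_mul_comm _ _ _
  generalize (d * v) ^ m = e at h1 h2 h3 h5 hj hw
  generalize (d * v) ^ j = w at hj hw
  have eβ := h.cen_fix hd d1 dβ (c.et_comm.mp h3)
  have eα : e • α = α := by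
    by_contra hc
    exact h4 ⟨hv, _, _, hc, (h.et_smul (c.et_comm.mp h5) _).symm.trans (conj_smul hα), hα⟩
  have e2 : e * e = t := (c.cases_sq h2).resolve_left fun e2 =>
    hβ (h.uniq (c.inv_of e2 h1).1 (c.inv_of e2 h1).2 eα eβ)
  have e4 : T4 Δ t e := ⟨e2, α, β, hβ, eα, eβ⟩
  have de := n e e4 d hd ((c.nor4 e2).mpr (c.et_comm.mp (c.symm h3)))
  rcases hj with hj | hj
  · refine (nc w⁻¹ (d * e) ?_ (by simpa using hj)).elim
    rw [sq_mul de, hd.2, e2, one_mul]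
  · refine ⟨e, e4, w * d * w⁻¹, ⟨hd.conj w, c.conj_ne w d1,
      c1_iff.mp (cmem (c1_iff.mpr hw) (c1_iff.mpr de))⟩, ?_⟩
    have := c.econj w (c.symm hj)
    rwa [show w * (w⁻¹ * v * w) * w⁻¹ = v by group, conj_mul', conj_eq_iff.mpr hw] at this

theorem prod_closed (n : NT2 Δ t) (hne : ∃ α β : Δ, α ≠ β) (ha : Inv a) (hb : Inv b)
    (hc : Et t (a * b) (b * a)) : a * b * (a * b) = 1 := by
  have c := h.c
  have i1 : (a * b)⁻¹ = b * a := by rw [mul_inv_rev, ha.inv, hb.inv]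
  refine (c.cases_sq (c.et_iff'.mp (i1 ▸ hc : Et t (a * b) (a * b)⁻¹) |> fun e => by
    simpa using e)).resolve_right fun hv => ?_
  have av : a * (a * b) * a⁻¹ = a * b * t := by
    rw [← c.inv4 hv]; exact inv_part ha.2 hb.2 (mem_zpowers _)
  generalize a * b = v at hv av
  have aN : a ∈ Nor (zpowers v) := (c.nor4 hv).mpr (Or.inr av)
  have h4 : ¬ T4 Δ t v := fun e => by
    rw [conj_eq_iff.mpr (n v e a ha aN)] at av
    exact c.ne_mul _ av
  obtain ⟨e, e4, d, hd, hvd⟩ := h.exists_T4 n hv h4 hne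
  have e2 := e4.1
  have dv : d * v = v * d := c.comm_r hvd (by rw [mul_assoc, hd.2.2])
  have ev : e * v = v * e := c.comm_r hvd (by rw [← mul_assoc, hd.2.2])
  obtain ⟨S, hS, h1⟩ := H5.exists_isSylowOf_ge (H8.Sq.two_pair (p2_of_sq hd.1.2) (c.p4 e2) hd.2.2)
    (K := Nor (zpowers v)) (sup_le (zpowers_le.mpr (c.cen_nor4 hv (c1_iff.mpr dv)))
      (zpowers_le.mpr (c.cen_nor4 hv (c1_iff.mpr ev))))
  have dS : d ∈ S := h1 (mem_sup_left (mem_zpowers d))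
  have eS : e ∈ S := h1 (mem_sup_right (mem_zpowers e))
  by_cases hle : S ≤ Nor (zpowers e)
  · obtain ⟨g, hg, m⟩ := H8.Sq.conj_into hS aN (p2_of_sq ha.2)
    have i := ha.conj g
    have ae := n e e4 _ i (hle m)
    have av' : g * a * g⁻¹ * (d * e) * (g * a * g⁻¹)⁻¹ = d * e * t := by
      have e1 := c.trans (c.symm hvd) (c.symm ((c.nor4 hv).mp hg))
      have e2 : g * a * g⁻¹ * (g * v * g⁻¹) * (g * a * g⁻¹)⁻¹ = g * v * g⁻¹ * t := by
        rw [← c.conj_t, ← av]; group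
      rcases e1 with e1 | e1 <;> rw [e1]
      · exact e2
      · rw [c.conj_t, e2]
    have nc : g * a * g⁻¹ * d ≠ d * (g * a * g⁻¹) := fun e' => by
      rw [conj_mul', conj_eq_iff.mpr e', conj_eq_iff.mpr ae] at av'
      exact c.ne_mul _ av'
    have da : g * a * g⁻¹ ∈ Du t e := ⟨i, fun e' => nc (e' ▸ (c.cen d).symm), ae⟩
    obtain ⟨P, hP, h2⟩ := H5.exists_isSylowOf_ge hS.isPGroup hle
    rcases h.el e4 hP (h2 m) (h2 dS) da hd (fun e' => nc (c.comm_l e' rfl)) with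
      e' | ⟨F, a, b, k, α, l⟩
    · exact nc (e'.1 _ (h2 m) _ (h2 dS) da hd)
    · exact h.not_bc n l
  obtain ⟨s, hs, s1, sn, -⟩ := step hS.isPGroup (inf_lt_left.mpr hle)
  have d' := n e e4 _ (hd.1.conj s) (conj_mem sn (show d ∈ S ⊓ _ from
    ⟨dS, c.cen_nor4 e2 (c1_iff.mpr hd.2.2)⟩)).2
  have h2 : Et t v (s * d * s⁻¹ * (s * e * s⁻¹)) :=
    c.trans (c.symm ((c.nor4 hv).mp (hS.le hs))) (conj_mul' s d e ▸ c.econj s hvd)
  have h3 : e * (s * e * s⁻¹) = s * e * s⁻¹ * e := by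
    have := c.comm_r (c.symm h2) ev
    rw [← mul_assoc, ← d', mul_assoc, mul_assoc (s * d * s⁻¹), mul_left_cancel_iff] at this
    exact this
  have e' := c.sq4 e2 s
  have i := c.inv_of (c.sq_mul4 e2 e' h3) fun h5 => s1 ⟨hs, (c.nor4 e2).mpr
    (c.trans (c.lcancel (g := e) (b := e⁻¹) (by simpa using h5)) (c.inv4' e2))⟩
  obtain ⟨g, ge, h5⟩ := h.u1 e4 hd ⟨i.1, i.2, by rw [mul_assoc, ← h3]⟩
  have h6 : Et t (g * v * g⁻¹) (s * e * s⁻¹) := by
    refine c.trans (c.econj g hvd) ?_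
    rw [conj_mul', conj_eq_iff.mpr ge]
    refine c.trans (c.mul h5 (Et.refl _ _)) ?_
    rw [h3, mul_assoc, e2]; exact et_t _ _
  exact h4 (by simpa [mul_assoc] using (h.T4_et (e4.conj c s) h6).conj c g⁻¹)

end SC

end GC
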