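import Cfsg.Agent.GC.F

/-! Type A; the maximal inverted square root. -/

set_option autoImplicit false
set_option linter.unusedSectionVars false

namespace GC

open Cfsg Subgroup FT H4 BS SF
open H5.Dich (E3 R3 NF)
open H8.Sq (P2 p2_of_sq)
open scoped commutatorElement

universe u

variable {X : Type u} [Group X] [Finite X] {Δ : Type u} [MulAction X Δ] [Finite Δ]
  {t u a b d e g k p r s v w x y : X} {α β : Δ} {F P T : Subgroup X}

theorem inv_comm (ha : a * a = 1) (hb : b * b = 1) (h : a * b * (a * b) = 1) : a * b = b * a := by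
  rw [← inv_eq_self_of_sq h, mul_inv_rev, inv_eq_self_of_sq ha, inv_eq_self_of_sq hb]

theorem Ci.odd_cen (c : Ci t) (ho : Odd (orderOf g)) (h : Et t (g * d * g⁻¹) d) : g * d = d * g :=
  h.elim conj_eq_iff.mp fun e => comm_of_odd ho e c.tt (c.cen g)

theorem nor_map {Y : Type*} [Group Y] (π : X →* Y) {H : Subgroup X} (h : g ∈ Nor H) :
    π g ∈ Nor (H.map π) := le_normalizer_map π (mem_map_of_mem π h)

theorem odd_map' {Y : Type*} [Group Y] (π : X →* Y) {H : Subgroup X} (h : Odd (Nat.card H)) :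
    Odd (Nat.card (H.map π)) := h.of_dvd_nat (card_map_dvd H π)

theorem PS_nor (g : X) : g ∈ Nor (PS X (Set.univ : Set Δ)) := mem_nor fun x hx y _ => by
  rw [mul_smul, mul_smul, hx _ trivial, smul_inv_smul]

theorem Sa.two_A {D : Set X} {τ : X} (s : Sa D α β τ) :
    ∃ a ∈ SF.Az D ⊤ α, ∃ b ∈ SF.Az D ⊤ α, a ≠ 1 ∧ b ≠ 1 ∧ a ≠ b :=
  exists_two (le_trans (by norm_num) s.bd.four_le)

namespace SC

variable (h : SC Δ t)
include h

theorem tb_of_nt2 (h0 : Od (⊤ : Subgroup X) = ⊥) (n : NT2 Δ t) (hne : ∃ α β : Δ, α ≠ β) :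
    TB t := by
  have c := h.c
  obtain ⟨Y, _, _, _, π, q⟩ := h.exists_qt
  have pd : PD (π '' {d | Inv d ∧ d ≠ t}) Δ := by
    refine ⟨?_, ?_, ?_, ?_⟩
    · rintro _ ⟨d, hd, rfl⟩
      exact q.inv.mpr ⟨c.not_one hd.1 hd.2, Et.of_eq hd.1.2⟩
    · rintro _ ⟨d, hd, rfl⟩ y
      obtain ⟨g, rfl⟩ := q.surj y
      exact ⟨_, ⟨hd.1.conj g, c.conj_ne g hd.2⟩, by simp⟩
    · rintro _ ⟨d, hd, rfl⟩
      simpa only [q.smul] using h.one d hd.1 hd.2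
    · rintro _ ⟨a, ha, rfl⟩ _ ⟨b, hb, rfl⟩ h1 h2
      exact ⟨a * b, c.inv_of (h.prod_closed n hne ha.1 hb.1 (q.comm.mp h2)) fun e =>
        h1 (q.eq.mpr (c.et_iff'.mpr (by rwa [hb.1.inv]))), map_mul π a b⟩
  have rk : RkD (π '' {d | Inv d ∧ d ≠ t}) ⊤ := by
    obtain ⟨a, -, b, -, h1, h2, e, h3, h4, h5, h6⟩ :=
      (r3_iff h.inv (mem_top t) fun g _ => c.mem_cen g).mp h.r3
    exact ⟨_, ⟨a, ⟨h1, h3⟩, rfl⟩, _, ⟨b, ⟨h2, h4⟩, rfl⟩, mem_top _, mem_top _,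
      fun e => (q.eq.mp e).elim h5 h6, q.comm.mpr (Et.of_eq e)⟩
  have all : ∀ z : Δ, z ∈ Pt (π '' {d | Inv d ∧ d ≠ t}) Δ ⊤ := fun z => by
    obtain ⟨d, h1, h2, h3⟩ := h.D_at z
    exact ⟨_, ⟨d, ⟨h1, h2⟩, rfl⟩, mem_top _, (q.smul d z).trans h3⟩
  have o := q.Od_bot c h0
  have nL : ⊤ ≤ Nor (LL (π '' {d | Inv d ∧ d ≠ t}) ⊤) := fun g hg => pd.nor_LL hg
  have sa : ∀ x : Δ, ∃ (y : Δ) (τ : Y), Sa (π '' {d | Inv d ∧ d ≠ t}) x y τ := fun x => by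
    obtain ⟨y, hy⟩ : ∃ y, x ≠ y := by
      obtain ⟨y, z, e⟩ := hne
      by_cases e' : x = y
      exacts [⟨z, e' ▸ e⟩, ⟨y, e'⟩]
    exact ⟨y, exists_sa pd rk all (le_bot_iff.mp (o ▸ Od_le_Od le_top nL)) hy⟩
  have a1 : ∀ (x : Δ) (a b : X), a * a = 1 → b * b = 1 → a • x = x → b • x = x →
      a * b = b * a := fun x a b ha hb h1 h2 => by
    by_cases e : Et t a 1
    · exact c.comm_one e b
    by_cases e' : Et t b 1
    · exact (c.comm_one e' a).symm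
    obtain ⟨y, τ, s⟩ := sa x
    exact inv_comm ha hb (h.prod_closed n hne (c.inv_of ha e).1 (c.inv_of hb e').1 (q.comm.mp
      (s.sr.A_comm (s.mem_A ⟨a, c.inv_of ha e, rfl⟩ ((q.smul a x).trans h1))
        (s.mem_A ⟨b, c.inv_of hb e', rfl⟩ ((q.smul b x).trans h2)))))
  refine ⟨fun d d' h1 h2 h3 h4 => ?_, fun d hd d1 Z ho hn => ?_, fun T hT d hd i => ?_⟩
  · obtain ⟨x, y, e⟩ := hne
    obtain ⟨g, -, e⟩ := pd.conj_D (all x) (all y) e (mem_top _) ⟨d, ⟨h1, h2⟩, rfl⟩ (mem_top _)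
      ⟨d', ⟨h3, h4⟩, rfl⟩
    obtain ⟨g, rfl⟩ := q.surj g
    exact ⟨g, q.conj.mp e⟩
  · obtain ⟨x, hx⟩ := h.ex hd d1
    obtain ⟨y, τ, s⟩ := sa x
    have dD : π d ∈ π '' {d | Inv d ∧ d ≠ t} := ⟨d, ⟨hd, d1⟩, rfl⟩
    have dA := s.mem_A dD ((q.smul d x).trans hx)
    have ho' := odd_map' π ho
    have hst := s.odd_le ho' fun z hz => by
      by_cases z1 : z = 1
      · exact z1 ▸ one_mem _
      obtain ⟨a, ha, rfl⟩ := s.sr.A_D hz z1
      exact nor_map π (hn (c1_iff.mpr (a1 x a d ha.1.2 hd.2 ((q.smul a x).symm.trans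
        (s.A_fix hz)) hx)))
    have key : ∀ z ∈ Z, ∀ g, g * d = d * g → π g ∈ Qx _ ⊤ x → π z * π g = π g * π z :=
      fun z hz g e m => (comm_of_nor (Qx_two ⊤ x) ho' m (mem_map_of_mem π hz)
        (nor_map π (hn (c1_iff.mpr e))) (s.nQ (hst (mem_map_of_mem π hz)))).symm
    have zd : ∀ z ∈ Z, z * d = d * z := fun z hz => c.odd_cen (odd_orderOf_of_mem ho hz)
      (c.et_comm.mp (q.comm.mp (key z hz d rfl (Az_le ⊤ x dA))))
    have hR : Z ≤ PS X (Set.univ : Set Δ) := fun z hz w _ => by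
      have m := mem_map_of_mem π hz
      rw [← q.smul]
      refine s.odd_fix (hst m) (odd_orderOf_of_mem ho' m) (cen_iff.mpr fun g hg => ?_) w
      obtain ⟨g, rfl⟩ := q.surj g
      have m' := mul_mem (inv_mem hg) (conj_mem (s.nQ (hst m)) hg)
      refine cen_of_stable (odd_orderOf_of_mem ho' m) ?_ (P2.of_mem (Qx_two ⊤ x) m')
      simp only [← map_inv, ← map_mul] at m' ⊢
      have e1 : Et t (g⁻¹ * d * g⁻¹⁻¹) d := q.conj.mp (conj_eq_iff.mpr (by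
        rw [map_inv]; exact (s.A_cen dA (inv_mem hg)).symm))
      have e2 := c.comm_r (c.symm e1) (conj_comm (zd z hz) g⁻¹)
      have := key z hz (g⁻¹ * (z * g * z⁻¹)) (c1_iff.mp (H5.mem_of_eq (mul_mem (c1_iff.mpr e2)
        (inv_mem (c1_iff.mpr (zd z hz)))) (by group))) m'
      simpa only [← map_mul] using this
    have hI : PS Y (Set.univ : Set Δ) ⊓ LL (π '' {d | Inv d ∧ d ≠ t}) ⊤ = ⊥ :=
      eq_bot_of_Od o (fun g _ => mem_nor_inf (PS_nor g) (nL (mem_top g))) (odd_of_no_inv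
        fun a ha i => s.ne (pd.uniq (s.pure a ha.2 i) (ha.1 x trivial) (ha.1 y trivial)))
    have hRd : ∀ r ∈ PS X (Set.univ : Set Δ), Et t (r * d * r⁻¹) d := fun r hr => by
      have m : π r ∈ PS Y (Set.univ : Set Δ) := fun w _ => (q.smul r w).trans (hr w trivial)
      have mL := mem_LL dD (mem_top _)
      have : π r * π d * (π r)⁻¹ * (π d)⁻¹ ∈ PS Y (Set.univ : Set Δ) ⊓ LL _ ⊤ :=
        ⟨H5.mem_of_eq (Subgroup.mul_mem _ m (conj_mem (PS_nor (π d)) (Subgroup.inv_mem _ m)))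
          (by group), Subgroup.mul_mem _ (conj_mem (nL (mem_top _)) mL) (Subgroup.inv_mem _ mL)⟩
      rw [hI, mem_bot, mul_inv_eq_one] at this
      exact q.conj.mp this
    refine le_bot_iff.mp (h0 ▸ ((le_Od (M := PS X Set.univ ⊓ Cen1 d)
      (le_inf hR fun z hz => c1_iff.mpr (zd z hz)) (inf_le_right.trans hn) ho).trans
      (Od_le_Od inf_le_left fun r hr => mem_nor fun w hw => ⟨cmem hr hw.1, c1_iff.mpr ?_⟩)).trans
      (Od_le_Od le_top fun g _ => PS_nor g))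
    exact c.comm_r (c.symm (hRd r hr)) (conj_comm (c1_iff.mp hw.2) r)
  · obtain ⟨x, hx⟩ := h.exists_fix hT.isPGroup
    obtain ⟨A, hA⟩ := r3_syl h.r3 hT
    exact ⟨A, le_inf hA.le fun a ha => c1_iff.mpr
      (a1 x a d (e3_sq hA ha) i.2 (hx (hA.le ha)) (hx hd)), hA.elem, hA.card⟩

end SC

/-- `u` is inverted by an involution -/
def Ty2 (t u : X) : Prop := ∃ a : X, Inv a ∧ a * u * a⁻¹ = u * t

/-- the maximal choice -/
structure Mx (Δ : Type u) [MulAction X Δ] (t u : X) (P : Subgroup X) : Prop extends SC Δ t where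
  t4 : T4 Δ t u
  ty : Ty2 t u
  syl : Syl P (Nor (zpowers u))
  max : ∀ v, T4 Δ t v → Ty2 t v → ∀ R : Subgroup X, IsPGroup 2 R → R ≤ Nor (zpowers v) → Nat.card R ≤ Nat.card P

theorem SC.exists_mx (h : SC Δ t) (n : ¬ NT2 Δ t) : ∃ u P, Mx Δ t u P := by
  have c := h.c
  simp only [NT2, not_forall] at n
  obtain ⟨u, h4, a, ha, hn, e⟩ := n
  obtain ⟨⟨v, P⟩, ⟨h1, h2, h3, h5⟩, hm⟩ := Set.exists_max_image
    {z : X × Subgroup X | T4 Δ t z.1 ∧ Ty2 t z.1 ∧ IsPGroup 2 z.2 ∧ z.2 ≤ Nor (zpowers z.1)}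
    (fun z => Nat.card z.2) (Set.toFinite _) ⟨(u, ⊥), h4, ⟨a, ha,
      ((c.nor4 h4.1).mp hn).resolve_left fun e' => e (conj_eq_iff.mp e')⟩, IsPGroup.of_bot, bot_le⟩
  exact ⟨v, P, h, h1, h2, H5.isSylowOf_of_maximal h5 h3 fun R r1 r2 r3 =>
    (eq_of_le_card r2 (hm (v, R) ⟨h1, h2, r1, r3⟩)).ge, fun w w1 w2 R r1 r2 =>
      hm (w, R) ⟨w1, w2, r1, r2⟩⟩

namespace Mx

variable (m : Mx Δ t u P)
include m

theorem sc : SC Δ t := m.toSC

theorem c : Ci t := m.toCi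

theorem hu : u * u = t := m.t4.1

theorem two : IsPGroup 2 P := m.syl.isPGroup

theorem uP : u ∈ P := m.syl.le_of_le_normalizer (m.c.p4 m.hu).zp le_normalizer m.syl.le
  (mem_zpowers u)

theorem tP : t ∈ P := m.hu ▸ mul_mem m.uP m.uP

theorem act (hp : p ∈ P) : Et t (p * u * p⁻¹) u := (m.c.nor4 m.hu).mp (m.syl.le hp)

theorem exists_inv : ∃ a ∈ P, Inv a ∧ a * u * a⁻¹ = u * t := by
  obtain ⟨a, ha, e⟩ := m.ty
  obtain ⟨g, hg, h⟩ := H8.Sq.conj_into m.syl ((m.c.nor4 m.hu).mpr (Or.inr e)) (p2_of_sq ha.2)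
  refine ⟨_, h, ha.conj g, (m.act h).resolve_left fun e' => ?_⟩
  have := m.c.comm_r (m.c.symm ((m.c.nor4 m.hu).mp (inv_mem hg)))
    (conj_comm (conj_eq_iff.mp e') g⁻¹)
  rw [show g⁻¹ * (g * a * g⁻¹) * g⁻¹⁻¹ = a by group] at this
  rw [conj_eq_iff.mpr this] at e
  exact m.c.ne_mul _ e

theorem no_bigger (hs : s ∈ Nor P) (h2 : P2 s) (sP : s ∉ P) (h4 : T4 Δ t v) (ty : Ty2 t v)
    (h1 : ∀ p ∈ P, Et t (p * v * p⁻¹) v) (h3 : Et t (s * v * s⁻¹) v) : False := by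
  have := m.max v h4 ty _ (two_sup m.two hs h2) (sup_le (fun p hp => (m.c.nor4 h4.1).mpr (h1 p hp))
    (zpowers_le.mpr ((m.c.nor4 h4.1).mpr h3)))
  exact sP ((eq_of_le_card le_sup_left this).ge (mem_sup_right (mem_zpowers s)))

theorem mem_P (h2 : P2 s) (hn : s ∈ Nor P) (e : Et t (s * u * s⁻¹) u) : s ∈ P :=
  mem_of_syl m.syl ((m.c.nor4 m.hu).mpr e) h2 hn

theorem exists_D : ∃ d ∈ P, d ∈ Du t u := by
  obtain ⟨α, hα⟩ := m.sc.exists_fix (m.c.p4 m.hu).zp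
  obtain ⟨d, h1, h2, h3, -⟩ := m.sc.four_cen m.hu (hα (mem_zpowers u))
  obtain ⟨g, hg, h⟩ := H8.Sq.conj_into m.syl (m.c.cen_nor4 m.hu (c1_iff.mpr h3)) (p2_of_sq h1.2)
  exact ⟨_, h, h1.conj g, m.c.conj_ne g h2, m.c.comm_r (m.c.symm ((m.c.nor4 m.hu).mp hg))
    (conj_comm h3 g)⟩

theorem rank_two : ∃ a ∈ P, ∃ b ∈ P, a ∈ Du t u ∧ b ∈ Du t u ∧ ¬ Et t a b := by
  have c := m.c
  have hu := m.hu
  by_contra hc
  have one : ∀ a ∈ P, ∀ b ∈ P, a ∈ Du t u → b ∈ Du t u → Et t a b := fun a ha b hb h1 h2 => by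
    by_contra n
    exact hc ⟨a, ha, b, hb, h1, h2, n⟩
  obtain ⟨Γ, _, _, _, f, l⟩ := m.sc.exists_lc m.t4
  obtain ⟨α, hα⟩ := m.sc.exists_fix m.two
  have pN : ∀ {p}, p ∈ P → p ∈ Nor (zpowers u) := fun h => m.syl.le h
  obtain ⟨y, yP, hy⟩ := m.exists_D
  have nrk : ¬ RkD (Ds t f) ⊤ := by
    rintro ⟨_, ⟨a, ha, rfl⟩, _, ⟨b, hb, rfl⟩, -, -, h1, h2⟩
    obtain ⟨x, hx⟩ := l.other ⟨α, hα m.uP⟩
    obtain ⟨τ, s⟩ := l.exists_sa ⟨_, ⟨a, ha, rfl⟩, _, ⟨b, hb, rfl⟩, mem_top _, mem_top _, h1, h2⟩ hx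
    have l' : Ls t f ⟨α, hα m.uP⟩ x τ P := ⟨l, s, m.syl, hα⟩
    obtain ⟨z, hz, z', hz', h1, h2, h3⟩ := s.two_A
    obtain ⟨a, ha, da, rfl⟩ := l'.liftD hz h1
    obtain ⟨b, hb, db, rfl⟩ := l'.liftD hz' h2
    exact h3 (l.ph_et (one a ha b hb da db) (pN hb))
  have fx : ∀ {p}, p ∈ P → ph f p • (⟨α, hα m.uP⟩ : Fx Δ u) = ⟨α, hα m.uP⟩ := fun hp =>
    (l.act.fix_iff (pN hp)).mpr (hα hp)
  have nO : ¬ Od (⊤ : Subgroup Γ) ≤ St Γ (⟨α, hα m.uP⟩ : Fx Δ u) := fun hle => by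
    obtain ⟨x, hx⟩ := l.other ⟨α, hα m.uP⟩
    have yD : ph f y ∈ Ds t f := ⟨y, hy, rfl⟩
    obtain ⟨g, -, e⟩ := l.pd.Pt_trans (l.pt_all ⟨α, hα m.uP⟩) (l.pt_all x)
    have h1 := hle (l.pd.rank_one nrk (mem_top _) yD (mem_Cm (l.pd.sq yD) (mem_top g)))
    rw [mem_St, mul_smul, fx yP] at h1
    exact hx (l.pd.uniq (l.pd.conj _ yD g) h1 (e ▸ conj_smul (fx yP)))
  have cle : ∀ {d}, d ∈ P → Inv d → d ≠ t →
      Cen1 (ph f d) ≤ St Γ (⟨α, hα m.uP⟩ : Fx Δ u) := fun hd i n g hg =>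
    (l.one_fix i n (pN hd)).unique (by rw [← mul_smul, ← c1_iff.mp hg, mul_smul, fx hd]) (fx hd)
  have four : ∀ {a b}, a ∈ P → b ∈ P → Inv a → a ≠ t → Inv b → b ≠ t → Et t (a * b) (b * a) →
      ph f (a * b) ≠ 1 → ¬ Od ⊤ ⊓ Cen1 (ph f (a * b)) ≤ St Γ (⟨α, hα m.uP⟩ : Fx Δ u) :=
    fun {a b} ha hb ia a1 ib b1 e h1 hle => by
      have i1 := l.ph_inv' ia a1 (pN ha)
      have i2 := l.ph_inv' ib b1 (pN hb)
      have e' := l.ph_et e (pN (mul_mem hb ha))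
      rw [ph_mul (pN ha) (pN hb)] at h1 hle e'
      rw [ph_mul (pN hb) (pN ha)] at e'
      exact nO (BS.le_of_four i1 i2 (fun e => h1 (e ▸ i1.2)) e' (odd_Od _)
        (le_nor_Od ⊤ (mem_top _)) (le_nor_Od ⊤ (mem_top _)) (inf_le_right.trans (cle ha ia a1))
        (inf_le_right.trans (cle hb ib b1)) hle)
  have nr3 : ∀ a ∈ P, ∀ b ∈ P, Inv a → a ≠ t → Inv b → b ≠ t → a * b = b * a → Et t a b :=
    fun a ha b hb ia a1 ib b1 e => by
      by_contra n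
      have i := c.inv_of (a := a * b) (by rw [sq_mul e, ia.2, ib.2, one_mul]) fun e =>
        n (c.et_iff'.mpr (by rwa [ib.inv]))
      exact four ha hb ia a1 ib b1 (Et.of_eq e) (l.ph_ne i.1 i.2 (pN (mul_mem ha hb)))
        (inf_le_right.trans (cle (mul_mem ha hb) i.1 i.2))
  have py : ∀ p ∈ P, Et t (p * y * p⁻¹) y := fun p hp =>
    one _ (cmem hp yP) y yP (l.conj_Du hy (pN hp)) hy
  have invy : ∀ a ∈ P, Inv a → a * u * a⁻¹ = u * t → a * y * a⁻¹ = y * t := fun a ha ia e =>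
    (py a ha).resolve_left fun e' => by
      have n : a * u ≠ u * a := fun e' => c.ne_mul _ ((conj_eq_iff.mpr e').symm.trans e)
      exact n (c.comm_l (nr3 a ha y yP ia (fun e => n (e ▸ (c.cen u).symm)) hy.1 hy.2.1
        (conj_eq_iff.mp e')) hy.2.2)
  have w2 : y * u * (y * u) = t := by rw [sq_mul hy.2.2, hy.1.2, hu, one_mul]
  have wc : ∀ a ∈ P, Inv a → a * (y * u) = y * u * a := fun a ha ia => by
    rcases m.act ha with e | e
    · by_cases a1 : a = t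
      · exact a1 ▸ (c.cen _).symm
      · exact c.comm_l (one a ha y yP ⟨ia, a1, conj_eq_iff.mp e⟩ hy) (by rw [mul_assoc, hy.2.2])
    · exact conj_eq_iff.mp (by rw [conj_mul', invy a ha ia e, e, c.mul_tt])
  obtain ⟨a, aP, ia, au⟩ := m.exists_inv
  have iau : Inv (a * u) := ⟨fun e => c.not4 hu (by
      rw [← ia.inv, inv_mul_eq_one] at e
      exact absurd (e ▸ ia.2 : u * u = 1) (hu ▸ c.t1)), by rw [c.inv_sq hu au, ia.2]⟩
  obtain ⟨T, hT, h1⟩ := H5.exists_isSylowOf_ge m.two le_top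
  rcases h1.eq_or_lt with rfl | h1
  · obtain ⟨x, hx, y, hy, ix, iy, e, h1, h2, h3, h4⟩ := (r3_iff c.inv m.tP
      fun g _ => c.mem_cen g).mp (r3_syl m.r3 hT)
    exact (nr3 x hx y hy ix h1 iy h2 e).elim h3 h4
  obtain ⟨s, hs, sP, sn, s2⟩ := step hT.isPGroup h1
  have p2s := P2.of_mem hT.isPGroup hs
  have wc' : ∀ a ∈ P, Inv a → a ∈ Cen1 (s * (y * u) * s⁻¹) := fun a ha ia => by
    have := conj_comm (wc _ (conj_mem (inv_mem sn) ha) (ia.conj s⁻¹)) s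
    simpa [c1_iff, mul_assoc] using this
  have uw : u ∈ Cen1 (s * (y * u) * s⁻¹) := by
    simpa using mul_mem (inv_mem (wc' a aP ia)) (wc' _ (mul_mem aP m.uP) iau)
  have ww : y * u ∈ Cen1 (s * (y * u) * s⁻¹) := mul_mem (wc' y yP hy.1) uw
  have sw : Et t (s * (y * u) * s⁻¹) (y * u) := by
    by_contra n
    have i := c.inv_of (c.sq_mul4 w2 (c.sq4 w2 s) (c1_iff.mp ww)) fun e =>
      n (c.trans (c.lcancel (g := y * u) (b := (y * u)⁻¹) (by simpa using e)) (c.inv4' w2))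
    have uw' : y * u * u = u * (y * u) := by rw [← mul_assoc, hy.2.2]
    have e := one _ (mul_mem (mul_mem yP m.uP) (conj_mem sn (mul_mem yP m.uP))) y yP
      ⟨i.1, i.2, c1_iff.mp (mul_mem (c1_iff.mpr uw') (mem_cen1_comm.mp uw))⟩ hy
    have := c.comm_r (c.symm e) (c1_iff.mp (mem_cen1_comm.mp (mul_mem
      (mem_cen1_comm.mp (c1_iff.mpr (wc a aP ia))) (mem_cen1_comm.mp (wc' a aP ia)))))
    have h2 := invy a aP ia au
    rw [conj_eq_iff.mpr this] at h2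
    exact c.ne_mul _ h2
  have y'P := conj_mem sn yP
  have iy' := hy.1.conj s
  have y'1 := c.conj_ne s hy.2.1
  have y'u : s * y * s⁻¹ * u * (s * y * s⁻¹)⁻¹ = u * t := (m.act y'P).resolve_left fun e => by
    have e1 := one _ y'P y yP ⟨iy', y'1, conj_eq_iff.mp e⟩ hy
    rw [conj_mul'] at sw
    exact sP (m.mem_P p2s sn (c.lcancel (c.trans (c.mul (c.symm e1) (Et.refl _ _)) sw)))
  have y'y := invy _ y'P iy' y'u
  have py' : ∀ p ∈ P, Et t (p * (s * y * s⁻¹) * p⁻¹) (s * y * s⁻¹) := fun p hp => by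
    have := c.econj s (py _ (conj_mem' sn hp))
    rwa [show s * (s⁻¹ * p * s * y * (s⁻¹ * p * s)⁻¹) * s⁻¹ = p * (s * y * s⁻¹) * p⁻¹ by group]
      at this
  have ss : Et t (s * (s * y * s⁻¹) * s⁻¹) y := by
    have := py _ s2
    rwa [show s * s * y * (s * s)⁻¹ = s * (s * y * s⁻¹) * s⁻¹ by group] at this
  have sk : Et t (s * (y * (s * y * s⁻¹)) * s⁻¹) (s * y * s⁻¹ * y) :=
    conj_mul' s y _ ▸ c.mul (Et.refl _ _) ss
  generalize s * y * s⁻¹ = z at y'P iy' y'1 y'u y'y py' sk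
  have zy : z * y = y * z * t := by rw [← c.mv, ← y'y, inv_mul_cancel_right]
  have k2 : y * z * (y * z) = t := by
    rw [mul_assoc, ← mul_assoc z, zy, c.mv, mul_assoc y z z, iy'.2, mul_one, ← mul_assoc, hy.1.2,
      one_mul]
  have ec : Et t (y * z) (z * y) := c.symm (Or.inr zy)
  have k4 : T4 Δ t (y * z) := by
    have kN := pN (mul_mem yP y'P)
    by_cases e : ph f (y * z) = 1
    · obtain ⟨x, x', h⟩ := l.two_pts
      exact ⟨k2, x, x', fun e => h (Subtype.ext e), (l.ker kN).mp e x x.2, (l.ker kN).mp e x' x'.2⟩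
    obtain ⟨g, hg, h⟩ := SetLike.not_le_iff_exists.mp (four yP y'P hy.1 hy.2.1 iy' y'1 ec e)
    exact ⟨k2, _, α, fun e => h (Subtype.ext e), (l.act.fix_iff kN).mp (by
      rw [← mul_smul, ← c1_iff.mp hg.2, mul_smul, fx (mul_mem yP y'P)]), hα (mul_mem yP y'P)⟩
  refine m.no_bigger sn p2s sP k4 ⟨y, hy.1, ?_⟩
    (fun p hp => conj_mul' p y z ▸ c.mul (py p hp) (py' p hp)) (c.trans sk (c.symm ec))
  rw [← zy, ← mul_assoc, hy.1.2, one_mul, hy.1.inv]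

theorem exists_bc : ∃ F a b k, ∃ α : Δ, BC t u P F a b k α := by
  obtain ⟨a, ha, b, hb, da, db, n⟩ := m.rank_two
  refine (m.sc.el m.t4 m.syl ha hb da db n).resolve_left fun h => ?_
  obtain ⟨a, ha, ia, e⟩ := m.exists_inv
  rw [conj_eq_iff.mpr (h.2 a ha ia)] at e
  exact m.c.ne_mul _ e

end Mx

end GC
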