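import Cfsg.Agent.GC.G

/-! The central product type and the swapping structure. -/

set_option autoImplicit false
set_option linter.unusedSectionVars false

namespace GC

open Cfsg Subgroup FT H4 BS SF
open H5.Dich (E3 R3 NF)
open H8.Sq (P2 p2_of_sq)
open scoped commutatorElement

universe u

variable {X : Type u} [Group X] [Finite X] {Δ : Type u} [MulAction X Δ] [Finite Δ]
  {t u a b d e g k p r s v w x y : X} {α β : Δ} {F P T R : Subgroup X}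

theorem two_dih (ha : a * a = 1) (hb : b * b = 1) (h : P2 (a * b)) :
    IsPGroup 2 ↥(zpowers (a * b) ⊔ zpowers a) :=
  two_sup h.zp (mem_nor fun x hx => (inv_part ha hb hx).symm ▸ inv_mem hx) (p2_of_sq ha)

theorem Ci.comm_of_anti (c : Ci t) (h1 : a * x * a⁻¹ = x * t) (h2 : b * y * b⁻¹ = y * t)
    (e1 : x * b = b * x) (e2 : a * y = y * a) (e3 : a * b = b * a) (e4 : x * y = y * x) :
    a * b * (x * y) = x * y * (a * b) := by
  refine conj_eq_iff.mp ?_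
  have h3 : a * b * x * (a * b)⁻¹ = x * t := by
    rw [← h1]; calc _ = a * (b * x * b⁻¹) * a⁻¹ := by group
      _ = _ := by rw [conj_eq_iff.mpr e1.symm]
  have h4 : a * b * y * (a * b)⁻¹ = y * t := by
    rw [← h2, e3]; calc _ = b * (a * y * a⁻¹) * b⁻¹ := by group
      _ = _ := by rw [conj_eq_iff.mpr e2]
  rw [conj_mul', h3, h4, c.mul_tt]

namespace BC

variable (l : BC t u P F a b k α)
include l

theorem act (hp : p ∈ P) : Et t (p * u * p⁻¹) u := (l.c.nor4 l.hu).mp (l.syl.le hp)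

theorem FQ (hx : x ∈ F) (h : x ∈ Qk Δ u P) : Et t x 1 := l.inf x hx h.2

theorem Fu (hx : x ∈ F) : x * u = u * x := (l.QF l.uQ hx).symm

theorem exists_r (m : Mx Δ t u P) : ∃ r ∈ Qk Δ u P, r * r = t ∧ r * u * r⁻¹ = u * t := by
  obtain ⟨i, hi, ii, e⟩ := m.exists_inv
  obtain ⟨r, hr, x, hx, rfl⟩ := l.memE.mp (l.inv i hi ii.2)
  have e' : r * u * r⁻¹ = u * t := by
    rw [← e]; calc _ = r * (x * u * x⁻¹) * r⁻¹ := by rw [conj_eq_iff.mpr (l.Fu hx)]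
      _ = _ := by group
  exact ⟨r, hr, l.roQ.sq_inv l.c l.hu l.uQ hr (P2.of_mem l.two hr.1) e', e'⟩

theorem exists_anti (m : Mx Δ t u P) (hr : r ∈ Qk Δ u P) (h : r * r = t) :
    ∃ r' ∈ Qk Δ u P, r' * r' = t ∧ r' * r * r'⁻¹ = r * t := by
  rcases l.act hr.1 with e | e
  · obtain ⟨r', h1, h2, h3⟩ := l.exists_r m
    refine ⟨r', h1, h2, ?_⟩
    rcases l.roQ.four l.c l.hu l.uQ h hr (conj_eq_iff.mp e) with e | e <;> rw [e]
    · exact h3
    · rw [l.c.conj_t, h3]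
  · exact ⟨u, l.uQ, l.hu, l.c.anti l.hu e⟩

theorem te (m : Mx Δ t u P) (hT : Syl T ⊤) (hE : ∀ d ∈ T, d * d = 1 → d ∈ Qk Δ u P ⊔ F) :
    TE t := by
  have c := l.c
  refine ⟨fun d hd d1 => ?_, fun x y hx hy hi => ?_⟩
  · obtain ⟨g, -, hg⟩ := H8.Sq.conj_into hT (mem_top d) (p2_of_sq hd.2)
    have i := hd.conj g
    obtain ⟨r, hr, x, hx, e⟩ := l.memE.mp (hE _ hg i.2)
    obtain ⟨h1, h2⟩ := l.invE hr hx (e ▸ i.2) (e ▸ c.not_one i (c.conj_ne g d1))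
    obtain ⟨r', hr', h3, h4⟩ := l.exists_anti m hr h1
    obtain ⟨y, hy, y1, h5⟩ := l.q8.other c hx
    have x1 := c.not4 h2
    have h6 := l.q8.anti c hy hx y1 x1 h5
    have yx := mul_mem hy hx
    have h7 : y * x * x * (y * x)⁻¹ = x * t := by rw [← h6]; group
    have y2 := l.q8.sq y hy y1
    have yx2 := l.q8.sq _ yx (l.q8.mul1 c hy hx y1 x1 h5)
    have i1 := (l.inv_mul hr' hy h3 y2).1
    have i2 := (l.inv_mul hr' yx h3 yx2).1
    have k1 := c.comm_of_anti h4 h6 (l.QF hr hy) (l.QF hr' hx) (l.QF hr' hy) (l.QF hr hx)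
    have k2 := c.comm_of_anti h4 h7 (l.QF hr yx) (l.QF hr' hx) (l.QF hr' yx) (l.QF hr hx)
    have ed : d = g⁻¹ * (r * x) * g⁻¹⁻¹ := by rw [e]; group
    refine ⟨_, _, i1.conj g⁻¹, i2.conj g⁻¹, ed ▸ conj_comm k1 _, ed ▸ conj_comm k2 _, ?_⟩
    rw [← conj_mul', show r' * y * (r' * (y * x)) = r' * y * (r' * y) * x by group, i1.2, one_mul]
    exact c.sq4 h2 _
  · obtain ⟨g, -, hg⟩ := H8.Sq.conj_le hT (two_dih hx.2 hy.2 (p2_sq (p2_of_sq hi.2))) le_top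
    have mx := hg x (mem_sup_right (mem_zpowers x))
    have my := hg y (H5.mem_of_eq (mul_mem (inv_mem (mem_sup_right (mem_zpowers x)))
      (mem_sup_left (mem_zpowers (x * y)))) (by group))
    obtain ⟨r, hr, z, hz, e⟩ := l.memE.mp (hE _ mx (hx.conj g).2)
    obtain ⟨r', hr', z', hz', e'⟩ := l.memE.mp (hE _ my (hy.conj g).2)
    have e1 : g * (x * y) * g⁻¹ = r * r' * (z * z') := by
      rw [conj_mul', ← e, ← e', mul_assoc, mul_assoc, ← mul_assoc z, ← l.QF hr' hz]; group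
    have e2 : g * (x * y * (x * y)) * g⁻¹ ∈ Qk Δ u P := by
      rw [conj_mul', e1, sq_mul (l.QF (mul_mem hr hr') (mul_mem hz hz'))]
      exact mul_mem (mul_mem (mul_mem hr hr') (mul_mem hr hr'))
        (c.mem_of l.tQ (l.q8.sq' c (mul_mem hz hz')) (one_mem _))
    have := c.of_conj g (b := 1) (by simpa using l.roQ _ e2 (hi.conj g).2)
    exact (c.et_one.mp this).resolve_left hi.1

theorem conj_fix (hs : s ∈ Nor P) (hp : p ∈ P) :
    Et t (p * (s * u * s⁻¹) * p⁻¹) (s * u * s⁻¹) := by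
  have := l.c.econj s (l.act (conj_mem' hs hp))
  rwa [show s * (s⁻¹ * p * s * u * (s⁻¹ * p * s)⁻¹) * s⁻¹ = p * (s * u * s⁻¹) * p⁻¹ by group]
    at this

theorem swap1 (m : Mx Δ t u P) (hs : s ∈ Nor P) (h2 : P2 s) (sP : s ∉ P) (s2 : s * s ∈ P) :
    s * u * s⁻¹ ∈ F := by
  have c := l.c
  have vP := conj_mem hs l.uP
  have v2 := c.sq4 l.hu s
  have ss : Et t (s * (s * u * s⁻¹) * s⁻¹) u := by
    have := l.act s2
    rwa [show s * s * u * (s * s)⁻¹ = s * (s * u * s⁻¹) * s⁻¹ by group] at this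
  refine (l.fourE (l.cenF _ vP fun x hx => c.et_comm.mp (c.symm (c.et_comm.mpr
    (l.conj_fix hs (l.le hx))))) v2).resolve_left fun vQ => ?_
  have e : s * u * s⁻¹ * u * (s * u * s⁻¹)⁻¹ = u * t := (l.act vP).resolve_left fun e =>
    sP (m.mem_P h2 hs (l.roQ.four c l.hu l.uQ v2 vQ (conj_eq_iff.mp e)))
  have pf := fun p hp => l.conj_fix (p := p) hs hp
  have sk : Et t (s * (s * u * s⁻¹ * u) * s⁻¹) (u * (s * u * s⁻¹)) :=
    conj_mul' s _ u ▸ c.mul ss (Et.refl _ _)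
  generalize s * u * s⁻¹ = v at vP v2 vQ e pf sk
  have e' := c.anti l.hu e
  have kQ := mul_mem vQ l.uQ
  obtain ⟨x, y, hxy⟩ := l.t4.2
  refine m.no_bigger (v := v * u) hs h2 sP ⟨by rw [c.inv_sq l.hu e, v2], x, y, hxy.1,
    kQ.2 x hxy.2.1, kQ.2 y hxy.2.2⟩ ⟨u * a, (l.inv_mul l.uQ l.q8.am l.hu (l.q8.aa c)).1, ?_⟩
    (fun p hp => conj_mul' p v u ▸ c.mul (pf p hp) (l.act hp)) (c.trans sk (Or.inr ?_))
  · calc _ = u * (a * (v * u) * a⁻¹) * u⁻¹ := by group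
      _ = u * v * u⁻¹ * u := by rw [conj_eq_iff.mpr (l.QF kQ l.q8.am).symm]; group
      _ = _ := by rw [e', c.mv]
  · rw [← c.mv, ← e']; group

theorem swapF (m : Mx Δ t u P) (hs : s ∈ Nor P) (h2 : P2 s) (sP : s ∉ P) (s2 : s * s ∈ P)
    (hx : x ∈ F) : s * x * s⁻¹ ∈ Qk Δ u P := by
  have c := l.c
  have vF := l.swap1 m hs h2 sP s2
  have ss : Et t (s * (s * u * s⁻¹) * s⁻¹) u := by
    have := l.act s2
    rwa [show s * s * u * (s * s)⁻¹ = s * (s * u * s⁻¹) * s⁻¹ by group] at this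
  by_cases x1 : Et t x 1
  · exact c.mem_of l.tQ (c.econj s x1) (by simp)
  by_cases h : Et t x (s * u * s⁻¹)
  · exact c.mem_of l.tQ (c.trans (c.econj s h) ss) l.uQ
  have x2 := l.q8.sq x hx x1
  have m1 := l.inv _ (conj_mem hs (mul_mem l.uP (l.le hx)))
    ((l.inv_mul l.uQ hx l.hu x2).1.conj s).2
  refine (l.fourE (H5.mem_of_eq (mul_mem (inv_mem (mem_sup_right vF)) m1) (by group))
    (c.sq4 x2 s)).resolve_right fun e => ?_
  have h1 := l.q8.anti c hx vF x1 (c.not4 (c.sq4 l.hu s)) h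
  have h3 := c.comm_r ss (l.Fu e)
  rw [← conj_mul', ← conj_mul', mul_left_inj, mul_right_inj] at h3
  rw [conj_eq_iff.mpr h3] at h1
  exact c.ne_mul _ h1

theorem swapQ (m : Mx Δ t u P) (hs : s ∈ Nor P) (h2 : P2 s) (sP : s ∉ P) (s2 : s * s ∈ P)
    (hr : r ∈ Qk Δ u P) : s * r * s⁻¹ ∈ F := by
  have c := l.c
  have vF := l.swap1 m hs h2 sP s2
  have v2 := c.sq4 l.hu s
  have ss : Et t (s * (s * u * s⁻¹) * s⁻¹) u := by
    have := l.act s2
    rwa [show s * s * u * (s * s)⁻¹ = s * (s * u * s⁻¹) * s⁻¹ by group] at this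
  have key : ∀ r ∈ Qk Δ u P, r * u * r⁻¹ = u * t → s * r * s⁻¹ ∈ F := fun r hr e => by
    have r2 := l.roQ.sq_inv c l.hu l.uQ hr (P2.of_mem l.two hr.1) e
    have m1 := l.inv _ (conj_mem hs (mul_mem hr.1 (l.le vF))) (by
      rw [sq_conj, c.sq_mul4 r2 v2 (l.QF hr vF)]; simp)
    refine (l.fourE (H5.mem_of_eq (mul_mem m1 (inv_mem (mem_sup_left
      (c.mem_of l.tQ ss l.uQ)))) (by group)) (c.sq4 r2 s)).resolve_left fun h => ?_
    have h3 := l.QF h vF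
    rw [← conj_mul', ← conj_mul', mul_left_inj, mul_right_inj] at h3
    rw [conj_eq_iff.mpr h3] at e
    exact c.ne_mul _ e
  rcases l.act hr.1 with e | e
  · obtain ⟨w, hw, w1, h⟩ := l.q8.other c vF
    have wQ := l.swapF m hs h2 sP s2 hw
    have h1 := l.q8.anti c hw vF w1 (c.not4 v2) h
    have h3 : s * w * s⁻¹ * u * (s * w * s⁻¹)⁻¹ = u * t := (l.act wQ.1).resolve_left fun e => by
      have h4 := c.comm_r ss (conj_eq_iff.mp e)
      rw [← conj_mul', ← conj_mul', mul_left_inj, mul_right_inj] at h4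
      rw [conj_eq_iff.mpr h4] at h1
      exact c.ne_mul _ h1
    have h4 := key _ (mul_mem hr wQ) (by
      calc _ = r * (s * w * s⁻¹ * u * (s * w * s⁻¹)⁻¹) * r⁻¹ := by group
        _ = _ := by rw [h3, c.conj_t, e])
    have h5 := conj_mem (l.norF s2) hw
    exact H5.mem_of_eq (mul_mem h4 (inv_mem h5)) (by group)
  · exact key r hr e

theorem eq_of_norQ (m : Mx Δ t u P) (hR : IsPGroup 2 R) (h1 : P ≤ R) (h2 : R ≤ Nor (Qk Δ u P)) :
    R ≤ P := by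
  by_contra h
  obtain ⟨s, hs, sP, sn, s2⟩ := step hR (lt_of_le_not_ge h1 h)
  exact l.c.not4 (l.c.sq4 l.hu s) (l.FQ (l.swap1 m sn (P2.of_mem hR hs) sP s2)
    (conj_mem (h2 hs) l.uQ))

theorem q8Q (m : Mx Δ t u P) (hs : s ∈ Nor P) (h2 : P2 s) (sP : s ∉ P) (s2 : s * s ∈ P) :
    Qk Δ u P = conjS s F := by
  refine le_antisymm (fun r hr => mem_conjS.mpr ?_) fun r hr => ?_
  · have := l.swapQ m hs h2 sP s2 (conj_mem' (l.norQ s2) hr)
    exact H5.mem_of_eq this (by group)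
  · obtain ⟨x, hx, rfl⟩ := hr
    exact l.swapF m hs h2 sP s2 hx

/-- a normalizing element which keeps one element of order 4 keeps the factor -/
theorem norQ_of (q : Q8 t (Qk Δ u P) x y) (hg : g ∈ Nor (Qk Δ u P ⊔ F))
    (h : g * u * g⁻¹ ∈ Qk Δ u P) : g ∈ Nor (Qk Δ u P) := mem_nor fun r hr => by
  have c := l.c
  by_cases r1 : Et t r 1
  · exact c.mem_of l.tQ (c.econj g r1) (by simp)
  by_cases e : Et t r u
  · exact c.mem_of l.tQ (c.econj g e) h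
  refine (l.fourE (conj_mem hg (mem_sup_left hr)) (c.sq4 (q.sq r hr r1) g)).resolve_right
    fun e' => ?_
  have h1 := q.anti c hr l.uQ r1 (c.not4 l.hu) e
  have h3 := l.QF h e'
  rw [← conj_mul', ← conj_mul', mul_left_inj, mul_right_inj] at h3
  rw [conj_eq_iff.mpr h3.symm] at h1
  exact c.ne_mul _ h1

theorem norE_of (q : Q8 t (Qk Δ u P) x y) (hg : g ∈ Nor P) (h : g * u * g⁻¹ ∈ Qk Δ u P ⊔ F) :
    g ∈ Nor (Qk Δ u P ⊔ F) := by
  have c := l.c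
  have tE : t ∈ Qk Δ u P ⊔ F := mem_sup_left l.tQ
  have k1 : ∀ r ∈ Qk Δ u P, ∀ x ∈ F, r * r = t → x * x = t → g * (r * x) * g⁻¹ ∈ Qk Δ u P ⊔ F :=
    fun r hr x hx h1 h2 => l.inv _ (conj_mem hg (mul_mem hr.1 (l.le hx)))
      ((l.inv_mul hr hx h1 h2).1.conj g).2
  have k2 : ∀ x ∈ F, g * x * g⁻¹ ∈ Qk Δ u P ⊔ F := fun x hx => by
    by_cases x1 : Et t x 1
    · exact c.mem_of tE (c.econj g x1) (by simp)
    · exact H5.mem_of_eq (mul_mem (inv_mem h) (k1 u l.uQ x hx l.hu (l.q8.sq x hx x1))) (by group)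
  refine mem_nor fun e he => ?_
  obtain ⟨r, hr, x, hx, rfl⟩ := l.memE.mp he
  rw [conj_mul']
  refine mul_mem ?_ (k2 x hx)
  by_cases r1 : Et t r 1
  · exact c.mem_of tE (c.econj g r1) (by simp)
  · exact H5.mem_of_eq (mul_mem (k1 r hr a l.q8.am (q.sq r hr r1) (l.q8.aa c))
      (inv_mem (k2 a l.q8.am))) (by group)

theorem cenQ (hs : s ∈ Nor P) (h1 : ∀ x ∈ F, s⁻¹ * x * s ∈ Qk Δ u P)
    (h2 : ∀ r ∈ Qk Δ u P, s⁻¹ * r * s ∈ F) (hg : g ∈ P)
    (h : ∀ r ∈ Qk Δ u P, Et t (g * r * g⁻¹) r) : g ∈ Qk Δ u P ⊔ F := by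
  obtain ⟨r, hr, x, hx, e⟩ := l.memE.mp (l.cenF _ (conj_mem hs hg) fun x hx => by
    have := l.c.econj s (h _ (h1 x hx))
    rwa [show s * (g * (s⁻¹ * x * s) * g⁻¹) * s⁻¹ = s * g * s⁻¹ * x * (s * g * s⁻¹)⁻¹ by group,
      show s * (s⁻¹ * x * s) * s⁻¹ = x by group] at this)
  refine H5.mem_of_eq (mul_mem (mem_sup_right (h2 r hr)) (mem_sup_left (h1 x hx))) ?_
  calc _ = s⁻¹ * (r * x) * s := by group
    _ = _ := by rw [e]; group

theorem syl_two (m : Mx Δ t u P) (hT : IsPGroup 2 T) (h1 : P ≤ T) (sT : s ∈ T) (hs : s ∈ Nor P)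
    (sP : s ∉ P) (s2 : s * s ∈ P) : T ≤ P ⊔ zpowers s := by
  have c := l.c
  have p2 : ∀ {g}, g ∈ T → P2 g := fun h => P2.of_mem hT h
  have le1 : P ⊔ zpowers s ≤ T := sup_le h1 (zpowers_le.mpr sT)
  have n1 : P ⊔ zpowers s ≤ Nor P := sup_le le_normalizer (zpowers_le.mpr hs)
  have ms : s ∈ P ⊔ zpowers s := mem_sup_right (mem_zpowers s)
  have sq : ∀ g ∈ P ⊔ zpowers s, g ∉ P → g * g ∈ P := fun g hg gP => by
    have := ((mem_sup_zp hs s2).mp hg).resolve_left gP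
    exact H5.mem_of_eq (mul_mem (mul_mem this (conj_mem' hs this)) (inv_mem s2)) (by group)
  have sF : ∀ g ∈ P ⊔ zpowers s, g ∉ P → ∀ x ∈ F, g * x * g⁻¹ ∈ Qk Δ u P := fun g hg gP x hx =>
    l.swapF m (n1 hg) (p2 (le1 hg)) gP (sq g hg gP) hx
  have sQ : ∀ g ∈ P ⊔ zpowers s, g ∉ P → ∀ x ∈ Qk Δ u P, g * x * g⁻¹ ∈ F := fun g hg gP x hx =>
    l.swapQ m (n1 hg) (p2 (le1 hg)) gP (sq g hg gP) hx
  have q : Q8 t (Qk Δ u P) _ _ := l.q8Q m hs (p2 sT) sP s2 ▸ l.q8.conj c s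
  by_contra hc
  obtain ⟨z, zT, z1, zn, -⟩ := step hT (lt_of_le_not_ge le1 hc)
  have A : ∀ z ∈ T, z ∈ Nor (P ⊔ zpowers s) → z * u * z⁻¹ ∈ Qk Δ u P → z ∈ P := fun z zT zn h => by
    have zP : z ∈ Nor P := mem_nor fun p hp => by
      by_contra n
      have h2 := sQ _ (conj_mem zn (mem_sup_left hp)) n _ h
      have h3 := c.econj z (l.act hp)
      rw [show z * p * z⁻¹ * (z * u * z⁻¹) * (z * p * z⁻¹)⁻¹ = z * (p * u * p⁻¹) * z⁻¹ by group]
        at h2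
      exact c.not4 (c.sq4 l.hu z) (l.FQ (c.mem_of l.q8.tm (c.symm h3) h2) h)
    exact l.eq_of_norQ m (two_sup l.two zP (p2 zT)) le_sup_left (sup_le (fun p hp => l.norQ hp)
      (zpowers_le.mpr (l.norQ_of q (l.norE_of q zP (mem_sup_left h)) h)))
      (mem_sup_right (mem_zpowers z))
  have two : ∀ p ∈ P ⊔ zpowers s, Et t (p * u * p⁻¹) u ∨ Et t (p * u * p⁻¹) (s * u * s⁻¹) :=
    fun p hp => by
      rcases (mem_sup_zp hs s2).mp hp with h | h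
      · exact Or.inl (l.act h)
      · have := c.econj s (l.act (p := s⁻¹ * p) (H5.mem_of_eq (mul_mem (conj_mem' hs h)
          (inv_mem s2)) (by group)))
        exact Or.inr (by rwa [show s * (s⁻¹ * p * u * (s⁻¹ * p)⁻¹) * s⁻¹ = p * u * p⁻¹ by group]
          at this)
  have three : ∀ e ∈ P, ∀ e' ∈ P, Et t (e * (z * u * z⁻¹ * e⁻¹ * (z * u * z⁻¹)⁻¹)) 1 ∨
      Et t (e' * (z * u * z⁻¹ * e'⁻¹ * (z * u * z⁻¹)⁻¹)) 1 ∨
      Et t (e * (z * u * z⁻¹ * e⁻¹ * (z * u * z⁻¹)⁻¹))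
        (e' * (z * u * z⁻¹ * e'⁻¹ * (z * u * z⁻¹)⁻¹)) := by
    have k : ∀ e ∈ P, Et t (e * (z * u * z⁻¹ * e⁻¹ * (z * u * z⁻¹)⁻¹)) 1 ∨
        Et t (e * (z * u * z⁻¹ * e⁻¹ * (z * u * z⁻¹)⁻¹))
          (z * (s * u * s⁻¹) * z⁻¹ * (z * u * z⁻¹)⁻¹) := fun e he => by
      have e0 : e * (z * u * z⁻¹ * e⁻¹ * (z * u * z⁻¹)⁻¹) =
          z * (z⁻¹ * e * z * u * (z⁻¹ * e * z)⁻¹) * z⁻¹ * (z * u * z⁻¹)⁻¹ := by group
      rw [e0]
      rcases two _ (conj_mem' zn (mem_sup_left he)) with h | h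
      · exact Or.inl (c.et_iff'.mp (c.econj z h))
      · exact Or.inr (c.mul (c.econj z h) (Et.refl _ _))
    intro e he e' he'
    rcases k e he with h | h
    · exact Or.inl h
    rcases k e' he' with h' | h'
    exacts [Or.inr (Or.inl h'), Or.inr (Or.inr (c.trans h (c.symm h')))]
  have wT := conj_mem zn (mem_sup_left l.uP : u ∈ P ⊔ zpowers s)
  have w2 := c.sq4 l.hu z
  have wE : z * u * z⁻¹ ∉ Qk Δ u P ⊔ F := fun h => by
    rcases l.fourE h w2 with h | h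
    · exact z1 (mem_sup_left (A z zT zn h))
    · have := A (s * z) (mul_mem sT zT) (mul_mem (le_normalizer ms) zn)
        (H5.mem_of_eq (sF s ms sP _ h) (by group))
      exact z1 (H5.mem_of_eq (mul_mem (inv_mem ms) (mem_sup_left this)) (by group))
  generalize z * u * z⁻¹ = w at three wT w2 wE
  by_cases wP : w ∈ P
  · obtain ⟨x, hx, n1⟩ : ∃ x ∈ F, ¬ Et t (w * x * w⁻¹) x := by
      by_contra n
      push Not at n
      exact wE (l.cenF w wP n)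
    obtain ⟨r, hr, n2⟩ : ∃ r ∈ Qk Δ u P, ¬ Et t (w * r * w⁻¹) r := by
      by_contra n
      push Not at n
      exact wE (l.cenQ hs (fun x hx => by simpa using sF _ (inv_mem ms) (by simpa) x hx)
        (fun x hx => by simpa using sQ _ (inv_mem ms) (by simpa) x hx) wP n)
    have k : ∀ {x}, Et t (x⁻¹ * (w * x⁻¹⁻¹ * w⁻¹)) 1 → Et t (w * x * w⁻¹) x := fun h =>
      c.et_iff.mpr (by simpa using h)
    rcases three _ (inv_mem (l.le hx)) _ (inv_mem hr.1) with h | h | h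
    · exact n1 (k h)
    · exact n2 (k h)
    · exact n1 (k (l.FQ (mul_mem (inv_mem hx) (conj_mem (l.norF wP) (by simpa)))
        (c.mem_of l.tQ h (mul_mem (inv_mem hr) (conj_mem (l.norQ wP) (by simpa))))))
  · have k : ∀ x ∈ F, Et t (x * (w * x⁻¹ * w⁻¹)) 1 → Et t x 1 := fun x hx h =>
      l.FQ hx (H5.mem_of_eq (mul_mem (c.mem_of l.tQ h (one_mem _))
        (inv_mem (sF w wT wP _ (inv_mem hx)))) (by group))
    rcases three _ (l.le l.q8.am) _ (l.le l.q8.bm) with h | h | h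
    · exact l.q8.a1 (k a l.q8.am h)
    · exact l.q8.b1 (k b l.q8.bm h)
    · refine l.q8.ab (c.et_iff.mpr (l.FQ (mul_mem (inv_mem l.q8.bm) l.q8.am) ?_))
      have h' := c.mul (Et.refl t b⁻¹) h
      have := c.mem_of l.tQ h' (by simpa using sF w wT wP _ (inv_mem l.q8.bm))
      exact H5.mem_of_eq (mul_mem this (inv_mem (sF w wT wP _ (inv_mem l.q8.am)))) (by group)

end BC

/-- the swapping structure -/
structure Sw (t u : X) (T P F : Subgroup X) (a b k : X) (α : Δ) : Prop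
    extends BC t u P F a b k α where
  syT : Syl T ⊤
  PT : P ≤ T
  stT : T ≤ St X α
  idx : ∀ g ∈ T, ∀ h ∈ T, g ∉ P → h ∉ P → g * h ∈ P
  swF : ∀ g ∈ T, g ∉ P → ∀ x ∈ F, g * x * g⁻¹ ∈ Qk Δ u P
  swQ : ∀ g ∈ T, g ∉ P → ∀ r ∈ Qk Δ u P, g * r * g⁻¹ ∈ F
  au : ∀ g ∈ T, g ∉ P → Et t (g * u * g⁻¹) a
  ex : ∃ τ ∈ T, τ ∉ P ∧ τ * τ = 1

theorem BC.te_or_sw (l : BC t u P F a b k α) (m : Mx Δ t u P) :
    TE t ∨ ∃ T a b, Sw t u T P F a b k α := by
  have c := l.c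
  obtain ⟨T, hT, h1, h2⟩ := l.sc.syl_at l.two l.st
  by_cases hE : ∀ d ∈ T, d * d = 1 → d ∈ Qk Δ u P ⊔ F
  · exact Or.inl (l.te m hT hE)
  push Not at hE
  obtain ⟨τ, τT, τ2, τE⟩ := hE
  have τP : τ ∉ P := fun h => τE (l.inv τ h τ2)
  obtain ⟨s, sT, sP, hs, s2⟩ := step hT.isPGroup (lt_of_le_not_ge h1 fun h => τP (h τT))
  have le := l.syl_two m hT.isPGroup h1 sT hs sP s2
  have dec : ∀ g ∈ T, g ∉ P → g * s ∈ P := fun g hg n =>
    ((mem_sup_zp hs s2).mp (le hg)).resolve_left n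
  have idx : ∀ g ∈ T, ∀ h ∈ T, g ∉ P → h ∉ P → g * h ∈ P := fun g hg h hh n n' =>
    H5.mem_of_eq (mul_mem (mul_mem (dec g hg n) (conj_mem' hs (dec h hh n'))) (inv_mem s2))
      (by group)
  have nP : T ≤ Nor P := le.trans (sup_le le_normalizer (zpowers_le.mpr hs))
  have p2 : ∀ {g}, g ∈ T → P2 g := fun h => P2.of_mem hT.isPGroup h
  have vF := l.swap1 m hs (p2 sT) sP s2
  obtain ⟨y, hy, y1, h⟩ := l.q8.other c vF
  refine Or.inr ⟨T, s * u * s⁻¹, y, ⟨⟨l.q8.change c vF hy (c.not4 (c.sq4 l.hu s)) y1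
    fun e => h (c.symm e), l.le, l.cen, l.inf, l.inv, l.norE, l.cenF,
    fun g hg => l.conj_fix hs hg, l.kodd, l.kF, l.kQ, l.ktr, l.o1, l.o2, l.o3⟩, l.sc, l.t4, l.syl,
    l.st⟩, hT, h1, h2, idx, fun g hg n x hx => l.swapF m (nP hg) (p2 hg) n (idx g hg g hg n n) hx,
    fun g hg n x hx => l.swapQ m (nP hg) (p2 hg) n (idx g hg g hg n n) hx, fun g hg n => ?_,
    τ, τT, τP, τ2⟩
  have := c.econj s (l.act (idx _ (inv_mem sT) g hg (by simpa) n))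
  rwa [show s * (s⁻¹ * g * u * (s⁻¹ * g)⁻¹) * s⁻¹ = g * u * g⁻¹ by group] at this

end GC
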