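import Cfsg.Agent.GC.H
import Cfsg.Agent.MT.Gen

/-! Calculations in the swapping structure. -/

set_option autoImplicit false
set_option linter.unusedSectionVars false

namespace GC

open Cfsg Subgroup FT H4 BS SF
open H5.Dich (E3 R3 NF)
open H8.Sq (P2 p2_of_sq)
open scoped commutatorElement

universe u

variable {X : Type u} [Group X] [Finite X] {Δ : Type u} [MulAction X Δ] [Finite Δ]
  {t u a b d e g h k n p r s v w x y z σ τ : X} {α β : Δ} {F L M P T R : Subgroup X}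

/-- the centralizer modulo `t` -/
def Ce (c : Ci t) (x : X) : Subgroup X where
  carrier := {g | Et t (g * x * g⁻¹) x}
  one_mem' := Et.of_eq (by simp)
  mul_mem' := fun {g h} hg hh => c.trans (by
    have := c.econj g hh
    rwa [show g * (h * x * h⁻¹) * g⁻¹ = g * h * x * (g * h)⁻¹ by group] at this) hg
  inv_mem' := fun {g} hg => c.symm (by simpa [mul_assoc] using c.econj g⁻¹ hg)

theorem mem_Ce {c : Ci t} : g ∈ Ce c x ↔ Et t (g * x * g⁻¹) x := Iff.rfl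

/-- conjugacy modulo `t` -/
def Cm2 (t : X) (L : Subgroup X) (x y : X) : Prop := ∃ g ∈ L, Et t (g * x * g⁻¹) y

namespace Ci

variable (c : Ci t)
include c

theorem cm_et (h : Et t x y) : Cm2 t L x y := ⟨1, one_mem _, by simpa using h⟩

theorem cm_symm (h : Cm2 t L x y) : Cm2 t L y x := by
  obtain ⟨g, hg, e⟩ := h
  exact ⟨g⁻¹, inv_mem hg, c.symm (by simpa [mul_assoc] using c.econj g⁻¹ e)⟩

theorem cm_trans (h : Cm2 t L x y) (h' : Cm2 t L y z) : Cm2 t L x z := by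
  obtain ⟨g, hg, e⟩ := h
  obtain ⟨k, hk, e'⟩ := h'
  refine ⟨k * g, mul_mem hk hg, c.trans ?_ e'⟩
  have := c.econj k e
  rwa [show k * (g * x * g⁻¹) * k⁻¹ = k * g * x * (k * g)⁻¹ by group] at this

theorem cm_conj (hg : g ∈ L) (x : X) : Cm2 t L x (g * x * g⁻¹) := ⟨g, hg, Et.refl _ _⟩

theorem cm_sq (h : Cm2 t L x y) (e : Et t (x * x) 1) : y * y = x * x := by
  obtain ⟨g, -, e'⟩ := h
  rw [← c.sq_et e', sq_conj, conj_eq_iff.mpr (c.comm_one e g).symm]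

theorem cm_nor (hg : g ∈ Nor L) (h : Cm2 t L x y) : Cm2 t L (g * x * g⁻¹) (g * y * g⁻¹) := by
  obtain ⟨k, hk, e⟩ := h
  refine ⟨g * k * g⁻¹, conj_mem hg hk, ?_⟩
  have := c.econj g e
  rwa [show g * (k * x * k⁻¹) * g⁻¹ = g * k * g⁻¹ * (g * x * g⁻¹) * (g * k * g⁻¹)⁻¹ by group]
    at this

theorem Ce_conj (h : Et t (g * x * g⁻¹) y) (hr : r ∈ Ce c x) : g * r * g⁻¹ ∈ Ce c y := by
  have h1 := c.econj g hr
  have h2 := c.econj (g * r * g⁻¹) h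
  rw [show g * r * g⁻¹ * (g * x * g⁻¹) * (g * r * g⁻¹)⁻¹ = g * (r * x * r⁻¹) * g⁻¹ by group] at h2
  exact c.trans (c.symm h2) (c.trans h1 h)

theorem ext (hP : Syl P (L ⊓ Ce c y)) (hR : IsPGroup 2 R) (h1 : R ≤ L ⊓ Ce c x)
    (h : Cm2 t L x y) : ∃ g ∈ L, Et t (g * x * g⁻¹) y ∧ ∀ r ∈ R, g * r * g⁻¹ ∈ P := by
  obtain ⟨g, hg, e⟩ := h
  obtain ⟨k, hk, e'⟩ := H8.Sq.conj_le hP (H8.Sq.two_conj hR g) (by
    rintro _ ⟨r, hr, rfl⟩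
    exact ⟨cmem hg (h1 hr).1, c.Ce_conj e (h1 hr).2⟩)
  refine ⟨k * g, mul_mem hk.1 hg, c.trans ?_ hk.2, fun r hr =>
    H5.mem_of_eq (e' _ (conj_mem_conjS hr)) (by group)⟩
  have := c.econj k e
  rwa [show k * (g * x * g⁻¹) * k⁻¹ = k * g * x * (k * g)⁻¹ by group] at this

end Ci

theorem Cm2.mono (h : Cm2 t L x y) (hl : L ≤ M) : Cm2 t M x y :=
  let ⟨g, hg, e⟩ := h; ⟨g, hl hg, e⟩

/-- the subgroup generated by the elements of odd order -/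
def O2 (X : Type*) [Group X] : Subgroup X := closure {g | Odd (orderOf g)}

theorem mem_O2 (h : Odd (orderOf g)) : g ∈ O2 X := subset_closure h

theorem nor_O2 (g : X) : g ∈ Nor (O2 X) := mem_nor fun x hx => by
  refine closure_induction (p := fun x _ => g * x * g⁻¹ ∈ O2 X) (fun x hx => mem_O2 (odd_conj hx g))
    (by simp) (fun x y _ _ h1 h2 => conj_mul' g x y ▸ mul_mem h1 h2)
    (fun x _ h => H5.mem_of_eq (inv_mem h) (by group)) hx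

theorem syl_O2 (hT : Syl T ⊤) : Syl (T ⊓ O2 X) (O2 X) :=
  hT.inf_of_le_normalizer le_top fun g _ => nor_O2 g

/-- Thompson transfer modulo `t` -/
theorem SC.tt (h : SC Δ t) (hT : Syl T (O2 X)) (hM : M ≤ T) (ht : t ∈ M) (hw : w ∈ T) (w1 : w ∉ M)
    (hn : w ∈ Nor M) (hd : ∀ g ∈ T, g ∈ M ∨ g * w ∈ M) (w2 : Et t (w * w) 1) :
    ∃ m ∈ M, Cm2 t (O2 X) w m := by
  have c := h.c
  obtain ⟨Y, _, _, _, π, q⟩ := h.exists_qt
  have s2 := q.sq.mpr w2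
  have e : T.map π = M.map π ⊔ zpowers (π w) := le_antisymm (by
    rintro _ ⟨g, hg, rfl⟩
    refine (mem_sup_zp (nor_map π hn) (s2 ▸ one_mem _)).mpr ((hd g hg).imp
      (mem_map_of_mem π) fun h => map_mul π g w ▸ mem_map_of_mem π h))
    (sup_le (map_mono hM) (zpowers_le.mpr (mem_map_of_mem π hw)))
  obtain ⟨φ, hφ⟩ := MT.tt' (hT.map π) (map_mono hM) (e ▸ card_sup_zp (nor_map π hn)
    (s2 ▸ one_mem _) fun ⟨m, hm, e⟩ => w1 (c.mem_of ht (c.symm (q.eq.mp e)) hm))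
  by_contra hc
  refine hφ (π w) (mem_map_of_mem π (hT.le hw)) s2 ?_ ?_
  · rintro _ ⟨m, hm, rfl⟩ ⟨_, ⟨g, hg, rfl⟩, e⟩
    exact hc ⟨m, hm, g, hg, q.conj.mp e⟩
  · refine (?_ : O2 X ≤ (MT.kr φ).comap π) (hT.le hw)
    refine (closure_le _).mpr fun g hg => (MT.mem_kr (mem_map_of_mem π (mem_O2 hg))).mpr ?_
    have h1 := odd_map φ (g := ⟨π g, mem_map_of_mem π (mem_O2 hg)⟩)
      (by rw [← Subgroup.orderOf_coe]; exact odd_map π hg)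
    exact P2.eq_one (p2_of_sq (Int.units_mul_self _)) h1

namespace Q8

variable (c : Ci t) (q : Q8 t F a b)
include c q

theorem mul_cls (hx : x ∈ F) (hy : y ∈ F) (x1 : ¬ Et t x 1) (x2 : ¬ Et t x a) (y1 : ¬ Et t y 1)
    (y2 : ¬ Et t y a) : Et t (x * y) 1 ∨ Et t (x * y) a := by
  have q' := q.change c q.am hx q.a1 x1 fun e => x2 (c.symm e)
  rcases q'.cls y hy with e | e | e | e
  · exact (y1 e).elim
  · exact (y2 e).elim
  · exact Or.inl (c.trans (c.mul (Et.refl _ _) e) (q.sq' c hx))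
  · refine Or.inr (c.trans (c.mul (Et.refl _ _) (c.trans e (q.ecomm c q.am hx))) ?_)
    simpa [mul_assoc] using c.mul (q.sq' c hx) (Et.refl t a)

theorem cen_all (h1 : Et t (g * a * g⁻¹) a) (h2 : Et t (g * b * g⁻¹) b) (hx : x ∈ F) :
    Et t (g * x * g⁻¹) x := by
  have : F ≤ F ⊓ (Ce c g) := q.le c ⟨q.am, c.et_comm.mp (c.symm (c.et_comm.mpr h1))⟩
    ⟨q.bm, c.et_comm.mp (c.symm (c.et_comm.mpr h2))⟩
  exact c.et_comm.mp (c.symm (c.et_comm.mpr (this hx).2))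

theorem mvb (hg : g ∈ Nor F) (h1 : Et t (g * a * g⁻¹) a) (h2 : ¬ Et t (g * b * g⁻¹) b) :
    Et t (g * b * g⁻¹) (a * b) := by
  rcases q.cls _ (conj_mem hg q.bm) with e | e | e | e
  · exact (q.b1 (c.of_conj g (by simpa using e))).elim
  · exact (q.ab (c.of_conj g (c.trans h1 (c.symm e)))).elim
  · exact (h2 e).elim
  · exact e

theorem fix (h1 : Et t (g * a * g⁻¹) a) (h2 : ¬ Et t (g * b * g⁻¹) b) (hx : x ∈ F)
    (h : Et t (g * x * g⁻¹) x) : Et t x 1 ∨ Et t x a := by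
  by_contra n
  rw [not_or] at n
  exact h2 ((q.change c q.am hx q.a1 n.1 fun e => n.2 (c.symm e)).cen_all c h1 h q.bm)

end Q8

namespace Sw

variable (l : Sw t u T P F a b k α)
include l

theorem bc : BC t u P F a b k α := l.toBC

theorem c : Ci t := l.bc.c

theorem twoT : IsPGroup 2 T := l.syT.isPGroup

theorem mulP (hg : g ∉ P) (hp : p ∈ P) : g * p ∉ P := fun h => hg (by simpa using mul_mem h (inv_mem hp))

theorem Pmul (hg : g ∉ P) (hp : p ∈ P) : p * g ∉ P := fun h => hg (by simpa using mul_mem (inv_mem hp) h)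

theorem nP (hg : g ∈ T) : g ∈ Nor P := mem_nor fun p hp => by
  by_cases h : g ∈ P
  · exact cmem h hp
  · exact l.idx _ (mul_mem hg (l.PT hp)) _ (inv_mem hg) (l.mulP h hp) (by simpa)

theorem ET : Qk Δ u P ⊔ F ≤ T := l.bc.E_le.trans l.PT

theorem tE : t ∈ Qk Δ u P ⊔ F := mem_sup_left l.bc.tQ

theorem nE (hg : g ∈ T) : g ∈ Nor (Qk Δ u P ⊔ F) := by
  by_cases h : g ∈ P
  · exact l.norE h
  refine mem_nor fun e he => ?_
  obtain ⟨r, hr, x, hx, rfl⟩ := l.bc.memE.mp he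
  exact conj_mul' g r x ▸ mul_mem (mem_sup_right (l.swQ g hg h r hr))
    (mem_sup_left (l.swF g hg h x hx))

theorem ua (hg : σ ∈ T) (h : σ ∉ P) : Et t (σ * a * σ⁻¹) u :=
  l.c.symm (by simpa [mul_assoc] using l.c.econj σ (l.au _ (inv_mem hg) (by simpa)))

theorem q8' (hg : σ ∈ T) (h : σ ∉ P) : Q8 t (Qk Δ u P) u (σ * b * σ⁻¹) := by
  have e : Qk Δ u P = conjS σ F := le_antisymm (fun r hr => mem_conjS.mpr
    (by simpa using l.swQ _ (inv_mem hg) (by simpa) r hr)) (by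
      rintro _ ⟨x, hx, rfl⟩; exact l.swF σ hg h x hx)
  have q := e ▸ l.q8.conj l.c σ
  exact q.change l.c l.bc.uQ q.bm (l.c.not4 l.bc.hu) q.b1 fun e' => q.ab (l.c.trans (l.ua hg h) e')

theorem exQ : ∃ y, Q8 t (Qk Δ u P) u y := let ⟨_, h1, h2, _⟩ := l.ex; ⟨_, l.q8' h1 h2⟩

theorem ecE (he : e ∈ Qk Δ u P ⊔ F) (hd : d ∈ Qk Δ u P ⊔ F) : Et t (e * d * e⁻¹) d := by
  obtain ⟨y, q⟩ := l.exQ
  obtain ⟨r, hr, x, hx, rfl⟩ := l.bc.memE.mp he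
  obtain ⟨r', hr', x', hx', rfl⟩ := l.bc.memE.mp hd
  exact mul_mem (s := Ce l.c (r' * x')) (mem_Ce.mpr (conj_mul' r r' x' ▸ l.c.mul (q.econj l.c hr hr')
    (Et.of_eq (conj_eq_iff.mpr (l.bc.QF hr hx'))))) (mem_Ce.mpr (conj_mul' x r' x' ▸ l.c.mul
      (Et.of_eq (conj_eq_iff.mpr (l.bc.QF hr' hx).symm)) (l.q8.econj l.c hx hx')))

theorem ecomm (he : e ∈ Qk Δ u P ⊔ F) (hd : d ∈ Qk Δ u P ⊔ F) : Et t (e * d) (d * e) :=
  l.c.et_comm.mpr (l.ecE he hd)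

theorem sqE (he : e ∈ Qk Δ u P ⊔ F) : Et t (e * e) 1 := by
  obtain ⟨y, q⟩ := l.exQ
  obtain ⟨r, hr, x, hx, rfl⟩ := l.bc.memE.mp he
  simpa [sq_mul (l.bc.QF hr hx)] using l.c.mul (q.sq' l.c hr) (l.q8.sq' l.c hx)

theorem selfE (he : e ∈ Qk Δ u P ⊔ F) : Et t e⁻¹ e :=
  l.c.symm (l.c.et_iff'.mpr (by simpa using l.sqE he))

theorem split (hr : r ∈ Qk Δ u P) (hx : x ∈ F) (hr' : s ∈ Qk Δ u P) (hx' : y ∈ F)
    (h : Et t (r * x) (s * y)) : Et t r s ∧ Et t x y := by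
  have c := l.c
  have h1 : Et t (x * y⁻¹) (r⁻¹ * s) := by
    simpa [mul_assoc] using c.mul (c.mul (Et.refl t r⁻¹) h) (Et.refl t y⁻¹)
  have h2 := l.bc.FQ (mul_mem hx (inv_mem hx')) (c.mem_of l.bc.tQ h1 (mul_mem (inv_mem hr) hr'))
  exact ⟨c.symm (c.et_iff.mpr (c.trans (c.symm h1) h2)), c.et_iff'.mpr h2⟩

theorem nb (hs : s ∈ P) (h : s ∉ Qk Δ u P ⊔ F) : ¬ Et t (s * b * s⁻¹) b := fun e =>
  h (l.cenF s hs fun _ hx => l.q8.cen_all l.c (l.fixa s hs) e hx)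

theorem mvb (hs : s ∈ P) (h : s ∉ Qk Δ u P ⊔ F) : Et t (s * b * s⁻¹) (a * b) :=
  l.q8.mvb l.c (l.bc.norF hs) (l.fixa s hs) (l.nb hs h)

theorem nb' (hg : σ ∈ T) (h1 : σ ∉ P) (hs : s ∈ P) (h : s ∉ Qk Δ u P ⊔ F) :
    ¬ Et t (s * (σ * b * σ⁻¹) * s⁻¹) (σ * b * σ⁻¹) := fun e =>
  l.nb (conj_mem' (l.nP hg) hs) (fun m => h (H5.mem_of_eq (conj_mem (l.nE hg) m) (by group)))
    (l.c.of_conj σ (by rwa [show σ * (σ⁻¹ * s * σ * b * (σ⁻¹ * s * σ)⁻¹) * σ⁻¹ =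
      s * (σ * b * σ⁻¹) * s⁻¹ by group]))

theorem mvb' (hg : σ ∈ T) (h1 : σ ∉ P) (hs : s ∈ P) (h : s ∉ Qk Δ u P ⊔ F) :
    Et t (s * (σ * b * σ⁻¹) * s⁻¹) (u * (σ * b * σ⁻¹)) :=
  (l.q8' hg h1).mvb l.c (l.bc.norQ hs) (l.bc.act hs) (l.nb' hg h1 hs h)

theorem fixF (hs : s ∈ P) (h : s ∉ Qk Δ u P ⊔ F) (hx : x ∈ F) (e : Et t (s * x * s⁻¹) x) :
    Et t x 1 ∨ Et t x a := l.q8.fix l.c (l.fixa s hs) (l.nb hs h) hx e

theorem fixQ (hs : s ∈ P) (h : s ∉ Qk Δ u P ⊔ F) (hx : x ∈ Qk Δ u P) (e : Et t (s * x * s⁻¹) x) :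
    Et t x 1 ∨ Et t x u :=
  let ⟨_, h1, h2, _⟩ := l.ex; (l.q8' h1 h2).fix l.c (l.bc.act hs) (l.nb' h1 h2 hs h) hx e

theorem idxE (hg : g ∈ P) (hh : h ∈ P) (g1 : g ∉ Qk Δ u P ⊔ F) (h1 : h ∉ Qk Δ u P ⊔ F) :
    g * h ∈ Qk Δ u P ⊔ F := by
  by_contra n
  have c := l.c
  have e1 := c.econj g (l.mvb hh h1)
  rw [conj_mul' g a, show g * (h * b * h⁻¹) * g⁻¹ = g * h * b * (g * h)⁻¹ by group] at e1
  have e2 := c.trans e1 (c.mul (l.fixa g hg) (l.mvb hg g1))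
  rw [← mul_assoc, l.q8.aa c, ← c.cen] at e2
  exact l.nb (mul_mem hg hh) n (c.trans e2 (et_t _ _))

theorem sqT (hg : g ∈ T) : g * g ∈ Qk Δ u P ⊔ F := by
  have k1 : ∀ p ∈ P, ∀ σ ∈ T, p * (σ * p * σ⁻¹) ∈ Qk Δ u P ⊔ F := fun p hp σ hσ => by
    by_cases h : p ∈ Qk Δ u P ⊔ F
    · exact mul_mem h (conj_mem (l.nE hσ) h)
    · exact l.idxE hp (conj_mem (l.nP hσ) hp) h fun m => h (of_conj_mem (l.nE hσ) m)
  by_cases h : g ∈ P
  · simpa using k1 g h 1 (one_mem _)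
  · obtain ⟨τ, h1, h2, h3⟩ := l.ex
    refine H5.mem_of_eq (k1 _ (l.idx g hg τ h1 h h2) τ h1) ?_
    calc _ = g * (τ * τ) * g := by group
      _ = _ := by rw [h3, mul_one]

theorem sw_cj (hg : σ ∈ T) (h : σ ∉ P) (h2 : Et t (σ * σ) 1) (he : e ∈ Qk Δ u P ⊔ F)
    (h3 : Et t (e * σ * (e * σ)) 1) : Cm2 t F σ (e * σ) := by
  have c := l.c
  obtain ⟨r, hr, x, hx, rfl⟩ := l.bc.memE.mp he
  have m1 := l.swQ σ hg h r hr
  have m2 := l.swF σ hg h x hx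
  have h4 : Et t (r * (σ * x * σ⁻¹) * (x * (σ * r * σ⁻¹))) (1 * 1) := by
    have := c.mul h3 (c.einv h2)
    rw [show r * x * σ * (r * x * σ) * (σ * σ)⁻¹ = r * (x * (σ * r * σ⁻¹) * (σ * x * σ⁻¹)) by group,
      ← l.bc.QF m2 (mul_mem hx m1), ← mul_assoc] at this
    simpa using this
  have h5 := (l.split (mul_mem hr m2) (mul_mem hx m1) (one_mem _) (one_mem _) h4).1
  refine ⟨x, hx, ?_⟩
  rw [show x * σ * x⁻¹ = x * (σ * x * σ⁻¹)⁻¹ * σ by group, l.bc.QF hr hx]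
  exact c.mul (c.mul (Et.refl _ _) (c.symm (c.et_iff'.mpr (by simpa using h5)))) (Et.refl _ _)

theorem sw_sq (hg : σ ∈ T) (h : σ ∉ P) (h2 : Et t (σ * σ) 1) (he : x * σ⁻¹ ∈ Qk Δ u P ⊔ F)
    (h3 : Et t (x * x) 1) : x * x = σ * σ := by
  simpa using l.c.cm_sq (l.sw_cj hg h h2 he (by simpa using h3)) h2

theorem adj_sw (hg : σ ∈ T) (h : σ ∉ P) : ∃ x ∈ F, Et t (x * σ * (x * σ)) 1 := by
  have c := l.c
  obtain ⟨r, hr, x, hx, e⟩ := l.bc.memE.mp (l.sqT hg)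
  have m1 := l.swQ σ hg h r hr
  have m2 := l.swF σ hg h x hx
  have e1 : σ * x * σ⁻¹ * (σ * r * σ⁻¹) = r * x := by
    rw [l.bc.QF m2 m1, ← conj_mul', e]; group
  have h5 := (l.split m2 m1 hr hx (Et.of_eq e1)).1
  refine ⟨x⁻¹, inv_mem hx, ?_⟩
  rw [show x⁻¹ * σ * (x⁻¹ * σ) = x⁻¹ * ((σ * x * σ⁻¹)⁻¹ * (σ * σ)) by group, ← e]
  simpa using c.mul (Et.refl t x⁻¹) (c.mul (c.einv h5) (Et.refl t (r * x)))

/-- commutators with an element of `P ∖ E` -/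
theorem comm_s (hs : s ∈ P) (h : s ∉ Qk Δ u P ⊔ F) (he : e ∈ Qk Δ u P ⊔ F)
    (h1 : Et t (s * e * s⁻¹) e) : ∃ d ∈ Qk Δ u P ⊔ F, Et t (d * (s * d⁻¹ * s⁻¹)) e := by
  have c := l.c
  obtain ⟨σ, hσ, σ1, -⟩ := l.ex
  obtain ⟨r, hr, x, hx, rfl⟩ := l.bc.memE.mp he
  rw [conj_mul'] at h1
  obtain ⟨h2, h3⟩ := l.split (conj_mem (l.bc.norQ hs) hr) (conj_mem (l.bc.norF hs) hx) hr hx h1
  have k1 : ∀ {F : Subgroup X} {a b x : X}, Q8 t F a b → Et t (s * b * s⁻¹) (a * b) →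
      (Et t x 1 ∨ Et t x a) → ∃ d ∈ F, Et t (d * (s * d⁻¹ * s⁻¹)) x := fun {F a b x} q e hx => by
    rcases hx with hx | hx
    · exact ⟨1, one_mem _, by simpa using c.symm hx⟩
    · refine ⟨b, q.bm, c.trans ?_ (c.trans (q.self c q.am) (c.symm hx))⟩
      simpa [mul_assoc] using c.mul (Et.refl t b) (c.einv e)
  obtain ⟨d1, m1, e1⟩ := k1 (l.q8' hσ σ1) (l.mvb' hσ σ1 hs h) (l.fixQ hs h hr h2)
  obtain ⟨d2, m2, e2⟩ := k1 l.q8 (l.mvb hs h) (l.fixF hs h hx h3)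
  refine ⟨d1 * d2, mul_mem (mem_sup_left m1) (mem_sup_right m2), c.trans (Et.of_eq ?_) (c.mul e1 e2)⟩
  have := l.bc.QF (mul_mem m1 (conj_mem (l.bc.norQ hs) (inv_mem m1)))
    (mul_mem m2 (conj_mem (l.bc.norF hs) (inv_mem m2)))
  have h4 := l.bc.QF m1 (mul_mem m2 (conj_mem (l.bc.norF hs) (inv_mem m2)))
  calc _ = d1 * (d2 * (s * d2⁻¹ * s⁻¹)) * (s * d1⁻¹ * s⁻¹) := by group
    _ = d2 * (s * d2⁻¹ * s⁻¹) * (d1 * (s * d1⁻¹ * s⁻¹)) := by rw [h4]; group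
    _ = _ := this.symm

theorem s_cj (hs : s ∈ P) (h : s ∉ Qk Δ u P ⊔ F) (h2 : Et t (s * s) 1) (he : e ∈ Qk Δ u P ⊔ F)
    (h3 : Et t (e * s * (e * s)) 1) : Cm2 t (Qk Δ u P ⊔ F) s (e * s) := by
  have c := l.c
  have h4 : Et t (s * e * s⁻¹) e := by
    have := c.mul (Et.refl t e⁻¹) (c.mul h3 (c.einv h2))
    rw [show e⁻¹ * (e * s * (e * s) * (s * s)⁻¹) = s * e * s⁻¹ by group] at this
    exact c.trans this (by simpa using l.selfE he)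
  obtain ⟨d, hd, e1⟩ := l.comm_s hs h he h4
  exact ⟨d, hd, by simpa [mul_assoc] using c.mul e1 (Et.refl t s)⟩

theorem sq_s (hs : s ∈ P) (h : s ∉ Qk Δ u P ⊔ F) (h2 : Et t (s * s) 1) : s * s = t :=
  (l.c.cases_sq h2).resolve_left fun e => h (l.inv s hs e)

theorem adj_s (hs : s ∈ P) (h : s ∉ Qk Δ u P ⊔ F) :
    ∃ e ∈ Qk Δ u P ⊔ F, e * s * (e * s) = t := by
  have c := l.c
  have m := l.sqT (l.PT hs)
  obtain ⟨d, hd, e1⟩ := l.comm_s hs h m (Et.of_eq (by group))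
  refine ⟨d, hd, l.sq_s (mul_mem (l.bc.E_le hd) hs) (fun e => h (by simpa using mul_mem (inv_mem hd) e)) ?_⟩
  rw [show d * s * (d * s) = d * (s * d⁻¹⁻¹ * s⁻¹) * (s * s) by group]
  exact c.trans (c.mul (c.trans (c.mul (Et.refl _ _) (c.econj s (l.selfE (inv_mem hd)))) e1)
    (Et.refl _ _)) (l.sqE m)

end Sw

end GC
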