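import Cfsg.Agent.GC.I

/-! Fusion in the swapping structure. -/

set_option autoImplicit false
set_option linter.unusedSectionVars false

namespace GC

open Cfsg Subgroup FT H4 BS SF
open H5.Dich (E3 R3 NF)
open H8.Sq (P2 p2_of_sq)
open scoped commutatorElement

universe u

variable {X : Type u} [Group X] [Finite X] {Δ : Type u} [MulAction X Δ] [Finite Δ]
  {t u a b d e g h k n p r s v w x y z σ τ : X} {α β : Δ} {F L M P T R : Subgroup X}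

/-- the final configuration -/
structure Fn (t u : X) (T P F : Subgroup X) (a b k : X) (α : Δ) : Prop
    extends Sw t u T P F a b k α where
  pair : ∀ d : X, Inv d → d ≠ t → Cm2 t ⊤ d (u * a)
  four : ∀ w : X, w * w = t → Cm2 t ⊤ w u
  exS : ∃ s ∈ P, s ∉ Qk Δ u P ⊔ F ∧ s * s = t
  sq : ∀ x ∈ T, x ∉ P → Et t (x * x) 1 → x * x = 1

namespace Sw

variable (l : Sw t u T P F a b k α)
include l

theorem kO (n : ℕ) (g : X) : g * k ^ n * g⁻¹ ∈ O2 X := mem_O2 (odd_conj (odd_pow l.kodd n) g)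

theorem F_cj (hx : x ∈ F) (h : x * x = t) : ∃ g ∈ O2 X, g ∈ Cen (Qk Δ u P) ∧ Et t (g * x * g⁻¹) a := by
  obtain ⟨n, e⟩ := l.ktr x hx a l.q8.am (l.c.not4 h) l.q8.a1
  exact ⟨_, by simpa using l.kO n 1, pow_mem l.kQ n, e⟩

theorem Q_cj (hr : r ∈ Qk Δ u P) (h : r * r = t) : ∃ g ∈ O2 X, g ∈ Cen F ∧ Et t (g * r * g⁻¹) u := by
  obtain ⟨σ, h1, h2, -⟩ := l.ex
  have h3 : σ⁻¹ ∉ P := by simpa
  obtain ⟨g, g1, g2, e⟩ := l.F_cj (l.swQ _ (inv_mem h1) h3 r hr) (l.c.sq4 h _)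
  refine ⟨σ * g * σ⁻¹, conj_mem (nor_O2 σ) g1, cen_iff.mpr fun x hx => ?_, l.c.trans ?_ (l.ua h1 h2)⟩
  · simpa [mul_assoc] using conj_comm (cen_iff.mp g2 _ (l.swF _ (inv_mem h1) h3 x hx)) σ
  · have := l.c.econj σ e
    rwa [show σ * (g * (σ⁻¹ * r * σ⁻¹⁻¹) * g⁻¹) * σ⁻¹ = σ * g * σ⁻¹ * r * (σ * g * σ⁻¹)⁻¹ by group]
      at this

theorem F_O2 : F ≤ O2 X := by
  have c := l.c
  have key : ∀ x ∈ F, ¬ Et t x 1 → t ∈ O2 X ∧ x ∈ O2 X := fun x hx x1 => by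
    obtain ⟨y, hy, y1, h⟩ := l.q8.other c hx
    obtain ⟨n, e⟩ := l.ktr y hy _ (mul_mem hx hy) y1 (l.q8.mul1 c hx hy x1 y1 fun e => h (c.symm e))
    have m : k ^ n * y * (k ^ n)⁻¹ * y⁻¹ ∈ O2 X := H5.mem_of_eq (mul_mem (l.kO n 1)
      (inv_mem (l.kO n y))) (by group)
    have e' : Et t (k ^ n * y * (k ^ n)⁻¹ * y⁻¹) x := by simpa using c.mul e (Et.refl t y⁻¹)
    have ht : t ∈ O2 X := by rw [← l.q8.sq x hx x1, ← c.sq_et e']; exact mul_mem m m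
    exact ⟨ht, c.mem_of ht (c.symm e') m⟩
  intro x hx
  by_cases x1 : Et t x 1
  · exact c.mem_of (key a l.q8.am l.q8.a1).1 x1 (one_mem _)
  · exact (key x hx x1).2

theorem E_O2 : Qk Δ u P ⊔ F ≤ O2 X := by
  obtain ⟨σ, h1, h2, -⟩ := l.ex
  exact sup_le (fun r hr => of_conj_mem (nor_O2 σ) (l.F_O2 (l.swQ σ h1 h2 r hr))) l.F_O2

theorem yE : u * a ∈ Qk Δ u P ⊔ F := mul_mem (mem_sup_left l.bc.uQ) (mem_sup_right l.q8.am)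

theorem yi : Inv (u * a) ∧ u * a ≠ t := l.bc.inv_mul l.bc.uQ l.q8.am l.bc.hu (l.q8.aa l.c)

theorem inv_cj (hd : d ∈ Qk Δ u P ⊔ F) (h2 : d * d = 1) (h1 : ¬ Et t d 1) :
    Cm2 t (O2 X) d (u * a) := by
  obtain ⟨r, hr, x, hx, rfl⟩ := l.bc.memE.mp hd
  obtain ⟨r2, x2⟩ := l.bc.invE hr hx h2 h1
  obtain ⟨g, g1, g2, e⟩ := l.F_cj hx x2
  obtain ⟨h, h1, h2, e'⟩ := l.Q_cj hr r2
  refine l.c.cm_trans (y := r * a) ⟨g, g1, ?_⟩ ⟨h, h1, ?_⟩ <;> rw [conj_mul']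
  · exact l.c.mul (Et.of_eq (conj_eq_iff.mpr (cen_iff.mp g2 r hr))) e
  · exact l.c.mul e' (Et.of_eq (conj_eq_iff.mpr (cen_iff.mp h2 a l.q8.am)))

theorem four_cj (he : e ∈ Qk Δ u P ⊔ F) (h : e * e = t) : Cm2 t (O2 X) e u ∨ Cm2 t (O2 X) e a :=
  (l.bc.fourE he h).imp (fun m => let ⟨g, h1, _, h2⟩ := l.Q_cj m h; ⟨g, h1, h2⟩)
    fun m => let ⟨g, h1, _, h2⟩ := l.F_cj m h; ⟨g, h1, h2⟩

theorem four_cj' (he : e ∈ Qk Δ u P ⊔ F) (h : e * e = t) : Cm2 t ⊤ e u := by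
  obtain ⟨σ, h1, h2, -⟩ := l.ex
  rcases l.four_cj he h with m | m
  exacts [m.mono le_top, l.c.cm_trans (m.mono le_top) ⟨σ, mem_top _, l.ua h1 h2⟩]

theorem not_cj_u (hd : d ∈ Du t w) (he : e ∈ Du t w) (hc : d * e = e * d) (hn : ¬ Et t d e) :
    ¬ Cm2 t ⊤ w u := by
  rintro ⟨g, -, h⟩
  have c := l.c
  have k : ∀ {d}, d ∈ Du t w → g * d * g⁻¹ ∈ Du t u := fun hd =>
    ⟨hd.1.conj g, c.conj_ne g hd.2.1, c.comm_r (c.symm h) (conj_comm hd.2.2 g)⟩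
  have k1 := k hd
  have k2 := k he
  obtain ⟨n, hn', m⟩ := H8.Sq.conj_le l.syl (H8.Sq.two_pair (p2_of_sq k1.1.2) (p2_of_sq k2.1.2)
    (conj_comm hc g)) (sup_le (zpowers_le.mpr (c.cen_nor4 l.bc.hu (c1_iff.mpr k1.2.2)))
      (zpowers_le.mpr (c.cen_nor4 l.bc.hu (c1_iff.mpr k2.2.2))))
  have k' : ∀ {d}, d ∈ Du t u → n * d * n⁻¹ ∈ Du t u := fun hd => ⟨hd.1.conj n, c.conj_ne n hd.2.1,
    c.comm_r (c.symm ((c.nor4 l.bc.hu).mp hn')) (conj_comm hd.2.2 n)⟩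
  exact hn (c.of_conj g (c.of_conj n (l.bc.no_pair (m _ (mem_sup_left (mem_zpowers _))) (k' k1)
    (m _ (mem_sup_right (mem_zpowers _))) (k' k2) (conj_comm (conj_comm hc g) n))))

/-- the elements `x^σ x` -/
theorem Y_inv (hg : σ ∈ T) (h : σ ∉ P) (hx : x ∈ F) (x1 : ¬ Et t x 1) :
    Inv (σ * x * σ⁻¹ * x) ∧ σ * x * σ⁻¹ * x ≠ t :=
  l.bc.inv_mul (l.swF σ hg h x hx) hx (l.c.sq4 (l.q8.sq x hx x1) σ) (l.q8.sq x hx x1)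

theorem Y_mem (hg : σ ∈ T) (h : σ ∉ P) (hx : x ∈ F) : σ * x * σ⁻¹ * x ∈ Qk Δ u P ⊔ F :=
  mul_mem (mem_sup_left (l.swF σ hg h x hx)) (mem_sup_right hx)

theorem Y_cen (hg : σ ∈ T) (h : σ ∉ P) (h2 : Et t (σ * σ) 1) (hx : x ∈ F) :
    σ * x * σ⁻¹ * x * σ = σ * (σ * x * σ⁻¹ * x) := by
  rw [l.bc.QF (l.swF σ hg h x hx) hx]
  calc _ = x * (σ * σ) * (σ⁻¹ * x * σ⁻¹ * σ) := by group
    _ = σ * σ * x * (σ⁻¹ * x * σ⁻¹ * σ) := by rw [l.c.comm_one h2 x]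
    _ = σ * (σ * x * σ⁻¹ * x) := by group
    _ = _ := by rw [l.bc.QF (l.swF σ hg h x hx) hx]

theorem Y_mul (hg : σ ∈ T) (h : σ ∉ P) (hx : x ∈ F) (hy : y ∈ F) :
    σ * x * σ⁻¹ * x * (σ * y * σ⁻¹ * y) = σ * (x * y) * σ⁻¹ * (x * y) := by
  rw [mul_assoc _ x, ← mul_assoc x, ← l.bc.QF (l.swF σ hg h y hy) hx]; group

theorem Y_comm (hg : σ ∈ T) (h : σ ∉ P) (hx : x ∈ F) (hy : y ∈ F) :
    σ * x * σ⁻¹ * x * (σ * y * σ⁻¹ * y) = σ * y * σ⁻¹ * y * (σ * x * σ⁻¹ * x) := by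
  rw [l.Y_mul hg h hx hy, l.Y_mul hg h hy hx]
  rcases l.q8.ecomm l.c hx hy with e | e <;> rw [e]
  rw [l.c.conj_t, l.c.mul_tt]

theorem Y_et (hg : σ ∈ T) (h : σ ∉ P) (hx : x ∈ F) (hy : y ∈ F)
    (e : Et t (σ * x * σ⁻¹ * x) (σ * y * σ⁻¹ * y)) : Et t x y :=
  (l.split (l.swF σ hg h x hx) hx (l.swF σ hg h y hy) hy e).2

theorem Y_a (hg : σ ∈ T) (h : σ ∉ P) : Et t (σ * a * σ⁻¹ * a) (u * a) :=
  l.c.mul (l.ua hg h) (Et.refl _ _)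

theorem sw_not_u (hg : σ ∈ T) (h : σ ∉ P) (h2 : σ * σ = t) : ¬ Cm2 t ⊤ σ u := by
  have e : Et t (σ * σ) 1 := h2 ▸ l.c.t_et
  have i1 := l.Y_inv hg h l.q8.am l.q8.a1
  have i2 := l.Y_inv hg h l.q8.bm l.q8.b1
  exact l.not_cj_u ⟨i1.1, i1.2, l.Y_cen hg h e l.q8.am⟩ ⟨i2.1, i2.2, l.Y_cen hg h e l.q8.bm⟩
    (l.Y_comm hg h l.q8.am l.q8.bm) fun e => l.q8.ab (l.Y_et hg h l.q8.am l.q8.bm e)

theorem two_pts : ∃ β : Δ, β ≠ α := by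
  obtain ⟨x, y, e, -⟩ := l.t4.2
  by_cases h : x = α
  exacts [⟨y, fun e' => e (h.trans e'.symm)⟩, ⟨x, h⟩]

theorem O2_moves : ∃ g ∈ O2 X, g • α ≠ α := by
  by_contra n
  push Not at n
  obtain ⟨β, h⟩ := l.two_pts
  obtain ⟨g, rfl⟩ := l.sc.tr α β
  have := n _ (conj_mem' (nor_O2 g) (l.E_O2 l.yE))
  rw [mul_smul, mul_smul, inv_smul_eq_iff] at this
  exact h (l.sc.uniq l.yi.1 l.yi.2 this (l.stT (l.ET l.yE)))

theorem cen_y (hg : g ∈ T) : Et t (g * (u * a) * g⁻¹) (u * a) := by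
  rw [conj_mul']
  by_cases h : g ∈ P
  · exact l.c.mul (l.bc.act h) (l.fixa g h)
  · exact l.c.trans (l.c.mul (l.au g hg h) (l.ua hg h)) (Et.of_eq (l.bc.Fu l.q8.am))

/-- the dihedral argument -/
theorem dih (hO : O2 X ≤ L) (hS : Syl (T ⊓ L) L) (hP : P ⊓ L ≤ Qk Δ u P ⊔ F) (h1 : τ ∈ T)
    (h2 : τ ∉ P) (h3 : τ * τ = 1) (hL : τ ∈ L) : Cm2 t L τ (u * a) := by
  have c := l.c
  obtain ⟨Y, _, _, _, π, q⟩ := l.sc.exists_qt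
  obtain ⟨g, hg, gα⟩ := l.O2_moves
  have iτ := c.inv_of h3 fun e => h2 (c.mem_of l.bc.tQ.1 e (one_mem _))
  have id := l.yi.1.conj g
  have d1 := c.conj_ne g l.yi.2
  have dβ : (g * (u * a) * g⁻¹) • g • α = g • α := conj_smul (l.stT (l.ET l.yE))
  have dL : g * (u * a) * g⁻¹ ∈ L := cmem (hO hg) (hO (l.E_O2 l.yE))
  have dy := c.cm_symm (c.cm_conj (hO hg) (u * a))
  generalize g * (u * a) * g⁻¹ = d at id d1 dβ dL dy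
  have s1 : π τ * π τ = 1 := q.sq.mpr (Et.of_eq h3)
  have s2 : π d * π d = 1 := q.sq.mpr (Et.of_eq id.2)
  by_cases ho : Odd (orderOf (π d * π τ))
  · obtain ⟨m, -, -, e⟩ := exists_swap s1 s2 ho
    rw [← map_mul, ← map_pow, q.conj] at e
    exact c.cm_trans ⟨_, pow_mem (mul_mem dL hL) m, e⟩ dy
  obtain ⟨m, e1, e2, e3, e4⟩ := exists_central_inv s2 s1 ho
  simp only [← map_mul, ← map_pow, q.eq, q.one, Ne] at e1 e2 e3 e4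
  have zL := pow_mem (mul_mem dL hL) m
  generalize (d * τ) ^ m = z at e1 e2 e3 e4 zL
  have z2 : z * z = t := (c.cases_sq e2).resolve_left fun e => gα (l.sc.uniq (c.inv_of e e1).1
    (c.inv_of e e1).2 (l.sc.cen_fix id d1 dβ (c.et_comm.mp e3))
    (l.sc.cen_fix iτ.1 iτ.2 (l.stT h1) (c.et_comm.mp e4)))
  have τz := c.et_comm.mp (c.symm e4)
  obtain ⟨n, hn, m⟩ := H8.Sq.conj_le hS (two_sup (c.p4 z2).zp ((c.nor4 z2).mpr τz) (p2_of_sq h3))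
    (sup_le (zpowers_le.mpr zL) (zpowers_le.mpr hL))
  have m1 := m z (mem_sup_left (mem_zpowers z))
  have m2 := m τ (mem_sup_right (mem_zpowers τ))
  have i' := iτ.1.conj n
  by_cases hτ : n * τ * n⁻¹ ∈ P
  · exact c.cm_trans (c.cm_conj hn τ) ((l.inv_cj (l.inv _ hτ i'.2) i'.2
      (c.not_one i' (c.conj_ne n iτ.2))).mono hO)
  have z2' := c.sq4 z2 n
  have τz' := c.econj n τz
  rw [show n * (τ * z * τ⁻¹) * n⁻¹ = n * τ * n⁻¹ * (n * z * n⁻¹) * (n * τ * n⁻¹)⁻¹ by group] at τz'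
  generalize n * τ * n⁻¹ = σ at m2 i' hτ τz'
  generalize n * z * n⁻¹ = w at m1 z2' τz'
  exfalso
  by_cases hw : w ∈ P
  · rcases l.bc.fourE (hP ⟨hw, m1.2⟩) z2' with e | e
    · exact c.not4 z2' (l.bc.FQ (c.mem_of l.q8.tm (c.symm τz') (l.swQ σ m2.1 hτ w e)) e)
    · exact c.not4 z2' (l.bc.FQ e (c.mem_of l.bc.tQ (c.symm τz') (l.swF σ m2.1 hτ w e)))
  · have := l.sw_sq m2.1 hτ (Et.of_eq i'.2) (hP ⟨l.idx w m1.1 _ (inv_mem m2.1) hw (by simpa),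
      L.mul_mem m1.2 (L.inv_mem m2.2)⟩) (z2' ▸ c.t_et)
    exact c.t1 (z2'.symm.trans (this.trans i'.2))

/-- there is no elementary subgroup of order 16 in `E` -/
theorem no16 (hd : d ∈ Qk Δ u P ⊔ F) (he : e ∈ Qk Δ u P ⊔ F) (d2 : d * d = 1) (e2 : e * e = 1)
    (d1 : ¬ Et t d 1) (e1 : ¬ Et t e 1) (dy : ¬ Et t d (u * a)) (ey : ¬ Et t e (u * a))
    (cd : d * (u * a) = u * a * d) (ce : e * (u * a) = u * a * e) (h : d * e * (d * e) = 1) :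
    Et t (d * e) 1 ∨ Et t (d * e) (u * a) := by
  have c := l.c
  obtain ⟨y, q⟩ := l.exQ
  have key : ∀ r ∈ Qk Δ u P, ∀ x ∈ F, r * x * (r * x) = 1 → ¬ Et t (r * x) 1 →
      ¬ Et t (r * x) (u * a) → r * x * (u * a) = u * a * (r * x) →
      ¬ Et t r 1 ∧ ¬ Et t x 1 ∧ ¬ Et t r u ∧ ¬ Et t x a := fun r hr x hx h2 h1 h3 h4 => by
    obtain ⟨r2, x2⟩ := l.bc.invE hr hx h2 h1
    have e0 : r * x * (u * a) * (r * x)⁻¹ = r * u * r⁻¹ * (x * a * x⁻¹) := by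
      calc _ = r * (x * u * x⁻¹) * r⁻¹ * (r * (x * a * x⁻¹) * r⁻¹) := by group
        _ = _ := by rw [conj_eq_iff.mpr (l.bc.Fu hx),
          conj_eq_iff.mpr (l.bc.QF hr (cmem hx l.q8.am))]
    rw [conj_eq_iff.mpr h4] at e0
    refine ⟨c.not4 r2, c.not4 x2, fun e => h3 (c.mul e ?_), fun e => h3 (c.mul ?_ e)⟩
    · rw [conj_eq_iff.mpr (c.comm_l e rfl), mul_right_inj] at e0
      exact l.q8.of_comm c hx l.q8.am (c.not4 x2) l.q8.a1 (conj_eq_iff.mp e0.symm)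
    · rw [conj_eq_iff.mpr (c.comm_l e rfl), mul_left_inj] at e0
      exact q.of_comm c hr l.bc.uQ (c.not4 r2) q.a1 (conj_eq_iff.mp e0.symm)
  obtain ⟨r, hr, x, hx, rfl⟩ := l.bc.memE.mp hd
  obtain ⟨r', hr', x', hx', rfl⟩ := l.bc.memE.mp he
  obtain ⟨k1, k2, k3, k4⟩ := key r hr x hx d2 d1 dy cd
  obtain ⟨k5, k6, k7, k8⟩ := key r' hr' x' hx' e2 e1 ey ce
  have e0 : r * x * (r' * x') = r * r' * (x * x') := by
    rw [mul_assoc, ← mul_assoc x, ← l.bc.QF hr' hx]; group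
  rw [e0] at h ⊢
  by_cases h1 : Et t (r * r' * (x * x')) 1
  · exact Or.inl h1
  obtain ⟨j1, j2⟩ := l.bc.invE (mul_mem hr hr') (mul_mem hx hx') h h1
  exact Or.inr (c.mul ((q.mul_cls c hr hr' k1 k3 k5 k7).resolve_left (c.not4 j1))
    ((l.q8.mul_cls c hx hx' k2 k4 k6 k8).resolve_left (c.not4 j2)))

theorem D_cls (hg : σ ∈ T) (h : σ ∉ P) (he : e ∈ Qk Δ u P ⊔ F) (h1 : Et t (σ * e * σ⁻¹) e) :
    ∃ x ∈ F, Et t e (σ * x * σ⁻¹ * x) := by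
  obtain ⟨r, hr, x, hx, rfl⟩ := l.bc.memE.mp he
  have m1 := l.swQ σ hg h r hr
  have m2 := l.swF σ hg h x hx
  rw [conj_mul', ← l.bc.QF m2 m1] at h1
  exact ⟨x, hx, l.c.mul (l.c.symm (l.split m2 m1 hr hx h1).1) (Et.refl _ _)⟩

theorem act_sw (hg : σ ∈ T) (h : σ ∉ P) (hd : d * σ⁻¹ ∈ Qk Δ u P ⊔ F) (hx : x ∈ F) :
    Et t (x * d * x⁻¹) (σ * x * σ⁻¹ * x * d) := by
  have m := l.swF σ hg h x hx
  have h1 := l.c.trans (l.ecE hd (inv_mem (mem_sup_left m))) (l.selfE (mem_sup_left m))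
  rw [l.bc.QF m hx, show x * d * x⁻¹ = x * (d * σ⁻¹ * (σ * x * σ⁻¹)⁻¹ * (d * σ⁻¹)⁻¹) * d by group]
  exact l.c.mul (l.c.mul (Et.refl _ _) h1) (Et.refl _ _)

/-- the extremal argument -/
theorem extr (hO : O2 X ≤ L) (hS : Syl (T ⊓ L) L) (hP : P ⊓ L ≤ Qk Δ u P ⊔ F) (h1 : τ ∈ T)
    (h2 : τ ∉ P) (h3 : τ * τ = 1) (hL : τ ∈ L) : False := by
  have c := l.c
  have EL : Qk Δ u P ⊔ F ≤ T ⊓ L := le_inf l.ET (l.E_O2.trans hO)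
  have τE : τ ∉ Qk Δ u P ⊔ F := fun h => h2 (l.bc.E_le h)
  have e3 : Et t (τ * τ) 1 := Et.of_eq h3
  have idx : ∀ w ∈ T ⊓ L, ∀ w' ∈ T ⊓ L, w ∉ Qk Δ u P ⊔ F → w' ∉ Qk Δ u P ⊔ F →
      w * w' ∈ Qk Δ u P ⊔ F := fun w hw w' hw' n n' => hP ⟨l.idx w hw.1 w' hw'.1
    (fun h => n (hP ⟨h, hw.2⟩)) fun h => n' (hP ⟨h, hw'.2⟩), L.mul_mem hw.2 hw'.2⟩
  have idτ : ∀ w ∈ T ⊓ L, w ∉ Qk Δ u P ⊔ F → w * τ⁻¹ ∈ Qk Δ u P ⊔ F := fun w hw n =>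
    idx w hw _ (inv_mem (show τ ∈ T ⊓ L from ⟨h1, hL⟩)) n (by simpa)
  have YA : ∀ x ∈ F, τ * x * τ⁻¹ * x ∈ T ⊓ L ⊓ Cen1 τ := fun x hx =>
    ⟨EL (l.Y_mem h1 h2 hx), c1_iff.mpr (l.Y_cen h1 h2 e3 hx)⟩
  have τA : τ ∈ T ⊓ L ⊓ Cen1 τ := ⟨⟨h1, hL⟩, c1_iff.mpr rfl⟩
  have Dc : ∀ e ∈ Qk Δ u P ⊔ F, e ∈ Cen1 τ → ∃ x ∈ F, Et t e (τ * x * τ⁻¹ * x) := fun e he h =>
    l.D_cls h1 h2 he (Et.of_eq (conj_eq_iff.mpr (c1_iff.mp h).symm))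
  have Ac : ∀ x ∈ F, ∀ r ∈ T ⊓ L ⊓ Cen1 τ, r ∈ Cen1 (τ * x * τ⁻¹ * x) := fun x hx r hr => by
    have k : ∀ r ∈ Qk Δ u P ⊔ F, r ∈ Cen1 τ → r ∈ Cen1 (τ * x * τ⁻¹ * x) := fun r hr h => by
      obtain ⟨y, hy, e⟩ := Dc r hr h
      exact c1_iff.mpr (c.comm_l e (l.Y_comm h1 h2 hy hx))
    by_cases h : r ∈ Qk Δ u P ⊔ F
    · exact k r h hr.2
    · simpa using mul_mem (k _ (idτ r hr.1 h) (mul_mem hr.2 (inv_mem τA.2)))
        (c1_iff.mpr (l.Y_cen h1 h2 e3 hx).symm)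
  obtain ⟨g, gL, gτ, gA⟩ : ∃ g ∈ L, Et t (g * τ * g⁻¹) (u * a) ∧ g ∈ Nor (T ⊓ L ⊓ Cen1 τ) := by
    obtain ⟨g, gL, gτ, gA⟩ := c.ext (R := T ⊓ L ⊓ Cen1 τ) (hS.of_le (le_inf inf_le_right
      fun g hg => l.cen_y hg.1) inf_le_left) l.twoT.to_inf_left.to_inf_left
      (fun r hr => ⟨hr.1.2, Et.of_eq (conj_eq_iff.mpr (c1_iff.mp hr.2))⟩)
      (l.dih hO hS hP h1 h2 h3 hL)
    obtain ⟨x, hx, x1, n⟩ : ∃ x ∈ F, ¬ Et t x 1 ∧ g * (τ * x * τ⁻¹ * x) * g⁻¹ ∉ Qk Δ u P ⊔ F := by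
      by_contra n
      push Not at n
      have k1 : ∀ x ∈ F, ¬ Et t x 1 → ¬ Et t (g * (τ * x * τ⁻¹ * x) * g⁻¹) 1 := fun x hx x1 =>
        c.not_one ((l.Y_inv h1 h2 hx x1).1.conj g) (c.conj_ne g (l.Y_inv h1 h2 hx x1).2)
      have k2 : ∀ x ∈ F, ¬ Et t (g * (τ * x * τ⁻¹ * x) * g⁻¹) (u * a) := fun x hx e =>
        τE (c.mem_of l.tE (c.of_conj g (c.trans gτ (c.symm e))) (l.Y_mem h1 h2 hx))
      have k3 : ∀ x ∈ F, g * (τ * x * τ⁻¹ * x) * g⁻¹ * (u * a) =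
          u * a * (g * (τ * x * τ⁻¹ * x) * g⁻¹) := fun x hx =>
        c.comm_r (c.symm gτ) (conj_comm (l.Y_cen h1 h2 e3 hx) g)
      have ab := mul_mem l.q8.am l.q8.bm
      have := l.no16 (n a l.q8.am l.q8.a1) (n b l.q8.bm l.q8.b1)
        ((l.Y_inv h1 h2 l.q8.am l.q8.a1).1.conj g).2 ((l.Y_inv h1 h2 l.q8.bm l.q8.b1).1.conj g).2
        (k1 a l.q8.am l.q8.a1) (k1 b l.q8.bm l.q8.b1) (k2 a l.q8.am) (k2 b l.q8.bm)
        (k3 a l.q8.am) (k3 b l.q8.bm) (by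
          rw [← conj_mul', l.Y_mul h1 h2 l.q8.am l.q8.bm]
          exact ((l.Y_inv h1 h2 ab (l.q8.ab1 c)).1.conj g).2)
      rw [← conj_mul', l.Y_mul h1 h2 l.q8.am l.q8.bm] at this
      exact this.elim (k1 _ ab (l.q8.ab1 c)) (k2 _ ab)
    obtain ⟨z, hz, e⟩ := l.sw_cj h1 h2 e3 (idτ _ (gA _ (YA x hx)) n) (by
      simpa using Et.of_eq (t := t) ((l.Y_inv h1 h2 hx x1).1.conj g).2)
    rw [inv_mul_cancel_right] at e
    have zT := EL (mem_sup_right hz)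
    refine ⟨z⁻¹ * g, mul_mem (L.inv_mem zT.2) gL, c.trans ?_ (l.cen_y (T.inv_mem zT.1)),
      mem_nor fun r hr => ⟨H5.mem_of_eq (cmem (inv_mem zT) (gA r hr)) (by group), ?_⟩⟩
    · have := c.econj z⁻¹ gτ
      rwa [show z⁻¹ * (g * τ * g⁻¹) * z⁻¹⁻¹ = z⁻¹ * g * τ * (z⁻¹ * g)⁻¹ by group] at this
    · have := conj_comm (c.comm_r e (conj_comm (c1_iff.mp (Ac x hx r hr)) g)) z⁻¹
      rw [show z⁻¹ * (z * τ * z⁻¹) * z⁻¹⁻¹ = τ by group,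
        show z⁻¹ * (g * r * g⁻¹) * z⁻¹⁻¹ = z⁻¹ * g * r * (z⁻¹ * g)⁻¹ by group] at this
      exact c1_iff.mpr this
  have DA : (Qk Δ u P ⊔ F) ⊓ Cen1 τ ≤ T ⊓ L ⊓ Cen1 τ := inf_le_inf_right _ EL
  have tD : t ∈ (Qk Δ u P ⊔ F) ⊓ Cen1 τ := ⟨l.tE, c.t_cen τ⟩
  have TD : ∀ d ∈ (Qk Δ u P ⊔ F) ⊓ Cen1 τ, T ⊓ L ≤ Ce c d := fun d hd w hw => by
    by_cases h : w ∈ Qk Δ u P ⊔ F
    · exact l.ecE h hd.1
    · simpa using mul_mem (s := Ce c d) (l.ecE (idτ w hw h) hd.1)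
        (Et.of_eq (conj_eq_iff.mpr (c1_iff.mp hd.2).symm))
  obtain ⟨d, hd, dn⟩ : ∃ d ∈ (Qk Δ u P ⊔ F) ⊓ Cen1 τ, g * d * g⁻¹ ∉ Qk Δ u P ⊔ F := by
    by_contra n
    push Not at n
    have gD : g ∈ Nor ((Qk Δ u P ⊔ F) ⊓ Cen1 τ) :=
      mem_nor fun d hd => ⟨n d hd, (conj_mem gA (DA hd)).2⟩
    exact τE (of_conj_mem gD ⟨c.mem_of l.tE gτ l.yE, (conj_mem gA τA).2⟩).1
  obtain ⟨x, hx, x1, xE⟩ : ∃ x ∈ F, ¬ Et t x 1 ∧ g⁻¹ * (τ * x * τ⁻¹ * x) * g ∈ Qk Δ u P ⊔ F := by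
    by_contra n
    push Not at n
    refine n _ (mul_mem l.q8.am l.q8.bm) (l.q8.ab1 c) (H5.mem_of_eq (idx _
      (conj_mem' gA (YA a l.q8.am)).1 _ (conj_mem' gA (YA b l.q8.bm)).1 (n a l.q8.am l.q8.a1)
      (n b l.q8.bm l.q8.b1)) ?_)
    rw [← l.Y_mul h1 h2 l.q8.am l.q8.bm]; group
  have act : ∀ d ∈ (Qk Δ u P ⊔ F) ⊓ Cen1 τ, g * d * g⁻¹ ∉ Qk Δ u P ⊔ F →
      Et t (g⁻¹ * x * g * d * (g⁻¹ * x * g)⁻¹) (g⁻¹ * (τ * x * τ⁻¹ * x) * g * d) :=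
    fun d hd n => c.of_conj g (by
      have := l.act_sw h1 h2 (idτ _ (conj_mem gA (DA hd)).1 n) hx
      convert this using 1 <;> group)
  have nD : g⁻¹ * x * g ∈ Nor ((Qk Δ u P ⊔ F) ⊓ Cen1 τ) := mem_nor fun d hd => by
    by_cases n : g * d * g⁻¹ ∈ Qk Δ u P ⊔ F
    · refine c.mem_of tD (c.of_conj g ?_) hd
      have := l.ecE (mem_sup_right hx) n
      convert this using 1; group
    · exact c.mem_of tD (act d hd n) (mul_mem ⟨xE, (conj_mem' gA (YA x hx)).2⟩ hd)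
  obtain ⟨h, hh, m⟩ := H8.Sq.conj_into (hS.of_le (H := L ⊓ Nor ((Qk Δ u P ⊔ F) ⊓ Cen1 τ))
    (le_inf inf_le_right fun w hw => mem_nor fun d hd => c.mem_of tD (TD d hd hw) hd) inf_le_left)
    (x := g⁻¹ * x * g) ⟨L.mul_mem (L.mul_mem (L.inv_mem gL) (EL (mem_sup_right hx)).2) gL, nD⟩
    (by simpa using (P2.of_mem (l.q8.two c) hx).conj g⁻¹)
  have e1 := mem_Ce.mp (TD _ (conj_mem hh.2 hd) m)
  rw [show h * (g⁻¹ * x * g) * h⁻¹ * (h * d * h⁻¹) * (h * (g⁻¹ * x * g) * h⁻¹)⁻¹ =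
    h * (g⁻¹ * x * g * d * (g⁻¹ * x * g)⁻¹) * h⁻¹ by group] at e1
  have e2 := c.rcancel (a := g⁻¹ * (τ * x * τ⁻¹ * x) * g) (g := d) (b := 1) (by
    rw [one_mul]; exact c.trans (c.symm (act d hd dn)) (c.of_conj h e1))
  exact c.not_one (l.Y_inv h1 h2 hx x1).1 (l.Y_inv h1 h2 hx x1).2
    (c.of_conj g⁻¹ (by simpa using e2))

theorem not_au (hS : Syl P (O2 X)) (hs : s ∈ P) (h : s ∉ Qk Δ u P ⊔ F) : ¬ Cm2 t (O2 X) a u := by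
  intro h0
  have c := l.c
  obtain ⟨n, nO, e, m⟩ := c.ext (R := P) (hS.of_le (le_inf hS.le fun g hg => l.bc.act hg)
    inf_le_left) l.bc.two (le_inf hS.le fun g hg => l.fixa g hg) h0
  have nP := mem_nor m
  have au : ¬ Et t a u := fun e => l.q8.a1 (l.bc.FQ l.q8.am (c.mem_of l.bc.tQ e l.bc.uQ))
  have fx := fun p hp => l.bc.conj_fix (p := p) nP hp
  have e' : Et t (n * u * n⁻¹) a := by
    rcases l.bc.fourE (l.cenF _ (conj_mem nP l.bc.uP) fun x hx => c.et_comm.mp (c.symm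
      (c.et_comm.mpr (fx x (l.le hx))))) (c.sq4 l.bc.hu n) with m | m
    · exact ((l.fixQ hs h m (fx s hs)).elim (c.not4 (c.sq4 l.bc.hu n)) fun e' =>
        au (c.of_conj n (c.trans e (c.symm e')))).elim
    · exact (l.fixF hs h m (fx s hs)).resolve_left (c.not4 (c.sq4 l.bc.hu n))
  obtain ⟨_, ⟨j, rfl⟩, hj⟩ := odd_pow_mem hS nO nP
  have n2 : n * n ∈ Ce c a := c.trans (by
    have := c.econj n e
    rwa [show n * (n * a * n⁻¹) * n⁻¹ = n * n * a * (n * n)⁻¹ by group] at this) e'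
  have := mul_mem (s := Ce c a) (l.fixa _ hj) (inv_mem (pow_mem n2 j))
  rw [← pow_two, ← pow_mul, pow_succ', mul_inv_cancel_right] at this
  exact au (c.trans (c.symm this) e)

theorem nE_sup (hg : g ∈ T) (h : σ ∈ T) (h1 : g * σ * g⁻¹ * σ ∈ Qk Δ u P ⊔ F) :
    g ∈ Nor ((Qk Δ u P ⊔ F) ⊔ zpowers σ) := mem_nor fun x hx => by
  rcases (mem_sup_zp (l.nE h) (l.sqT h)).mp hx with e | e
  · exact mem_sup_left (conj_mem (l.nE hg) e)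
  · refine (mem_sup_zp (l.nE h) (l.sqT h)).mpr (Or.inr (H5.mem_of_eq (mul_mem (mul_mem
      (conj_mem (l.nE hg) e) (inv_mem (conj_mem (l.nE hg) (l.sqT h)))) h1) (by group)))

theorem fin : Fn t u T P F a b k α := by
  have c := l.c
  have hS := syl_O2 l.syT
  obtain ⟨τ, τT, τP, τ2⟩ := l.ex
  by_cases hP : P ⊓ O2 X ≤ Qk Δ u P ⊔ F
  · exfalso
    by_cases h1 : ∃ σ ∈ T ⊓ O2 X, σ ∉ P
    · obtain ⟨σ, h1, h2⟩ := h1
      obtain ⟨x, hx, e⟩ := l.adj_sw h1.1 h2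
      have m : x * σ ∈ T ⊓ O2 X := mul_mem ⟨l.PT (l.le hx), l.F_O2 hx⟩ h1
      have n := l.Pmul h2 (l.le hx)
      rcases c.cases_sq e with e' | e'
      · exact l.extr le_rfl hS hP m.1 n e' m.2
      obtain ⟨w, hw, h⟩ := l.sc.tt hS (le_inf l.ET l.E_O2) l.tE m (fun h => n (l.bc.E_le h))
        (l.nE m.1) (fun g hg => by
          by_cases h : g ∈ P
          exacts [Or.inl (hP ⟨h, hg.2⟩), Or.inr (hP ⟨l.idx g hg.1 _ m.1 h n, (mul_mem hg m).2⟩)]) e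
      exact l.sw_not_u m.1 n e' (c.cm_trans (h.mono le_top) (l.four_cj' hw ((c.cm_sq h e).trans e')))
    push Not at h1
    have dec : ∀ g ∈ O2 X ⊔ zpowers τ, g ∈ O2 X ∨ g * τ ∈ O2 X := fun g =>
      (mem_sup_zp (nor_O2 τ) (τ2 ▸ one_mem _)).mp
    have τL : τ ∈ O2 X ⊔ zpowers τ := mem_sup_right (mem_zpowers τ)
    refine l.extr (L := O2 X ⊔ zpowers τ) le_sup_left (H5.isSylowOf_of_maximal inf_le_right
      l.twoT.to_inf_left fun R r1 r2 r3 g hg => ⟨?_, r3 hg⟩) (fun g hg => (dec g hg.2).elim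
        (fun h => hP ⟨hg.1, h⟩) fun h => (l.Pmul τP hg.1 (h1 _ ⟨mul_mem (l.PT hg.1) τT, h⟩)).elim)
      τT τP τ2 τL
    have e := hS.eq_of_le (R := R ⊓ O2 X) r1.to_inf_left (le_inf ((inf_le_inf_left _ le_sup_left).trans r2)
      inf_le_right) inf_le_right
    rcases dec g (r3 hg) with h | h
    · exact (e.le ⟨hg, h⟩).1
    · simpa using T.mul_mem (e.le ⟨R.mul_mem hg (r2 ⟨τT, τL⟩), h⟩).1 (T.inv_mem τT)
  obtain ⟨s', hs', s1⟩ := SetLike.not_le_iff_exists.mp hP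
  obtain ⟨e, he, s2⟩ := l.adj_s hs'.1 s1
  have sP : e * s' ∈ P := mul_mem (l.bc.E_le he) hs'.1
  have sO : e * s' ∈ O2 X := mul_mem (l.E_O2 he) hs'.2
  have sE : e * s' ∉ Qk Δ u P ⊔ F := fun h => s1 (by simpa using mul_mem (inv_mem he) h)
  generalize e * s' = s at s2 sP sO sE
  have ss : Et t (s * s) 1 := s2 ▸ c.t_et
  have dP : ∀ g ∈ P, g ∈ Qk Δ u P ⊔ F ∨ g * s ∈ Qk Δ u P ⊔ F := fun g hg =>
    or_iff_not_imp_left.mpr fun h => l.idxE hg sP h sE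
  have PO : P ≤ O2 X := fun g hg => (dP g hg).elim (l.E_O2 ·) fun h => by
    simpa using mul_mem (l.E_O2 h) (inv_mem sO)
  by_cases h1 : T ⊓ O2 X ≤ P
  · exfalso
    have hS' : Syl P (O2 X) := le_antisymm h1 (le_inf l.PT PO) ▸ hS
    obtain ⟨w, hw, h⟩ := l.sc.tt hS' l.bc.E_le l.tE sP sE (l.norE sP) dP ss
    have h2 : Cm2 t (O2 X) s (τ * s * τ⁻¹) := by
      have m := l.idxE (conj_mem (l.nP τT) sP) (inv_mem sP)
        (fun m => sE (of_conj_mem (l.nE τT) m)) (by simpa)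
      simpa using (l.s_cj sP sE ss m (by simpa [sq_conj] using c.econj τ ss)).mono l.E_O2
    rcases l.four_cj hw ((c.cm_sq h ss).trans s2) with h' | h' <;> have h3 := c.cm_trans h h' <;>
      have h4 := c.cm_trans h2 (c.cm_nor (nor_O2 τ) h3)
    · exact l.not_au hS' sP sE (c.cm_trans (c.cm_symm (c.cm_trans h4 (c.cm_et (l.au τ τT τP)))) h3)
    · exact l.not_au hS' sP sE (c.cm_trans (c.cm_symm h3) (c.cm_trans h4 (c.cm_et (l.ua τT τP))))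
  obtain ⟨σ, hσ, σP⟩ := SetLike.not_le_iff_exists.mp h1
  have TO : T ≤ O2 X := fun g hg => by
    by_cases h : g ∈ P
    · exact PO h
    · simpa using mul_mem (PO (l.idx g hg σ hσ.1 h σP)) (inv_mem hσ.2)
  have hS' : Syl T (O2 X) := l.syT.of_le TO le_top
  have key : ∀ w ∈ T, w * w = t → Cm2 t ⊤ w u := fun w hw w2 => by
    have dec : ∀ g, g ∈ (Qk Δ u P ⊔ F) ⊔ zpowers τ ↔ g ∈ Qk Δ u P ⊔ F ∨ g * τ ∈ Qk Δ u P ⊔ F :=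
      fun g => mem_sup_zp (l.nE τT) (l.sqT τT)
    have k : ∀ w ∈ (Qk Δ u P ⊔ F) ⊔ zpowers τ, w * w = t → Cm2 t ⊤ w u := fun w hw w2 => by
      rcases (dec w).mp hw with h | h
      · exact l.four_cj' h w2
      · have := l.sw_sq τT τP (Et.of_eq τ2) (x := w) (by rwa [inv_eq_self_of_sq τ2]) (w2 ▸ c.t_et)
        exact (c.t1 (w2.symm.trans (this.trans τ2))).elim
    by_cases h : w ∈ (Qk Δ u P ⊔ F) ⊔ zpowers τ
    · exact k w h w2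
    have idx : ∀ g ∈ T, ∀ h ∈ T, g ∉ (Qk Δ u P ⊔ F) ⊔ zpowers τ → h ∉ (Qk Δ u P ⊔ F) ⊔ zpowers τ →
        g * h ∈ (Qk Δ u P ⊔ F) ⊔ zpowers τ := fun g hg h hh n n' => by
      rw [dec, not_or] at n n'
      have τM : τ ∈ (Qk Δ u P ⊔ F) ⊔ zpowers τ := mem_sup_right (mem_zpowers τ)
      have j : ∀ g ∈ T, g ∉ P → g * τ ∈ P := fun g hg h => l.idx g hg τ τT h τP
      have j' : ∀ g, g ∈ P → g ∉ Qk Δ u P ⊔ F → τ * g * τ⁻¹ ∈ P ∧ τ * g * τ⁻¹ ∉ Qk Δ u P ⊔ F :=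
        fun g hg h => ⟨conj_mem (l.nP τT) hg, fun m => h (of_conj_mem (l.nE τT) m)⟩
      by_cases g1 : g ∈ P <;> by_cases h1 : h ∈ P
      · exact mem_sup_left (l.idxE g1 h1 n.1 n'.1)
      · exact (dec _).mpr (Or.inr (mul_assoc g h τ ▸ l.idxE g1 (j h hh h1) n.1 n'.2))
      · exact H5.mem_of_eq (mul_mem (mem_sup_left (l.idxE (j g hg g1) (j' h h1 n'.1).1 n.2
          (j' h h1 n'.1).2)) τM) (by rw [mul_assoc g, ← mul_assoc τ, ← mul_assoc τ, τ2]; group)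
      · exact H5.mem_of_eq (mem_sup_left (l.idxE (j g hg g1) (j' _ (j h hh h1) n'.2).1 n.2
          (j' _ (j h hh h1) n'.2).2)) (by rw [mul_assoc g, ← mul_assoc τ, ← mul_assoc τ, τ2]; group)
    obtain ⟨m, hm, h'⟩ := l.sc.tt hS' (sup_le l.ET (zpowers_le.mpr τT)) (mem_sup_left l.tE) hw h
      (mem_nor fun x hx => idx _ (mul_mem hw (sup_le l.ET (zpowers_le.mpr τT) hx)) _ (inv_mem hw)
        (fun m => h (by simpa using mul_mem m (inv_mem hx))) (by simpa))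
      (fun g hg => or_iff_not_imp_left.mpr fun n => idx g hg w hw n h) (w2 ▸ c.t_et)
    exact c.cm_trans (h'.mono le_top) (k m hm ((c.cm_sq h' (w2 ▸ c.t_et)).trans w2))
  refine ⟨l, fun d hd d1 => ?_, fun w w2 => ?_, ⟨s, sP, sE, s2⟩, fun x hx n e =>
    (c.cases_sq e).resolve_right fun e' => l.sw_not_u hx n e' (key x hx e')⟩
  · obtain ⟨g, -, m⟩ := H8.Sq.conj_into l.syT (mem_top d) (p2_of_sq hd.2)
    refine c.cm_trans (c.cm_conj (mem_top g) d) ?_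
    have i := hd.conj g
    have k : ∀ d ∈ P, d * d = 1 → ¬ Et t d 1 → Cm2 t ⊤ d (u * a) := fun d hd h1 h2 =>
      (l.inv_cj (l.inv d hd h1) h1 h2).mono le_top
    have n := c.not_one i (c.conj_ne g d1)
    by_cases h : g * d * g⁻¹ ∈ P
    · exact k _ h i.2 n
    obtain ⟨w, hw, h'⟩ := l.sc.tt hS' l.PT l.bc.tQ.1 m h (l.nP m)
      (fun g hg => or_iff_not_imp_left.mpr fun n => l.idx g hg _ m n h) (Et.of_eq i.2)
    refine c.cm_trans (h'.mono le_top) (k w hw ((c.cm_sq h' (Et.of_eq i.2)).trans i.2) fun e => ?_)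
    obtain ⟨j, -, e'⟩ := h'
    exact n (c.of_conj j (by simpa using c.trans e' e))
  · obtain ⟨g, -, m⟩ := H8.Sq.conj_into l.syT (mem_top w) (c.p4 w2)
    exact c.cm_trans (c.cm_conj (mem_top g) w) (key _ m (c.sq4 w2 g))

end Sw

end GC
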