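import Cfsg.Agent.GC.A

/-! The closure of an equivariant signalizer functor; auxiliary results. -/

set_option autoImplicit false
set_option linter.unusedSectionVars false

namespace GC

open Cfsg Subgroup FT H4 BS SF
open H5.Dich (E3 R3 NF)
open H8.Sq (P2 p2_of_sq)
open scoped commutatorElement

universe u

/-- each four-group fixes at most one point -/
def FG (G : Type*) [Group G] (Ω : Type*) [MulAction G Ω] : Prop :=
  ∀ a b : G, Inv a → Inv b → a ≠ b → a * b = b * a →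
    ∀ x y : Ω, a • x = x → b • x = x → a • y = y → b • y = y → x = y

/-- the hypotheses of the core theorem -/
structure KH (G : Type*) [Group G] (Ω : Type*) [MulAction G Ω] (α : Ω) (W : Subgroup G) :
    Prop where
  tr : ∀ x y : Ω, ∃ g : G, g • x = y
  syl : ∃ T : Subgroup G, Syl T ⊤ ∧ T ≤ St G α ∧ R3 T
  fg : FG G Ω
  odd : Odd (Nat.card W)
  le : W ≤ St G α
  nor : St G α ≤ Nor W
  cen : ∀ a ∈ St G α, Inv a → Cen1 a ≤ Nor (W ⊓ Cen1 a)

/-- the core theorem for groups of order less than `n` -/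
def KUp (n : ℕ) : Prop :=
  ∀ (G : Type u) [Group G] [Finite G] (Ω : Type u) [MulAction G Ω] [Finite Ω] (α : Ω)
    (W : Subgroup G), Nat.card G < n → KH G Ω α W → W ≤ Od ⊤

theorem KUp.mono {m n : ℕ} (h : KUp.{u} n) (e : m ≤ n) : KUp.{u} m :=
  fun G _ _ Ω _ _ α W h1 => h G Ω α W (h1.trans_le e)

variable {G : Type u} [Group G] [Finite G] {a b g t z : G} {A S T H W V : Subgroup G}

/-- every involution of `S` lies in an `E₈` of `S` -/
def Cn (S : Subgroup G) : Prop := ∀ a ∈ S, Inv a → R3 (S ⊓ Cen1 a)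

theorem Cn.conj (h : Cn S) (g : G) : Cn (conjS g S) := by
  rintro _ ⟨a, ha, rfl⟩ i
  have := (h a ha (by simpa [mul_assoc] using i.conj g⁻¹)).conj g
  rwa [conjS_inf, conjS_cen1] at this

theorem Cn.syl (h : Cn S) (hS : Syl S H) (hT : Syl T H) : Cn T := by
  obtain ⟨k, -, rfl⟩ := hS.exists_conj hT
  exact h.conj k

theorem Cn.four (h : Cn S) (hS : IsPGroup 2 S) (ha : a ∈ S) (hb : b ∈ S) (ia : Inv a) (ib : Inv b)
    (hne : a ≠ b) (hc : a * b = b * a) : ∃ A, E3 A S ∧ a ∈ A ∧ b ∈ A := by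
  obtain ⟨z, hz, zz, z1, hcz⟩ := H5.Dich.exists_central hS fun e => ia.1 (by simpa [e] using ha)
  have key : ∀ c ∈ S, Inv c → ∃ A, E3 A S ∧ c ∈ A ∧ z ∈ A := fun c hc ic => by
    obtain ⟨A, hA⟩ := h c hc ic
    have h1 := (hA.mono inf_le_left).adjoin ic.2 (hA.le.trans inf_le_right) hc
    exact ⟨_, h1.adjoin zz (h1.le.trans hcz) hz, mem_sup_left (mem_sup_right (mem_zpowers c)),
      mem_sup_right (mem_zpowers z)⟩
  by_cases hm : z ∈ H4.four a b ia.2 ib.2 hc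
  · rcases hm with e | rfl | rfl | rfl
    · exact (z1 e).elim
    · obtain ⟨A, h1, h2, h3⟩ := key b hb ib
      exact ⟨A, h1, h3, h2⟩
    · exact key a ha ia
    · obtain ⟨A, h1, h2, h3⟩ := key a ha ia
      exact ⟨A, h1, h2, by simpa using mul_mem (inv_mem h2) h3⟩
  · exact ⟨_, H5.Dich.e3_adjoin (elem_four ia.2 ib.2 hc) (le_card_four ia.2 ib.2 hc ia.1 ib.1 hne) zz
      ((H4.four_le ia.2 ib.2 hc ha hb).trans hcz) hm (H4.four_le ia.2 ib.2 hc ha hb) hz,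
      mem_sup_left (Or.inr (Or.inl rfl)), mem_sup_left (Or.inr (Or.inr (Or.inl rfl)))⟩

theorem cn_of_normal (hV : V ≤ S) (hn : S ≤ Nor V) (he : IsElementaryAbelian 2 V)
    (h3 : 2 ^ 3 ≤ Nat.card V) : Cn S := fun a ha i => by
  by_cases h : a ∈ V
  · exact ⟨V, le_inf hV fun x hx => c1_iff.mpr (H5.comm_of_isMulCommutative he.1 hx h), he, h3⟩
  have h1 := h3.trans (H5.SS.card_le_sq_cen he (hn ha) i.2)
  have e := H5.elem_of_le he (inf_le_left (b := Cen1 a))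
  refine ⟨_, H5.Dich.e3_adjoin e ?_ i.2 inf_le_right (fun m => h m.1) (inf_le_inf_right _ hV)
    ⟨ha, c1_iff.mpr rfl⟩⟩
  obtain ⟨k, hk⟩ := (IsPGroup.iff_card (p := 2)).mp (H5.isPGroup_of_elem e)
  rw [hk] at h1 ⊢
  refine Nat.pow_le_pow_right (by norm_num) ?_
  by_contra n
  interval_cases k <;> simp at h1

theorem wdata {θ : G → Subgroup G} (heq : ∀ g a, θ (g * a * g⁻¹) = conjS g (θ a))
    (hs : ∀ A : Subgroup G, IsElementaryAbelian 2 A → 2 ^ 3 ≤ Nat.card A →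
      IsSolvableSignalizerFunctor 2 A θ) (hS : Syl S ⊤) (r3 : R3 S) (h3 : Cn S) :
    ∃ W : Subgroup G, KH G (G ⧸ Nor W) ((1 : G) : G ⧸ Nor W) W ∧ Nor S ≤ Nor W ∧
      ∀ a ∈ Nor W, Inv a → W ⊓ Cen1 a = θ a := by
  have sig : ∀ A ≤ (⊤ : Subgroup G), IsElementaryAbelian 2 A → 2 ^ 3 ≤ Nat.card A →
      IsSolvableSignalizerFunctor 2 A θ ∧ H5.SS.Compl 2 A θ := fun A _ h1 h2 =>
    ⟨hs A h1 h2, H5.SS.ssft_two h1 h2 (hs A h1 h2)⟩
  have cle : ∀ {A B : Subgroup G}, IsElementaryAbelian 2 A → B ≤ A → 2 ^ 2 ≤ Nat.card B →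
      signalizerClosure B θ = signalizerClosure A θ := fun h1 h2 h3 =>
    H5.SS.closure_eq_of_le sig le_top h1 h2 h3
  have cj : ∀ (g : G) (A : Subgroup G), conjS g (signalizerClosure A θ) =
      signalizerClosure (conjS g A) θ := fun g A => H5.SS.conjS_closure fun a _ _ => heq g a
  obtain ⟨z, hz, zz, z1, hcz⟩ := H5.Dich.exists_central hS.isPGroup r3.ne_bot
  obtain ⟨v, h⟩ := H5.Dich.exists_NF hS.isPGroup r3 hz zz z1 hcz
  have e3 : ∀ A, E3 A S → signalizerClosure A θ = signalizerClosure h.U θ := fun A hA => by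
    have h2 : 2 ^ 2 ≤ Nat.card ↥(A ⊓ Cen1 v) := by
      have := hA.card.trans (H5.Dich.card_le_two_mul (h.index hA.le))
      omega
    have e := H6.EA.sup (H5.elem_of_le hA.elem (inf_le_left (b := Cen1 v))) h.U_elem
      (h.le_cen (inf_le_inf_right _ hA.le))
    rw [← cle hA.elem inf_le_left h2, cle e le_sup_left h2, cle e le_sup_right h.U_card]
  generalize signalizerClosure h.U θ = W at e3
  have fam : ∀ A, E3 A S → W ∈ signalizerFamily 2 A θ := fun A hA => e3 A hA ▸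
    (sig A le_top hA.elem hA.card).2.closure_mem (sig A le_top hA.elem hA.card).1
  obtain ⟨A, hA⟩ := id r3
  have nS : Nor S ≤ Nor W := fun g hg => by
    rw [mem_normalizer_iff_conjS, ← e3 A hA, cj, e3 _ (mem_normalizer_iff_conjS.mp hg ▸ hA.conj g),
      e3 A hA]
  have hS' := hS.of_le (le_normalizer.trans nS) le_top
  have e2 : ∀ V : Subgroup G, IsElementaryAbelian 2 V → 2 ^ 2 ≤ Nat.card V → V ≤ Nor W →
      signalizerClosure V θ = W := fun V h1 h2 hV => by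
    obtain ⟨k, hk, e⟩ := hS'.exists_conj_le (H5.isPGroup_of_elem h1) hV
    have h1' := H5.Dich.elem_conjS h1 k
    obtain ⟨a, ha, b, hb, a1, b1, ab⟩ := exists_two (A := conjS k V) (by rw [card_conjS]; omega)
    have aa := H5.Dich.mul_self_of_elem h1' ha
    have bb := H5.Dich.mul_self_of_elem h1' hb
    have hc := H5.comm_of_isMulCommutative h1'.1 ha hb
    obtain ⟨A, hA, m1, m2⟩ := h3.four hS.isPGroup (e ha) (e hb) ⟨a1, aa⟩ ⟨b1, bb⟩ ab hc
    have c4 := le_card_four aa bb hc a1 b1 ab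
    refine conjS_injective k ?_
    rw [cj, ← cle h1' (H4.four_le aa bb hc ha hb) c4, cle hA.elem (H4.four_le aa bb hc m1 m2) c4,
      e3 A hA, mem_normalizer_iff_conjS.mp hk]
  have th : ∀ a ∈ Nor W, Inv a → W ⊓ Cen1 a = θ a := fun a ha i => by
    obtain ⟨k, hk, m⟩ := H8.Sq.conj_into hS' ha (p2_of_sq i.2)
    obtain ⟨A, hA⟩ := h3 _ m (i.conj k)
    have h1 := (hA.mono inf_le_left).adjoin (i.conj k).2 (hA.le.trans inf_le_right) m
    have m' : k * a * k⁻¹ ∈ A ⊔ zpowers (k * a * k⁻¹) := mem_sup_right (mem_zpowers _)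
    refine conjS_injective k ?_
    rw [← heq, conjS_inf, conjS_cen1, mem_normalizer_iff_conjS.mp hk]
    exact le_antisymm (H5.fam_le (fam _ h1) m' (i.conj k).1) (le_inf
      (e3 _ h1 ▸ H5.SS.le_closure' m' (i.conj k).1) ((hs _ h1.elem h1.card).1.1 _ m' (i.conj k).1))
  refine ⟨W, ⟨fun x y => MulAction.exists_smul_eq G x y, ⟨S, hS, ?_, r3⟩, ?_, Nat.odd_iff.mpr
    (Nat.two_dvd_ne_zero.mp (H5.fam_not_dvd (fam A hA))), ?_, ?_, fun a ha i g hg => ?_⟩, nS, th⟩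
  · rw [SF.St_one]; exact hS'.le
  · intro a b ia ib hne hc x y h1 h2 h3 h4
    have k : ∀ g : G, a • (g : G ⧸ Nor W) = g → b • (g : G ⧸ Nor W) = g →
        signalizerClosure (H4.four a b ia.2 ib.2 hc) θ = conjS g W := fun g h1 h2 => by
      rw [← e2 (conjS g⁻¹ (H4.four a b ia.2 ib.2 hc)) (H5.Dich.elem_conjS (elem_four _ _ _) _)
        (by rw [card_conjS]; exact le_card_four _ _ _ ia.1 ib.1 hne) ?_, ← cj, conjS_conjS_inv]
      rw [← conjS_le_conjS_iff (g := g), conjS_conjS_inv, ← St_coe]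
      exact H4.four_le _ _ _ h1 h2
    obtain ⟨g, rfl⟩ := QuotientGroup.mk_surjective x
    obtain ⟨h, rfl⟩ := QuotientGroup.mk_surjective y
    rw [QuotientGroup.eq, mem_normalizer_iff_conjS, ← conjS_conjS, ← k h h3 h4, k g h1 h2,
      conjS_inv_conjS]
  · rw [SF.St_one]; exact le_normalizer
  · rw [SF.St_one]
  · rw [SF.St_one] at ha
    rw [th a ha i, mem_normalizer_iff_conjS, ← heq, show g * a * g⁻¹ = a by
      rw [c1_iff.mp hg, mul_inv_cancel_right]]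

theorem cor {θ : G → Subgroup G} (ih : KUp.{u} (Nat.card G + 1))
    (heq : ∀ g a, θ (g * a * g⁻¹) = conjS g (θ a))
    (hs : ∀ A : Subgroup G, IsElementaryAbelian 2 A → 2 ^ 3 ≤ Nat.card A →
      IsSolvableSignalizerFunctor 2 A θ) (hS : Syl S ⊤) (r3 : R3 S) (h3 : Cn S)
    (h0 : Od (⊤ : Subgroup G) = ⊥) (ha : Inv a) : θ a = ⊥ := by
  obtain ⟨W, h1, h2, h4⟩ := wdata heq hs hS r3 h3
  have := le_bot_iff.mp (h0 ▸ ih G _ _ W (Nat.lt_succ_self _) h1)
  subst this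
  rw [← h4 a (mem_nor fun x hx => by simp [mem_bot.mp hx]) ha, bot_inf_eq]

theorem cor_bal (ih : KUp.{u} (Nat.card G + 1)) (hb : H5.Dich.Bal G) (hS : Syl S ⊤) (r3 : R3 S)
    (h3 : Cn S) (h0 : Od (⊤ : Subgroup G) = ⊥) (ha : Inv a) : Od (Cen1 a) = ⊥ :=
  (Od_eq _).trans (cor (θ := H5.Dich.th) ih (H5.SS.core_conj 2)
    (fun A h1 h2 => (hb.sig ⊤ A le_top h1 h2).1) hS r3 h3 h0 ha)

/-- an elementary abelian Sylow 2-subgroup with semiregular automizer and two classes -/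
theorem ab0 (h : _root_.W.AS S ⊤) (h0 : Od (⊤ : Subgroup G) = ⊥) (r3 : R3 S)
    (fpf : ∀ n ∈ Nor S, ∀ x ∈ S, x ≠ 1 → n * x = x * n → n ∈ Cen S)
    (two : ∃ x ∈ S, ∃ y ∈ S, Inv x ∧ Inv y ∧ ∀ n ∈ Nor S, n * x * n⁻¹ ≠ y) : ⊤ ≤ Nor S := by
  have k : ∀ x ∈ S, orderOf x = 2 → pPrimeCoreIn 2 (Cen1 x) ⊔ S = Cen1 x := fun x hx o =>
    (Burnside_normal_complement (h.of_le (h.c1 hx) le_top).syl fun n hn =>
      fpf n hn.2 x hx (by rintro rfl; simp at o) (c1_iff.mp hn.1)).sup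
  by_contra n
  obtain ⟨x, hx, y, hy, ix, iy, e⟩ := two
  obtain ⟨g, -, rfl⟩ := oc_top_of_se (_root_.W.se_crit h.syl r3.ne_bot (fun e => n e.ge) le_rfl
    fun x hx o => by
      have := _root_.W.core_bot h.syl (Od_top.symm.trans h0) (fun x hx o => ⟨k x hx o ▸
        H5.isSolvable_sup ((h.c1 hx).trans (le_normalizer_pPrimeCoreIn 2 _))
          (odd_solvable (Od_eq (Cen1 x) ▸ odd_Od _)) (H5.isSolvable_of_isPGroup h.two),
        r3.mono (h.c1 hx)⟩) o
      rw [← k x hx o]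
      exact sup_le (this.le.trans bot_le) le_normalizer) x (mem_top _) y (mem_top _) ix iy
  obtain ⟨m, -, h1, h2⟩ := h.fuse hx (mem_top g) hy
  exact e m h1 h2

theorem Od_bot2 {Y : Type*} [Group Y] [Finite Y] {Z : Subgroup G} {f : H →* Y}
    (hf : Function.Surjective f) (hk : f.ker = (Od H ⊔ Z).subgroupOf H) (hZ : IsPGroup 2 Z)
    (ZH : Z ≤ H) (hc : H ≤ Cen Z) : Od (⊤ : Subgroup Y) = ⊥ := by
  have NC := H5.pre_le (f := f) (Od ⊤)
  have CN : H ≤ Nor (H5.pre f (Od ⊤)) := H5.le_normalizer_pre le_rfl (le_top.trans (le_nor_Od ⊤))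
  have QN := H5.le_pre_of_ker hk (sup_le (Od_le H) ZH) (Od ⊤)
  have s : Syl Z (H5.pre f (Od ⊤)) := H5.isSylowOf_of_maximal (le_sup_right.trans QN) hZ
    fun R h1 h2 h3 r hr => by
      obtain ⟨o, ho, z, hz, rfl⟩ := (H5.mem_sup_left_iff (ZH.trans (le_nor_Od H))).mp
        ((ph_ker hk (NC (h3 hr))).mp (two_odd (H5.isPGroup_im h1) (odd_Od ⊤)
          (ph_mem_im hr (NC (h3 hr))) (mem_pre.mp (h3 hr)).2))
      rw [two_odd h1 (odd_Od H) (by simpa using mul_mem hr (inv_mem (h2 hz))) ho, one_mul]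
      exact hz
  rw [← H5.im_pre hf (Od ⊤), H5.im_eq_bot_iff hk NC,
    ← (Burnside_normal_complement s (inf_le_left.trans (NC.trans hc))).sup, ← Od_eq]
  exact sup_le_sup_right (Od_le_Od NC CN) _

/-- Bender's argument -/
theorem bl {D J : Subgroup G} (hD : Odd (Nat.card D)) (hJ : J ≤ D) (h0 : J ≠ ⊥)
    (hN : ∀ C, C ≠ ⊥ → C ≤ J → Nor J ≤ Nor C → D ⊓ Nor C ≤ J)
    (hp : ∀ p : ℕ, p.Prime → pCoreIn p D ≠ ⊥ → pCoreIn p J ≠ ⊥) : D ≤ J := by
  obtain ⟨q, hq, h1⟩ := BS.exists_pCoreIn_ne_bot (odd_solvable (odd_of_le hD hJ)) h0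
  have := Fact.mk hq
  have qD := (pCoreIn_le q J).trans hJ
  have k : ∀ r : {r : ℕ // r.Prime ∧ pCoreIn r D ≠ ⊥},
      ⁅pPrimeCoreIn q D, pCoreIn q J⁆ ≤ pPrimeCoreIn r D := fun ⟨r, hr, h2⟩ => by
    by_cases e : r = q
    · subst e
      exact H5.SS.commutator_le_left' (qD.trans (le_normalizer_pPrimeCoreIn _ _))
    have := Fact.mk hr
    have n := qD.trans (le_normalizer_pPrimeCoreIn r D)
    have h3 : pPrimeCoreIn r D ⊔ pCoreIn q J ≤ pPrimeCoreIn r D := le_pPrimeCoreIn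
      (sup_le (pPrimeCoreIn_le r D) qD) ((lemmaS1 hD hJ hN (hp r hr h2)).trans (sup_le
        (le_sup_left.trans le_normalizer) (H4.le_normalizer_sup
          (hJ.trans (le_normalizer_pPrimeCoreIn r D)) (le_normalizer_pCoreIn q J))))
      (H5.coprime_sup n (coprime_card_pPrimeCoreIn r D).symm
        (coprime_card_of_pGroup (Ne.symm e) (isPGroup_pCoreIn q J)).symm).symm
    exact (commutator_mono le_rfl (le_sup_right.trans h3)).trans (H5.SS.commutator_le_right'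
      ((pPrimeCoreIn_le q D).trans (le_normalizer_pPrimeCoreIn r D)))
  have U0 : D ⊓ ⨅ r : {r : ℕ // r.Prime ∧ pCoreIn r D ≠ ⊥}, pPrimeCoreIn r D = ⊥ := by
    by_contra n
    obtain ⟨p, hp, h2⟩ := BS.exists_pCoreIn_ne_bot (odd_solvable (odd_of_le hD inf_le_left)) n
    have h3 := le_pCoreIn ((pCoreIn_le p _).trans inf_le_left) ((H4.le_normalizer_inf le_normalizer
      (H5.le_normalizer_iInf fun r : {r : ℕ // r.Prime ∧ pCoreIn r D ≠ ⊥} =>
        le_normalizer_pPrimeCoreIn r D)).trans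
      (normalizer_le_normalizer_pCoreIn p _)) (isPGroup_pCoreIn p _)
    have h4 : pCoreIn p D ≠ ⊥ := fun e => h2 (le_bot_iff.mp (h3.trans e.le))
    have h5 := iInf_le (fun r : {r : ℕ // r.Prime ∧ pCoreIn r D ≠ ⊥} => pPrimeCoreIn r D)
      ⟨p, hp, h4⟩
    exact h2 (eq_bot_of_pGroup_coprime (isPGroup_pCoreIn p _) (H5.coprime_of_le_left
      ((pCoreIn_le p _).trans (inf_le_right.trans h5)) (coprime_card_pPrimeCoreIn p D)))
  have c0 : ⁅pPrimeCoreIn q D, pCoreIn q J⁆ = ⊥ := le_bot_iff.mp ((le_inf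
    ((H5.SS.commutator_le_left' (qD.trans (le_normalizer_pPrimeCoreIn _ _))).trans
      (pPrimeCoreIn_le q D)) (le_iInf k)).trans U0.le)
  exact (lemmaS1 hD hJ hN h1).trans (sup_le ((le_inf (pPrimeCoreIn_le q D)
    ((commutator_eq_bot_iff_le_centralizer.mp c0).trans (centralizer_le_normalizer _))).trans
    (hN _ h1 (pCoreIn_le q J) (normalizer_le_normalizer_pCoreIn q J))) le_rfl)

end GC
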