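import Cfsg.Agent.GC.J
import Cfsg.Agent.GC.W

/-! The centralizer of a singular involution in the final configuration. -/

set_option autoImplicit false
set_option linter.unusedSectionVars false

namespace GC

open Cfsg Subgroup FT H4 BS SF
open H5.Dich (E3 R3 NF)
open H8.Sq (P2 p2_of_sq)
open scoped commutatorElement

universe u

variable {X : Type u} [Group X] [Finite X] {Δ : Type u} [MulAction X Δ] [Finite Δ]
  {t u a b d e g h k n p r s v w x y z σ τ : X} {α β : Δ} {F K L M P T R : Subgroup X}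

theorem four_gen {ha : a * a = 1} {hb : b * b = 1} {hab : a * b = b * a}
    (hw : w ∈ H4.four a b ha hb hab) (hv : v ∈ H4.four a b ha hb hab) (w1 : w ≠ 1) (v1 : v ≠ 1)
    (hne : w ≠ v) (wK : w ∈ K) (vK : v ∈ K) : H4.four a b ha hb hab ≤ K := by
  have k1 : a ∈ K → a * b ∈ K → H4.four a b ha hb hab ≤ K := fun h1 h2 =>
    H4.four_le ha hb hab h1 (by simpa using mul_mem (inv_mem h1) h2)
  have k2 : b ∈ K → a * b ∈ K → H4.four a b ha hb hab ≤ K := fun h1 h2 =>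
    H4.four_le ha hb hab (by simpa using mul_mem h2 (inv_mem h1)) h1
  rcases hw with rfl | rfl | rfl | rfl <;> rcases hv with rfl | rfl | rfl | rfl <;>
    first | contradiction | exact H4.four_le ha hb hab ‹_› ‹_› | exact k1 ‹_› ‹_› | exact k2 ‹_› ‹_›

theorem four_odd {ha : a * a = 1} {hb : b * b = 1} {hab : a * b = b * a} (ho : Odd (orderOf n))
    (hn : n ∈ Nor (H4.four a b ha hb hab)) (hw : w ∈ H4.four a b ha hb hab) (w1 : w ≠ 1)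
    (h : n * w = w * n) (hv : v ∈ H4.four a b ha hb hab) : n * v = v * n := by
  by_cases v1 : v = 1
  · simp [v1]
  by_cases e : w = v
  · exact e ▸ h
  have el := elem_four ha hb hab
  have ww := H5.Dich.mul_self_of_elem el hw
  have vv := H5.Dich.mul_self_of_elem el hv
  have wv := H5.comm_of_isMulCommutative el.1 hw hv
  rcases four_gen hw hv w1 v1 e (left_mem_four ww vv wv) (right_mem_four ww vv wv)
    (conj_mem hn hv) with e' | e' | e' | e'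
  · exact (v1 (by simpa using e')).elim
  · rw [← conj_eq_iff.mpr h, mul_left_inj, mul_right_inj] at e'
    exact (e e'.symm).elim
  · exact conj_eq_iff.mp e'
  · refine cen_of_stable ho ?_ ?_ <;> rw [e', wv, inv_mul_cancel_left]
    exacts [h, p2_of_sq ww]

theorem Ci.Ce_symm (c : Ci t) (h : g ∈ Ce c x) : x ∈ Ce c g :=
  c.et_comm.mp (c.symm (c.et_comm.mpr h))

theorem Ci.t_Ce (c : Ci t) (x : X) : t ∈ Ce c x := Et.of_eq (conj_eq_iff.mpr (c.cen x).symm)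

theorem Ce_of_comm {c : Ci t} (h : g * x = x * g) : g ∈ Ce c x := Et.of_eq (conj_eq_iff.mpr h)

namespace Sw

variable (l : Sw t u T P F a b k α)
include l

theorem s_inv (hs : s ∈ P) (h : s ∉ Qk Δ u P ⊔ F) (s2 : s * s = t) (he : e ∈ Qk Δ u P ⊔ F)
    (e2 : e * e = t) (h1 : Et t (s * e * s⁻¹) e) : s * e * s⁻¹ = e * t ∧ e * s * (e * s) = t := by
  have c := l.c
  have e0 : e * s * (e * s) = e * (s * e * s⁻¹) * t := by rw [← s2]; group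
  have := l.sq_s (mul_mem (l.bc.E_le he) hs) (fun m => h (by simpa using mul_mem (inv_mem he) m))
    (by rw [e0]; simpa [e2, c.tt] using c.mul (c.mul (Et.refl t e) h1) (Et.refl t t))
  refine ⟨h1.resolve_left fun e' => ?_, this⟩
  rw [e0, e', e2, c.tt] at this
  exact c.t1 this.symm

theorem s_y (hs : s ∈ P) (h : s ∉ Qk Δ u P ⊔ F) (s2 : s * s = t) : s * (u * a) = u * a * s :=
  conj_eq_iff.mp (by
    rw [conj_mul', (l.s_inv hs h s2 (mem_sup_left l.bc.uQ) l.bc.hu (l.bc.act hs)).1,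
      (l.s_inv hs h s2 (mem_sup_right l.q8.am) (l.q8.aa l.c) (l.fixa s hs)).1, l.c.mul_tt])

theorem τ_y (hg : σ ∈ T) (h : σ ∉ P) (h2 : Et t (σ * σ) 1) : σ * (u * a) = u * a * σ :=
  l.c.comm_r (l.c.symm (l.Y_a hg h)) (l.Y_cen hg h h2 l.q8.am).symm

theorem Y_y (hg : σ ∈ T) (h : σ ∉ P) (hx : x ∈ F) :
    σ * x * σ⁻¹ * x * (u * a) = u * a * (σ * x * σ⁻¹ * x) :=
  l.c.comm_r (l.c.symm (l.Y_a hg h)) (l.Y_comm hg h hx l.q8.am)

theorem a_y : a * (u * a) = u * a * a := by rw [← mul_assoc, l.bc.Fu l.q8.am]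

theorem not_au' : ¬ Et t a u := fun e => l.q8.a1 (l.bc.FQ l.q8.am (l.c.mem_of l.bc.tQ e l.bc.uQ))

theorem conj_y (hr : r ∈ Qk Δ u P) (hx : x ∈ F) :
    r * x * (u * a) * (r * x)⁻¹ = r * u * r⁻¹ * (x * a * x⁻¹) := by
  calc _ = r * (x * u * x⁻¹) * r⁻¹ * (r * (x * a * x⁻¹) * r⁻¹) := by group
    _ = _ := by rw [conj_eq_iff.mpr (l.bc.Fu hx), conj_eq_iff.mpr (l.bc.QF hr (cmem hx l.q8.am))]

theorem CE_le (hg : τ ∈ T) (h : τ ∉ P) (h1 : t ∈ K) (h2 : u ∈ K) (h3 : a ∈ K)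
    (h4 : τ * b * τ⁻¹ * b ∈ K) (he : e ∈ Qk Δ u P ⊔ F) (hc : e * (u * a) = u * a * e) : e ∈ K := by
  have c := l.c
  have q := l.q8' hg h
  obtain ⟨r, hr, x, hx, rfl⟩ := l.bc.memE.mp he
  have e0 := (l.conj_y hr hx).symm.trans (conj_eq_iff.mpr hc)
  have k : ∀ {x a}, a ∈ K → Et t x 1 ∨ Et t x a → x ∈ K := fun h e =>
    e.elim (c.mem_of h1 · (one_mem _)) (c.mem_of h1 · h)
  by_cases h5 : Et t r 1 ∨ Et t r u
  · rw [conj_eq_iff.mpr (h5.elim (c.comm_one · u) (c.comm_l · rfl)), mul_right_inj] at e0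
    exact mul_mem (k h2 h5) (k h3 (or_iff_not_imp_left.mpr fun n =>
      l.q8.of_comm c hx l.q8.am n l.q8.a1 (conj_eq_iff.mp e0)))
  rw [not_or] at h5
  rw [q.anti c hr l.bc.uQ h5.1 q.a1 h5.2] at e0
  have n : ¬ (Et t x 1 ∨ Et t x a) := fun e => by
    rw [conj_eq_iff.mpr (e.elim (c.comm_one · a) (c.comm_l · rfl)), c.mv] at e0
    exact c.ne_mul _ e0.symm
  rw [not_or] at n
  have m := mul_mem (k h2 (q.mul_cls c hr q.bm h5.1 h5.2 q.b1 fun e => q.ab (c.symm e)))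
    (k h3 (l.q8.mul_cls c hx l.q8.bm n.1 n.2 l.q8.b1 fun e => l.q8.ab (c.symm e)))
  refine H5.mem_of_eq (mul_mem m (inv_mem h4)) ?_
  rw [mul_assoc r, ← mul_assoc _ x, l.bc.QF q.bm hx]; group

theorem Fy_le (hs : s ∈ P) (sE : s ∉ Qk Δ u P ⊔ F) (s2 : s * s = t) (hg : τ ∈ T) (h : τ ∉ P)
    (τ2 : τ * τ = 1) (h1 : t ∈ K) (h2 : u * a ∈ K) (h3 : a ∈ K) (h4 : τ * b * τ⁻¹ * b ∈ K)
    (h5 : s ∈ K) (h6 : τ ∈ K) : T ⊓ Cen1 (u * a) ≤ K := by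
  have k1 : ∀ g ∈ P, g ∈ Cen1 (u * a) → g ∈ K := fun g hg' hc => by
    have k := fun e he hc => l.CE_le (e := e) hg h h1 (by simpa using mul_mem h2 (inv_mem h3)) h3 h4
      he (c1_iff.mp hc)
    by_cases m : g ∈ Qk Δ u P ⊔ F
    · exact k g m hc
    · simpa using mul_mem (k _ (l.idxE hg' hs m sE) (mul_mem hc (c1_iff.mpr (l.s_y hs sE s2))))
        (inv_mem h5)
  intro g hg'
  by_cases m : g ∈ P
  · exact k1 g m hg'.2
  · simpa using mul_mem (k1 _ (l.idx g hg'.1 τ hg m h)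
      (mul_mem hg'.2 (c1_iff.mpr (l.τ_y hg h (Et.of_eq τ2))))) (inv_mem h6)

theorem syl_y : Syl (T ⊓ Cen1 (u * a)) (Cen1 (u * a)) :=
  (l.syT.of_le (H := Ce l.c (u * a)) (fun _ hg => l.cen_y hg) le_top).inf_of_le_normalizer
    (fun _ hg => Ce_of_comm (c1_iff.mp hg)) fun g hg => mem_nor fun x hx => c1_iff.mpr
      (l.c.comm_r (l.c.symm (l.cen_y hg)) (conj_comm (c1_iff.mp hx) g))

theorem mem_Z : g ∈ zpowers t ⊔ zpowers (u * a) ↔ Et t g 1 ∨ Et t g (u * a) := by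
  rw [mem_sup_zp (mem_nor fun x hx => l.c.mem_zp.mpr
    (by simpa using l.c.econj (u * a) (l.c.mem_zp.mp hx))) (l.yi.1.2 ▸ one_mem _),
    l.c.mem_zp, l.c.mem_zp, l.c.et_iff' (b := u * a), l.yi.1.inv]

theorem s_τ (hs : s ∈ P) (sE : s ∉ Qk Δ u P ⊔ F) (s2 : s * s = t) (hg : τ ∈ T) (h : τ ∉ P)
    (τ2 : τ * τ = 1) : τ * s * τ⁻¹ * s⁻¹ ∈ zpowers t ⊔ zpowers (u * a) := by
  have c := l.c
  have m := l.idxE (conj_mem (l.nP hg) hs) (inv_mem hs) (fun m => sE (of_conj_mem (l.nE hg) m))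
    (by simpa)
  have e1 : τ * (τ * s * τ⁻¹ * s⁻¹) * τ⁻¹ = (τ * s * τ⁻¹ * s⁻¹)⁻¹ := by
    calc _ = τ * τ * s * (τ * τ)⁻¹ * (τ * s⁻¹ * τ⁻¹) := by group
      _ = _ := by rw [τ2]; group
  have e2 : s * (τ * s * τ⁻¹ * s⁻¹) * s⁻¹ = (τ * s * τ⁻¹ * s⁻¹)⁻¹ := by
    calc _ = s * (τ * s⁻¹ * τ⁻¹) * (τ * (s * s) * τ⁻¹ * (s * s)⁻¹) := by group
      _ = _ := by rw [s2, c.conj]; group
  generalize τ * s * τ⁻¹ * s⁻¹ = e at m e1 e2
  obtain ⟨x, hx, e3⟩ := l.D_cls hg h m (e1 ▸ l.selfE m)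
  have e4 := c.trans (c.symm (c.econj s e3)) (c.trans (e2 ▸ l.selfE m) e3)
  have mx := l.swF τ hg h x hx
  rw [conj_mul'] at e4
  rw [l.mem_Z]
  rcases l.fixF hs sE hx (l.split (conj_mem (l.bc.norQ hs) mx) (conj_mem (l.bc.norF hs) hx) mx hx
    e4).2 with e5 | e5
  · exact Or.inl (c.trans e3 (by simpa using c.mul (c.econj τ e5) e5))
  · exact Or.inr (c.trans e3 (c.trans (c.mul (c.econj τ e5) e5) (l.Y_a hg h)))

end Sw

/-- the data for the centralizer of `u a` -/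
structure Cy (t u : X) (T P F : Subgroup X) (a b k : X) (α : Δ) (s τ : X) {Γ : Type u} [Group Γ]
    (f : Cen1 (u * a) →* Γ) : Prop extends Fn t u T P F a b k α where
  sP : s ∈ P
  sE : s ∉ Qk Δ u P ⊔ F
  s2 : s * s = t
  τT : τ ∈ T
  τP : τ ∉ P
  τ2 : τ * τ = 1
  surj : Function.Surjective f
  ker : f.ker = (Od (Cen1 (u * a)) ⊔ (zpowers t ⊔ zpowers (u * a))).subgroupOf (Cen1 (u * a))

namespace Cy

variable {Γ : Type u} [Group Γ] [Finite Γ] {f : Cen1 (u * a) →* Γ}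
  (l : Cy t u T P F a b k α s τ f)
include l

theorem sw : Sw t u T P F a b k α := l.toSw

theorem c : Ci t := l.sw.c

theorem tF : t ∈ T ⊓ Cen1 (u * a) := ⟨l.sw.ET l.sw.tE, l.c.t_cen _⟩

theorem yF : u * a ∈ T ⊓ Cen1 (u * a) := ⟨l.sw.ET l.sw.yE, c1_iff.mpr rfl⟩

theorem aF : a ∈ T ⊓ Cen1 (u * a) := ⟨l.PT (l.le l.q8.am), c1_iff.mpr l.sw.a_y⟩

theorem sF : s ∈ T ⊓ Cen1 (u * a) := ⟨l.PT l.sP, c1_iff.mpr (l.sw.s_y l.sP l.sE l.s2)⟩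

theorem τF : τ ∈ T ⊓ Cen1 (u * a) := ⟨l.τT, c1_iff.mpr (l.sw.τ_y l.τT l.τP (Et.of_eq l.τ2))⟩

theorem bF : τ * b * τ⁻¹ * b ∈ T ⊓ Cen1 (u * a) :=
  ⟨l.sw.ET (l.sw.Y_mem l.τT l.τP l.q8.bm), c1_iff.mpr (l.sw.Y_y l.τT l.τP l.q8.bm)⟩

theorem Z_le : zpowers t ⊔ zpowers (u * a) ≤ T ⊓ Cen1 (u * a) :=
  sup_le (zpowers_le.mpr l.tF) (zpowers_le.mpr l.yF)

theorem Z_cen (hg : g ∈ Cen1 (u * a)) (hz : z ∈ zpowers t ⊔ zpowers (u * a)) : g * z = z * g :=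
  (l.sw.mem_Z.mp hz).elim (fun e => (l.c.comm_one e g).symm) fun e => l.c.comm_r e (c1_iff.mp hg)

theorem one_iff (hg : g ∈ T ⊓ Cen1 (u * a)) : ph f g = 1 ↔ g ∈ zpowers t ⊔ zpowers (u * a) := by
  rw [ph_ker l.ker hg.2]
  refine ⟨fun h => ?_, fun h => mem_sup_right h⟩
  obtain ⟨o, ho, z, hz, rfl⟩ := (H5.mem_sup_left_iff ((l.Z_le.trans inf_le_right).trans
    (le_nor_Od _))).mp h
  rwa [two_odd l.sw.twoT (odd_Od _) (by simpa using T.mul_mem hg.1 (T.inv_mem (l.Z_le hz).1)) ho,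
    one_mul]

theorem eq_iff (hg : g ∈ T ⊓ Cen1 (u * a)) (hh : h ∈ T ⊓ Cen1 (u * a)) :
    ph f g = ph f h ↔ g * h⁻¹ ∈ zpowers t ⊔ zpowers (u * a) := by
  rw [← l.one_iff (mul_mem hg (inv_mem hh)), ph_mul hg.2 (inv_mem hh).2, ph_inv hh.2, mul_inv_eq_one]

theorem comm_iff (hg : g ∈ T ⊓ Cen1 (u * a)) (hh : h ∈ T ⊓ Cen1 (u * a)) :
    ph f g * ph f h = ph f h * ph f g ↔ Et t (g * h * g⁻¹) h ∨ Et t (g * h * g⁻¹) (u * a * h) := by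
  rw [← conj_eq_iff, ← ph_conj hg.2 hh.2, l.eq_iff (cmem hg hh) hh, l.sw.mem_Z, ← l.c.et_iff']
  exact or_congr_right ⟨fun e => by simpa using l.c.mul e (Et.refl t h), fun e => by
    simpa using l.c.mul e (Et.refl t h⁻¹)⟩

theorem comm (hg : g ∈ T ⊓ Cen1 (u * a)) (hh : h ∈ T ⊓ Cen1 (u * a)) :
    ph f g * ph f h = ph f h * ph f g := by
  have c := l.c
  have w := l.sw
  have z1 : ph f t = 1 := (l.one_iff l.tF).mpr (mem_sup_left (mem_zpowers _))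
  have z2 : ph f (u * a) = 1 := (l.one_iff l.yF).mpr (mem_sup_right (mem_zpowers _))
  have key : ∀ h, ph f a * ph f h = ph f h * ph f a →
      ph f (τ * b * τ⁻¹ * b) * ph f h = ph f h * ph f (τ * b * τ⁻¹ * b) →
      ph f s * ph f h = ph f h * ph f s → ph f τ * ph f h = ph f h * ph f τ →
      ∀ g ∈ T ⊓ Cen1 (u * a), ph f g * ph f h = ph f h * ph f g := fun h h1 h2 h3 h4 g hg =>
    c1_iff.mp (mem_pre.mp (w.Fy_le (K := H5.pre f (Cen1 (ph f h))) l.sP l.sE l.s2 l.τT l.τP l.τ2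
      (mem_pre.mpr ⟨l.tF.2, z1 ▸ one_mem _⟩) (mem_pre.mpr ⟨l.yF.2, z2 ▸ one_mem _⟩)
      (mem_pre.mpr ⟨l.aF.2, c1_iff.mpr h1⟩) (mem_pre.mpr ⟨l.bF.2, c1_iff.mpr h2⟩)
      (mem_pre.mpr ⟨l.sF.2, c1_iff.mpr h3⟩) (mem_pre.mpr ⟨l.τF.2, c1_iff.mpr h4⟩) hg)).2
  have ab := (l.comm_iff l.aF l.bF).mpr (Or.inl (w.ecE (mem_sup_right l.q8.am)
    (w.Y_mem l.τT l.τP l.q8.bm)))
  have sa := (l.comm_iff l.sF l.aF).mpr (Or.inl (l.fixa s l.sP))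
  have τa := (l.comm_iff l.τF l.aF).mpr (Or.inr (c.trans (w.ua l.τT l.τP) (by
    rw [mul_assoc, l.q8.aa c]; exact c.symm (et_t _ _))))
  have sb := (l.comm_iff l.sF l.bF).mpr (Or.inr (by
    rw [conj_mul']
    refine c.trans (c.mul (w.mvb' l.τT l.τP l.sP l.sE) (w.mvb l.sP l.sE)) (Et.of_eq ?_)
    rw [mul_assoc u, ← mul_assoc _ a, w.bc.QF (l.swF τ l.τT l.τP b l.q8.bm) l.q8.am]; group))
  have τb := (l.comm_iff l.τF l.bF).mpr (Or.inl (Et.of_eq (conj_eq_iff.mpr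
    (w.Y_cen l.τT l.τP (Et.of_eq l.τ2) l.q8.bm).symm)))
  have τs : ph f τ * ph f s = ph f s * ph f τ := by
    rw [← conj_eq_iff, ← ph_conj l.τF.2 l.sF.2, l.eq_iff (cmem l.τF l.sF) l.sF]
    exact w.s_τ l.sP l.sE l.s2 l.τT l.τP l.τ2
  exact key h (key a rfl ab.symm sa τa h hh).symm (key _ ab rfl sb τb h hh).symm
    (key s sa.symm sb.symm rfl τs h hh).symm (key τ τa.symm τb.symm τs.symm rfl h hh).symm g hg

theorem eps (hg : g ∈ T ⊓ Cen1 (u * a)) (hh : h ∈ T ⊓ Cen1 (u * a)) (n : g ∉ Ce l.c h) :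
    Et t (g * h * g⁻¹) (u * a * h) := ((l.comm_iff hg hh).mp (l.comm hg hh)).resolve_left n

theorem Ce_of_eq (hg : g ∈ T ⊓ Cen1 (u * a)) (hh : h ∈ T ⊓ Cen1 (u * a)) (hx : x ∈ Cen1 (u * a))
    (e : ph f g = ph f h) (m : h ∈ Ce l.c x) : g ∈ Ce l.c x := by
  simpa using mul_mem (Ce_of_comm (l.Z_cen hx ((l.eq_iff hg hh).mp e)).symm) m

theorem sq4 (hg : g ∈ T ⊓ Cen1 (u * a)) (h : g * g = t) : Inv (ph f g) :=
  ⟨fun e => l.c.t1 (by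
    rw [← h]
    exact (l.sw.mem_Z.mp ((l.one_iff hg).mp e)).elim l.c.sq_one fun e =>
      (l.c.sq_et e).trans l.sw.yi.1.2),
  by rw [← ph_mul hg.2 hg.2, h, l.one_iff l.tF]; exact mem_sup_left (mem_zpowers _)⟩

theorem ia : Inv (ph f a) := l.sq4 l.aF (l.q8.aa l.c)

theorem is : Inv (ph f s) := l.sq4 l.sF l.s2

theorem as2 : a * s * (a * s) = t :=
  (l.sw.s_inv l.sP l.sE l.s2 (mem_sup_right l.q8.am) (l.q8.aa l.c) (l.fixa s l.sP)).2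

/-- the strongly closed four-group -/
noncomputable def V : Subgroup Γ := H4.four (ph f a) (ph f s) l.ia.2 l.is.2 (l.comm l.aF l.sF)

theorem aV : ph f a ∈ l.V := left_mem_four _ _ _

theorem sV : ph f s ∈ l.V := right_mem_four _ _ _

theorem perp (hx : x ∈ T ⊓ Cen1 (u * a)) (h1 : a ∈ Ce l.c x) (h2 : s ∈ Ce l.c x) : ph f x ∈ l.V := by
  have c := l.c
  have xP : x ∈ P := by
    by_contra n
    exact l.sw.not_au' (c.trans (c.symm (c.Ce_symm h1)) (l.sw.ua hx.1 n))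
  have tK : t ∈ H5.pre f l.V := mem_pre.mpr ⟨l.tF.2, by
    rw [(l.one_iff l.tF).mpr (mem_sup_left (mem_zpowers _))]; exact one_mem _⟩
  have aK : a ∈ H5.pre f l.V := mem_pre.mpr ⟨l.aF.2, l.aV⟩
  have uK : u ∈ H5.pre f l.V := by
    simpa using mul_mem (mem_pre.mpr ⟨l.yF.2, by
      rw [(l.one_iff l.yF).mpr (mem_sup_right (mem_zpowers _))]; exact one_mem l.V⟩) (inv_mem aK)
  have k : ∀ e ∈ Qk Δ u P ⊔ F, s ∈ Ce c e → e ∈ H5.pre f l.V := fun e he h => by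
    obtain ⟨r, hr, z, hz, rfl⟩ := l.sw.bc.memE.mp he
    obtain ⟨h3, h4⟩ := l.sw.split (conj_mem (l.sw.bc.norQ l.sP) hr) (conj_mem (l.sw.bc.norF l.sP) hz)
      hr hz (conj_mul' s r z ▸ h)
    exact mul_mem ((l.sw.fixQ l.sP l.sE hr h3).elim (c.mem_of tK · (one_mem _)) (c.mem_of tK · uK))
      ((l.sw.fixF l.sP l.sE hz h4).elim (c.mem_of tK · (one_mem _)) (c.mem_of tK · aK))
  refine (mem_pre.mp ?_).2
  by_cases m : x ∈ Qk Δ u P ⊔ F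
  · exact k x m h2
  · simpa using mul_mem (k _ (l.sw.idxE xP l.sP m l.sE) (c.Ce_symm (mul_mem (c.Ce_symm h2)
      (Ce_of_comm rfl)))) (inv_mem (mem_pre.mpr ⟨l.sF.2, l.sV⟩))

theorem four_V (hx : x ∈ T ⊓ Cen1 (u * a)) (h : x * x = t) : ph f x ∈ l.V := by
  have c := l.c
  have xP : x ∈ P := by
    by_contra n
    exact c.t1 (h.symm.trans (l.sq x hx.1 n (h ▸ c.t_et)))
  refine l.perp hx (c.Ce_symm (l.fixa x xP)) ?_
  by_cases m : x ∈ Qk Δ u P ⊔ F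
  · have e := c1_iff.mp hx.2
    obtain ⟨y, q⟩ := l.sw.exQ
    rcases l.sw.bc.fourE m h with m | m
    · rw [← mul_assoc, mul_assoc u, ← l.sw.bc.QF m l.q8.am, ← mul_assoc, mul_left_inj] at e
      exact c.Ce_symm (c.mem_of (c.t_Ce s) (q.of_comm c m l.sw.bc.uQ (c.not4 h) q.a1 e)
        (c.Ce_symm (l.sw.bc.act l.sP)))
    · rw [← mul_assoc, l.sw.bc.Fu m, mul_assoc, mul_assoc, mul_right_inj] at e
      exact c.Ce_symm (c.mem_of (c.t_Ce s) (l.q8.of_comm c m l.q8.am (c.not4 h) l.q8.a1 e)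
        (c.Ce_symm (l.fixa s l.sP)))
  · have m' := l.sw.idxE xP (inv_mem l.sP) m (by simpa using l.sE)
    have e : s * (x * s⁻¹) * s⁻¹ = (x * s⁻¹)⁻¹ := by
      calc _ = s * x⁻¹ * (x * x) * (s * s)⁻¹ := by group
        _ = _ := by rw [h, l.s2]; group
    have := c.Ce_symm (mul_mem (c.Ce_symm (g := s) (mem_Ce.mpr (e ▸ l.sw.selfE m')))
      (Ce_of_comm rfl))
    rwa [inv_mul_cancel_right] at this

theorem ph_n (hn : n ∈ Cen1 (u * a)) (hx : x ∈ T ⊓ Cen1 (u * a)) :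
    ph f n * ph f x = ph f x * ph f n ↔ ph f (n * x * n⁻¹) = ph f x := by
  rw [ph_conj hn hx.2, conj_eq_iff]

theorem nor_V (hn : n ∈ Cen1 (u * a)) (h : n ∈ Nor (T ⊓ Cen1 (u * a))) : ph f n ∈ Nor l.V := by
  have k : ∀ x ∈ T ⊓ Cen1 (u * a), x * x = t → ph f n * ph f x * (ph f n)⁻¹ ∈ l.V := fun x hx e =>
    ph_conj (f := f) hn hx.2 ▸ l.four_V (conj_mem h hx) (l.c.sq4 e n)
  refine mem_nor ?_
  rintro _ (rfl | rfl | rfl | rfl)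
  · simp
  · exact k a l.aF (l.q8.aa l.c)
  · exact k s l.sF l.s2
  · exact conj_mul' (ph f n) _ _ ▸ mul_mem (k a l.aF (l.q8.aa l.c)) (k s l.sF l.s2)

theorem cen_of_V (hn : n ∈ Cen1 (u * a)) (h : n ∈ Nor (T ⊓ Cen1 (u * a))) (ho : Odd (orderOf n))
    (hV : ∀ v ∈ l.V, ph f n * v = v * ph f n) (hx : x ∈ T ⊓ Cen1 (u * a)) :
    ph f n * ph f x = ph f x * ph f n := by
  have c := l.c
  have x1 := conj_mem h hx
  have k : ∀ w ∈ T ⊓ Cen1 (u * a), ph f w ∈ l.V → w ∈ Ce c (x⁻¹ * (n * x * n⁻¹)) := fun w hw m => by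
    have e := (l.ph_n hn hw).mp (hV _ m)
    by_cases h1 : w ∈ Ce c x
    · exact c.Ce_symm (mul_mem (inv_mem (c.Ce_symm h1)) (c.Ce_symm (l.Ce_of_eq hw (conj_mem h hw)
        x1.2 e.symm (c.Ce_conj (Et.refl _ _) h1))))
    have h2 : w ∉ Ce c (n * x * n⁻¹) := fun h2 => h1 (by
      simpa [mul_assoc] using c.Ce_conj (g := n⁻¹) (y := x) (Et.of_eq (by group))
        (l.Ce_of_eq (conj_mem h hw) hw x1.2 e h2))
    have := c.mul (c.einv (l.eps hw hx h1)) (l.eps hw x1 h2)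
    exact mem_Ce.mpr (by convert this using 1 <;> group)
  have m := l.perp (mul_mem (inv_mem hx) x1) (k a l.aF l.aV) (k s l.sF l.sV)
  rw [ph_mul (inv_mem hx).2 x1.2, ph_inv hx.2, ph_conj hn hx.2] at m
  exact cen_of_stable (ph_odd hn ho) (hV _ m) (P2.of_mem (isPGroup_four _ _ _) m)

theorem fpf_odd (hn : n ∈ Cen1 (u * a)) (h : n ∈ Nor (T ⊓ Cen1 (u * a))) (ho : Odd (orderOf n))
    (hx : x ∈ T ⊓ Cen1 (u * a)) (x1 : ph f x ≠ 1) (e : ph f n * ph f x = ph f x * ph f n)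
    (hy : y ∈ T ⊓ Cen1 (u * a)) : ph f n * ph f y = ph f y * ph f n := by
  have c := l.c
  have k : ∀ v ∈ l.V, v ≠ 1 → ph f n * v = v * ph f n → ph f n * ph f y = ph f y * ph f n :=
    fun v hv v1 e => l.cen_of_V hn h ho (fun _ => four_odd (ph_odd hn ho) (l.nor_V hn h) hv v1 e) hy
  by_cases m : ph f x ∈ l.V
  · exact k _ m x1 e
  obtain ⟨w, hw, w2, wx⟩ : ∃ w ∈ T ⊓ Cen1 (u * a), w * w = t ∧ w ∈ Ce c x := by
    by_cases h1 : a ∈ Ce c x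
    · exact ⟨a, l.aF, l.q8.aa c, h1⟩
    by_cases h2 : s ∈ Ce c x
    · exact ⟨s, l.sF, l.s2, h2⟩
    refine ⟨_, mul_mem l.aF l.sF, l.as2, mem_Ce.mpr ?_⟩
    have e1 := c.econj a (l.eps l.sF hx h2)
    rw [conj_mul' a (u * a), conj_eq_iff.mpr l.sw.a_y] at e1
    have e2 := c.trans e1 (c.mul (Et.refl _ _) (l.eps l.aF hx h1))
    rw [← mul_assoc (u * a), l.sw.yi.1.2, one_mul] at e2
    convert e2 using 1; group
  refine k _ (l.four_V hw w2) (l.sq4 hw w2).1 ((l.ph_n hn hw).mpr ?_)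
  by_contra ne
  have w' := conj_mem h hw
  have wx' : n * w * n⁻¹ ∈ Ce c x := c.Ce_symm (l.Ce_of_eq hx (conj_mem h hx) w'.2
    ((l.ph_n hn hx).mp e).symm (c.Ce_symm (c.Ce_conj (Et.refl _ _) wx)))
  have le := four_gen (K := H5.im f (T ⊓ Cen1 (u * a) ⊓ Ce c x)) (l.four_V w' (c.sq4 w2 n))
    (l.four_V hw w2) (l.sq4 w' (c.sq4 w2 n)).1 (l.sq4 hw w2).1 ne (ph_mem_im ⟨w', wx'⟩ w'.2)
    (ph_mem_im ⟨hw, wx⟩ hw.2)
  have j : ∀ g ∈ T ⊓ Cen1 (u * a), ph f g ∈ l.V → g ∈ Ce c x := fun g hg m => by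
    obtain ⟨g', h1, -, h2⟩ := mem_im.mp (le m)
    exact l.Ce_of_eq hg h1.1 hx.2 h2.symm h1.2
  exact m (l.perp hx (j a l.aF l.aV) (j s l.sF l.sV))

theorem nor_sup : Cen1 (u * a) ≤ Nor (Od (Cen1 (u * a)) ⊔ T ⊓ Cen1 (u * a)) := by
  have c := l.c
  have sy := l.sw.syl_y
  have ZC := l.Z_le.trans inf_le_right
  have pi : H5.pre f (H5.im f (T ⊓ Cen1 (u * a))) = Od (Cen1 (u * a)) ⊔ T ⊓ Cen1 (u * a) := by
    rw [H5.pre_im l.ker (sup_le (Od_le _) ZC) inf_le_right, sup_comm, sup_assoc,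
      sup_eq_right.mpr l.Z_le]
  have lift : ∀ m ∈ Nor (H5.im f (T ⊓ Cen1 (u * a))), ∃ n ∈ Cen1 (u * a),
      n ∈ Nor (T ⊓ Cen1 (u * a)) ∧ ph f n = m := fun m hm => by
    obtain ⟨g, hg, rfl⟩ := ph_surj l.surj m
    obtain ⟨j, hj, h⟩ := (sy.of_le le_sup_right (sup_le (Od_le _) inf_le_right)).frattini
      (pi ▸ nor_pre hg hm)
    obtain ⟨o, ho, p, hp, rfl⟩ := (H5.mem_sup_left_iff (inf_le_right.trans (le_nor_Od _))).mp hj
    refine ⟨o⁻¹ * g, mul_mem (inv_mem (Od_le _ ho)) hg, H5.mem_of_eq (mul_mem (le_normalizer hp) h)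
      (by group), ?_⟩
    rw [ph_mul (inv_mem (Od_le _ ho)) hg, (ph_ker l.ker (inv_mem (Od_le _ ho))).mpr
      (mem_sup_left (inv_mem ho)), one_mul]
  have iτ : Inv (ph f τ) := ⟨fun e => l.τP (l.sw.bc.E_le ((sup_le (zpowers_le.mpr l.sw.tE)
    (zpowers_le.mpr l.sw.yE) : _ ≤ Qk Δ u P ⊔ F) ((l.one_iff l.τF).mp e))), by
      rw [← ph_mul l.τF.2 l.τF.2, l.τ2, ph_one]⟩
  have τV : ph f τ ∉ l.V := fun m => by
    have : l.V ≤ H5.im f (P ⊓ Cen1 (u * a)) := H4.four_le _ _ _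
      (ph_mem_im ⟨l.le l.q8.am, l.aF.2⟩ l.aF.2) (ph_mem_im ⟨l.sP, l.sF.2⟩ l.sF.2)
    obtain ⟨p, hp, -, e⟩ := mem_im.mp (this m)
    exact l.τP (by simpa using mul_mem (inv_mem (l.sw.bc.E_le ((sup_le (zpowers_le.mpr l.sw.tE)
      (zpowers_le.mpr l.sw.yE) : _ ≤ Qk Δ u P ⊔ F) ((l.eq_iff ⟨l.PT hp.1, hp.2⟩ l.τF).mp e)))) hp.1)
  have m : ∀ {g}, g ∈ T ⊓ Cen1 (u * a) → ph f g ∈ H5.im f (T ⊓ Cen1 (u * a)) := fun h =>
    ph_mem_im h h.2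
  have as : ph f a ≠ ph f s := fun e => l.sE (by
    simpa using mul_mem (inv_mem ((sup_le (zpowers_le.mpr l.sw.tE) (zpowers_le.mpr l.sw.yE) :
      _ ≤ Qk Δ u P ⊔ F) ((l.eq_iff l.aF l.sF).mp e))) (mem_sup_right l.q8.am))
  have := ab0 (S := H5.im f (T ⊓ Cen1 (u * a))) ⟨H5.im_self l.surj ▸ sy.im le_rfl, ⟨⟨?_⟩⟩⟩
    (Od_bot2 l.surj l.ker (l.sw.twoT.to_inf_left.to_le l.Z_le) ZC
      fun g hg => cen_iff.mpr fun z hz => l.Z_cen hg hz)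
    ⟨_, H5.Dich.e3_adjoin (elem_four _ _ _) (le_card_four _ _ _ l.ia.1 l.is.1 as) iτ.2
      (H4.four_le _ _ _ (c1_iff.mpr (l.comm l.aF l.τF)) (c1_iff.mpr (l.comm l.sF l.τF))) τV
      (H4.four_le _ _ _ (m l.aF) (m l.sF)) (m l.τF)⟩ ?_
    ⟨_, m l.aF, _, m l.τF, l.ia, iτ, fun n hn e => ?_⟩
  · exact pi ▸ H5.le_normalizer_pre le_rfl (le_top.trans this)
  · rintro ⟨x, hx⟩ ⟨y, hy⟩
    obtain ⟨x, h1, -, rfl⟩ := mem_im.mp hx
    obtain ⟨y, h2, -, rfl⟩ := mem_im.mp hy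
    exact Subtype.ext (l.comm h1 h2)
  · intro n hn x hx x1 e
    obtain ⟨n, h1, h2, rfl⟩ := lift n hn
    obtain ⟨x, hx', -, rfl⟩ := mem_im.mp hx
    obtain ⟨n2, m2, n', m', e', p2, ho⟩ := parts n
    have k1 := zpowers_le.mpr h1 m'
    have k2 := mem_of_syl sy (zpowers_le.mpr h1 m2) p2 (zpowers_le.mpr h2 m2)
    refine cen_iff.mpr fun y hy => ?_
    obtain ⟨y, hy', -, rfl⟩ := mem_im.mp hy
    have := l.fpf_odd k1 (zpowers_le.mpr h2 m') ho hx' x1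
      (c1_iff.mp (zpowers_le.mpr (c1_iff.mpr e) (ph_zp h1 m'))) hy'
    rw [e', ph_mul k2.2 k1, mul_assoc, this, ← mul_assoc, l.comm k2 hy', mul_assoc]
  · obtain ⟨n, h1, h2, rfl⟩ := lift n hn
    exact τV (e ▸ conj_mem (l.nor_V h1 h2) l.aV)

end Cy

theorem Fn.nor_sup (l : Fn t u T P F a b k α) :
    Cen1 (u * a) ≤ Nor (Od (Cen1 (u * a)) ⊔ T ⊓ Cen1 (u * a)) := by
  obtain ⟨s, h1, h2, h3⟩ := l.exS
  obtain ⟨τ, h4, h5, h6⟩ := l.ex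
  obtain ⟨Γ, _, _, f, hf, hk⟩ := H5.exists_hom_ker_eq (L := Cen1 (u * a))
    (M := Od (Cen1 (u * a)) ⊔ (zpowers t ⊔ zpowers (u * a))) (H4.le_normalizer_sup (le_nor_Od _)
      fun g hg => mem_nor fun z hz => by
        rcases l.toSw.mem_Z.mp hz with e | e
        · rwa [conj_eq_iff.mpr (l.toSw.c.comm_one e g).symm]
        · rwa [conj_eq_iff.mpr (l.toSw.c.comm_r e (c1_iff.mp hg))])
  exact Cy.nor_sup ⟨l, h1, h2, h3, h4, h5, h6, hf, hk⟩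

end GC
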