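import Cfsg.Agent.GC.L

/-! Balance in the final configuration. -/

set_option autoImplicit false
set_option linter.unusedSectionVars false

namespace GC

open Cfsg Subgroup FT H4 BS SF
open H5.Dich (E3 R3 NF th)
open H8.Sq (P2 p2_of_sq)
open scoped commutatorElement

universe u

variable {X : Type u} [Group X] [Finite X] {Δ : Type u} [MulAction X Δ] [Finite Δ]
  {t u a b d e g h k n p r s v w x y z σ τ : X} {α β : Δ} {F K L M P T R Z : Subgroup X}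

theorem lift_odd_elt {Y : Type*} [Group Y] [Finite Y] (π : X →* Y) (ho : Odd (orderOf (π g))) :
    ∃ y ∈ zpowers g, Odd (orderOf y) ∧ π y = π g := by
  obtain ⟨a, ha, b, hb, e, h1, h2⟩ := parts g
  refine ⟨b, hb, h2, ?_⟩
  have : π a = 1 := (h1.map π).eq_one (by
    obtain ⟨n, rfl⟩ := ha
    exact ho.of_dvd_nat (orderOf_dvd_of_mem_zpowers ⟨n, (map_zpow π g n).symm⟩))
  rw [e, map_mul, this, one_mul]

theorem odd_mem_Od (hP : Syl P K) (e : P = zpowers r) (hg : g ∈ K) (ho : Odd (orderOf g)) :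
    g ∈ Od K := Od_eq K ▸ (H8.Sq.npc_cyc hP e).mem_of_coprime hg (Nat.coprime_two_right.mpr ho)

theorem th_eq (a : X) : th a = Od (Cen1 a) := (Od_eq _).symm

theorem th_conj (g a : X) : th (g * a * g⁻¹) = conjS g (th a) := H5.SS.core_conj 2 g a

theorem nor_th (h : g * a = a * g) : g ∈ Nor (th a) := th_eq a ▸ le_nor_Od _ (c1_iff.mpr h)

theorem bal_conj (h : th (g * a * g⁻¹) ⊓ Cen1 (g * b * g⁻¹) ≤ th (g * b * g⁻¹)) :
    th a ⊓ Cen1 b ≤ th b := by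
  rwa [th_conj, th_conj, ← conjS_cen1, ← conjS_inf, conjS_le_conjS_iff] at h

theorem fix_of_two {S : Set Δ} (hS : S.ncard ≤ 2) (ho : Odd (orderOf g)) (h : ∀ x ∈ S, g • x ∈ S)
    (hα : α ∈ S) : g • α = α := by
  by_contra n
  refine n (SF.mem_of_sq_mem (N := St X α) ho ?_)
  by_contra n'
  have : ({α, g • α, g • g • α} : Set Δ).ncard ≤ 2 := (Set.ncard_le_ncard (by
    rintro _ (rfl | rfl | rfl)
    exacts [hα, h _ hα, h _ (h _ hα)])).trans hS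
  rw [Set.ncard_eq_three.mpr ⟨_, _, _, Ne.symm n, fun e => n' (by rw [mem_St, mul_smul, ← e]),
    fun e => n (smul_left_cancel g e).symm, rfl⟩] at this
  omega

namespace Qt

variable {Y : Type u} [Group Y] [Finite Y] [MulAction Y Δ] {π : X →* Y} (q : Qt Δ t π)
include q

theorem lift (c : Ci t) {U : Subgroup Y} (ho : Odd (Nat.card U)) : ∃ Z : Subgroup X,
    Odd (Nat.card Z) ∧ (∀ y ∈ U, ∃ z ∈ Z, π z = y) ∧ (∀ z ∈ Z, π z ∈ U) ∧
      ∀ g, π g ∈ Nor U → g ∈ Nor Z := by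
  refine ⟨Od (U.comap π), odd_Od _, fun y hy => ?_, fun z hz => Od_le (U.comap π) hz, fun g hg =>
    nor_Od _ (mem_nor fun x hx => ?_)⟩
  · obtain ⟨g, rfl⟩ := q.surj y
    obtain ⟨z, -, h1, h2⟩ := lift_odd_elt π (odd_orderOf_of_mem ho hy)
    refine ⟨z, odd_mem_Od (H5.isSylowOf_of_maximal (zpowers_le.mpr ?_) (pgroup_zp c.tt)
      fun R r1 _ r3 r hr => c.mem_zp.mpr (q.one.mp ?_)) rfl (by rwa [mem_comap, h2]) h1, h2⟩
    · rw [mem_comap, q.one.mpr c.t_et]; exact one_mem _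
    · exact ((P2.of_mem r1 hr).map π).eq_one (odd_orderOf_of_mem ho (r3 hr))
  · simpa using conj_mem hg hx

theorem mem_cen {c : Ci t} : π g ∈ Cen1 (π x) ↔ g ∈ Ce c x := by
  rw [c1_iff, ← conj_eq_iff, q.conj, mem_Ce]

theorem card_lt (c : Ci t) : Nat.card Y < Nat.card X := by
  refine lt_of_le_of_ne (Nat.card_le_card_of_surjective π q.surj) fun e => c.t1 ?_
  exact ((Nat.bijective_iff_surjective_and_card π).mpr ⟨q.surj, e.symm⟩).1
    ((q.one.mpr c.t_et).trans (map_one π).symm)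

end Qt

namespace Fn

variable (l : Fn t u T P F a b k α)
include l

theorem sw : Sw t u T P F a b k α := l.toSw

theorem c : Ci t := l.sw.c

theorem cn : Cn T := fun d hd i => by
  have c := l.c
  have w := l.sw
  have tT := w.ET w.tE
  by_cases d1 : d = t
  · exact (r3_syl l.sc.r3 l.syT).mono (le_inf le_rfl fun g _ => d1 ▸ c.mem_cen g)
  refine (r3_iff (T := T ⊓ Cen1 d) c.inv ⟨tT, c.t_cen d⟩ fun g _ => c.mem_cen g).mpr ?_
  by_cases dP : d ∈ P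
  · obtain ⟨y, q⟩ := w.exQ
    obtain ⟨r, hr, x, hx, rfl⟩ := w.bc.memE.mp (l.inv d dP i.2)
    obtain ⟨h1, h2⟩ := w.bc.invE hr hx i.2 (c.not_one i d1)
    obtain ⟨r', hr', r1, h3⟩ := q.other c hr
    obtain ⟨x', hx', x1, h4⟩ := l.q8.other c hx
    have i' := w.bc.inv_mul hr' hx' (q.sq _ hr' r1) (l.q8.sq _ hx' x1)
    have e := c.comm_of_anti (q.anti c hr' hr r1 (c.not4 h1) h3) (l.q8.anti c hx' hx x1 (c.not4 h2) h4)
      (w.bc.QF hr hx') (w.bc.QF hr' hx) (w.bc.QF hr' hx') (w.bc.QF hr hx)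
    have n : ¬ Et t (r' * x') (r * x) := fun e => h4 (w.split hr' hx' hr hx e).2
    exact ⟨_, ⟨w.ET (mul_mem (mem_sup_left hr') (mem_sup_right hx')), c1_iff.mpr e⟩, _,
      ⟨hd, c1_iff.mpr rfl⟩, i'.1, i, e, i'.2, d1, fun e => n (Or.inl e), fun e => n (Or.inr e)⟩
  · have e : Et t (d * d) 1 := Et.of_eq i.2
    have i1 := w.Y_inv hd dP l.q8.am l.q8.a1
    have i2 := w.Y_inv hd dP l.q8.bm l.q8.b1
    have n := fun e => l.q8.ab (w.Y_et hd dP l.q8.am l.q8.bm e)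
    exact ⟨_, ⟨w.ET (w.Y_mem hd dP l.q8.am), c1_iff.mpr (w.Y_cen hd dP e l.q8.am)⟩, _,
      ⟨w.ET (w.Y_mem hd dP l.q8.bm), c1_iff.mpr (w.Y_cen hd dP e l.q8.bm)⟩, i1.1, i2.1,
      w.Y_comm hd dP l.q8.am l.q8.bm, i1.2, i2.2, fun e => n (Or.inl e), fun e => n (Or.inr e)⟩

theorem Ce_nor (hg : g ∈ Ce l.c (u * a)) : g ∈ Nor (Cen1 (u * a)) := mem_nor fun x hx =>
  c1_iff.mpr (l.c.comm_r (l.c.symm hg) (conj_comm (c1_iff.mp hx) g))

variable {Y : Type u} [Group Y] [Finite Y] [MulAction Y Δ] {π : X →* Y} (q : Qt Δ t π)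
include q

theorem solv_y : Group.IsSolvable (Cen1 (π (u * a))) := by
  have c := l.c
  have h1 : Group.IsSolvable (Cen1 (u * a)) := W.solv_of_syl l.sw.syl_y
    (sup_le (Od_le _) inf_le_right) l.nor_sup le_sup_right (H5.isSolvable_sup
      (inf_le_right.trans (le_nor_Od _)) (odd_solvable (odd_Od _))
      (H5.isSolvable_of_isPGroup l.sw.twoT.to_inf_left))
  have e : b * (u * a) * b⁻¹ = u * a * t := by
    rw [conj_mul', conj_eq_iff.mpr (l.sw.bc.Fu l.q8.bm), l.q8.anti c l.q8.bm l.q8.am l.q8.b1 l.q8.a1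
      fun e => l.q8.ab (c.symm e), mul_assoc]
  refine H5.isSolvable_of_le (fun y hy => ?_) (H5.isSolvable_map π (H5.isSolvable_sup
    (A := zpowers b) (zpowers_le.mpr (l.Ce_nor (Or.inr e))) h1
    (H5.isSolvable_of_isPGroup (c.p4 (l.q8.bb c)).zp)))
  obtain ⟨g, rfl⟩ := q.surj y
  refine mem_map_of_mem π ?_
  rcases (q.mem_cen (c := c)).mp hy with h | h
  · exact mem_sup_left (c1_iff.mpr (conj_eq_iff.mp h))
  · have : b⁻¹ * g ∈ Cen1 (u * a) := c1_iff.mpr (conj_eq_iff.mp (by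
      calc _ = b⁻¹ * (g * (u * a) * g⁻¹) * b := by group
        _ = _ := by rw [h, ← e]; group))
    simpa using mul_mem (mem_sup_right (mem_zpowers b)) (mem_sup_left this)

theorem o1' {U : Subgroup Y} (ho : Odd (Nat.card U)) (h1 : U ≤ Cen1 (π u))
    (h2 : ∀ x ∈ F, π x ∈ Nor U) (hz : π z ∈ U) : z ∈ PS X (Fx Δ u) := by
  obtain ⟨Z, z1, z2, z3, z4⟩ := q.lift l.c ho
  obtain ⟨z', h3, e⟩ := z2 _ hz
  intro x hx
  rw [← l.sc.et_smul (q.eq.mp e)]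
  exact l.o1 Z (fun g hg => (l.c.nor4 l.sw.bc.hu).mpr ((q.mem_cen (c := l.c)).mp (h1 (z3 g hg))))
    z1 (fun x hx => z4 x (h2 x hx)) h3 x hx

theorem th_fix (hw : w * w = t) (hz : π z ∈ th (π w)) (hβ : w • β = β) : z • β = β := by
  obtain ⟨g, -, e⟩ := l.four w hw
  have e' := q.conj.mpr e
  have := l.o1' q (U := th (π u)) (th_eq (π u) ▸ odd_Od _) (H5.Dich.th_le _)
    (fun x hx => nor_th (q.comm.mpr (Et.of_eq (l.sw.bc.Fu hx)))) (z := g * z * g⁻¹) (by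
      rw [← e', th_conj, map_mul, map_mul, map_inv]; exact conj_mem_conjS hz) (g • β)
    ((l.sc.et_smul e _).symm.trans (conj_smul hβ))
  rwa [mul_smul, mul_smul, inv_smul_smul, smul_left_cancel_iff] at this

theorem bal_u (hp : p ∈ P) (i : Inv (π p)) : th (π p) ⊓ Cen1 (π u) ≤ th (π u) := by
  have c := l.c
  have hu := l.sw.bc.hu
  have ho : Odd (Nat.card ↥(th (π p) ⊓ Cen1 (π u))) := odd_of_le (th_eq (π p) ▸ odd_Od _) inf_le_left
  intro y hy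
  obtain ⟨z, rfl⟩ := q.surj y
  obtain ⟨z, -, zo, e⟩ := lift_odd_elt π (odd_orderOf_of_mem ho hy)
  rw [← e] at hy ⊢
  have zN : z ∈ Nor (zpowers u) := (c.nor4 hu).mpr ((q.mem_cen (c := c)).mp hy.2)
  have zP : z ∈ PS X (Fx Δ u) := by
    by_cases m : p ∈ Qk Δ u P ⊔ F
    · exact l.o1' q ho inf_le_right (fun x hx => mem_nor_inf (nor_th (q.comm.mpr
        (l.sw.ecomm (mem_sup_right hx) m))) (le_normalizer (c1_iff.mpr (q.comm.mpr
          (Et.of_eq (l.sw.bc.Fu hx)))))) hy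
    have p2 := l.sw.sq_s hp m (q.inv.mp i).2
    obtain ⟨β, h1, h2, h3⟩ := l.o3 p hp m (q.inv.mp i).2
    obtain ⟨j, hj⟩ := c.p4 p2
    have h4 := modEq_fix_elt hj (S := Fx Δ u) fun x hx => l.sc.Fx_nor hu (l.syl.le hp) hx
    have h5 : 1 < (Fx Δ u ∩ Fx Δ p).ncard := (Set.one_lt_ncard (Set.toFinite _)).mpr
      ⟨β, ⟨h1, h3⟩, α, ⟨l.st l.sw.bc.uP, l.st hp⟩, h2⟩
    have h6 := Set.ncard_inter_add_ncard_sdiff_eq_ncard (Fx Δ u) (Fx Δ p)
    rw [l.o2] at h4 h6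
    intro x hx
    by_cases n : x ∈ Fx Δ p
    · exact l.th_fix q p2 hy.1 n
    refine fix_of_two (S := Fx Δ u \ Fx Δ p) (by unfold Nat.ModEq at h4; omega) zo
      (fun x hx => ⟨l.sc.Fx_nor hu zN hx.1, fun m => hx.2 ?_⟩) ⟨hx, n⟩
    rwa [smul_left_cancel z (l.th_fix q p2 hy.1 m)] at m
  have nC : Nor (zpowers u) ≤ Nor (PS X (Fx Δ u) ⊓ Cen1 u) := fun g hg => mem_nor fun x hx =>
    ⟨fun y hy => by
      rw [mul_smul, mul_smul, hx.1 _ (l.sc.Fx_nor hu (inv_mem hg) hy), smul_inv_smul],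
    c1_iff.mpr (c.comm_r (c.symm ((c.nor4 hu).mp hg)) (conj_comm (c1_iff.mp hx.2) g))⟩
  have le : PS X (Fx Δ u) ⊓ Cen1 u ≤ Nor (zpowers u) := inf_le_right.trans (c.cen_nor4 hu)
  obtain ⟨r, hr⟩ := l.sw.bc.roQ.cyc c l.sw.bc.two.to_inf_left hu l.sw.bc.uQ
  have m := Od_le_Od le nC (odd_mem_Od (l.syl.inf_of_le_normalizer le (l.syl.le.trans nC))
    ((inf_assoc _ _ _).symm.trans hr) ⟨zP, c1_iff.mpr (c.odd_cen4 hu zN zo)⟩ zo)
  rw [th_eq]
  refine le_Od (N := (Od (Nor (zpowers u))).map π) ?_ (fun g hg => ?_) (odd_map' π (odd_Od _))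
    (mem_map_of_mem π m)
  · rintro _ ⟨g, hg, rfl⟩
    exact (q.mem_cen (c := c)).mpr ((c.nor4 hu).mp (Od_le _ hg))
  · obtain ⟨g, rfl⟩ := q.surj g
    exact nor_map π (le_nor_Od _ ((c.nor4 hu).mpr ((q.mem_cen (c := c)).mp hg)))

theorem balY : H5.Dich.Bal Y := fun x y xx yy x1 y1 hc => by
  have c := l.c
  obtain ⟨y, rfl⟩ := q.surj y
  rcases c.cases_sq (q.sq.mp yy) with e | e
  · have i := c.inv_of e fun e => y1 (q.one.mpr e)
    obtain ⟨g, -, h⟩ := l.pair y i.1 i.2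
    refine H5.SS.core_balance (H5.isPConstrained_of_isSolvable ?_) (pgroup_zp xx) (c1_iff.mpr hc)
    have := H5.isSolvable_map (MulAut.conj (π g)⁻¹).toMonoidHom (l.solv_y q)
    rw [← q.conj.mpr h, ← conjS_cen1] at this
    exact conjS_inv_conjS (π g) (Cen1 (π y)) ▸ this
  · obtain ⟨g, -, h⟩ := l.four y e
    refine bal_conj (g := π g) ?_
    have hc' := conj_comm hc (π g)
    have i : Inv (π g * x * (π g)⁻¹) := Inv.conj ⟨x1, xx⟩ _
    rw [q.conj.mpr h] at hc' ⊢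
    obtain ⟨x', e'⟩ := q.surj (π g * x * (π g)⁻¹)
    rw [← e'] at hc' i ⊢
    obtain ⟨n, hn, m⟩ := H8.Sq.conj_into l.syl ((c.nor4 l.sw.bc.hu).mpr
      ((q.mem_cen (c := c)).mp (c1_iff.mpr hc'))) (q.p2 c (p2_of_sq i.2))
    refine bal_conj (g := π n) ?_
    rw [q.conj.mpr ((c.nor4 l.sw.bc.hu).mp hn), ← map_inv, ← map_mul, ← map_mul]
    exact l.bal_u q m (by simpa using i.conj (π n))

theorem Od_y (ih : KUp.{u} (Nat.card X)) (h0 : Od (⊤ : Subgroup X) = ⊥) :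
    Od (Cen1 (u * a)) = ⊥ := by
  have c := l.c
  have w := l.sw
  have hS : Syl (T.map π) ⊤ := map_top_of_surjective π q.surj ▸ l.syT.map π
  have cm : ∀ {x y}, x ∈ Qk Δ u P ⊔ F → y ∈ Qk Δ u P ⊔ F → π x * π y = π y * π x := fun h1 h2 =>
    q.comm.mpr (w.ecomm h1 h2)
  have el : IsElementaryAbelian 2 ((Qk Δ u P ⊔ F).map π) := ⟨⟨⟨by
      rintro ⟨_, x, hx, rfl⟩ ⟨_, y, hy, rfl⟩
      exact Subtype.ext (cm hx hy)⟩⟩, by
    rintro _ ⟨x, hx, rfl⟩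
    exact (pow_two _).trans (q.sq.mpr (w.sqE hx))⟩
  have uE : u ∈ Qk Δ u P ⊔ F := mem_sup_left w.bc.uQ
  have aE : a ∈ Qk Δ u P ⊔ F := mem_sup_right l.q8.am
  have bE : b ∈ Qk Δ u P ⊔ F := mem_sup_right l.q8.bm
  have nu : ∀ x ∈ F, π u ≠ π x := fun x hx e =>
    c.not4 w.bc.hu (w.bc.FQ (c.mem_of l.q8.tm (q.eq.mp e) hx) w.bc.uQ)
  have e3 := H5.Dich.r3_of_three (q.sq.mpr (w.sqE aE)) (q.sq.mpr (w.sqE bE)) (q.sq.mpr (w.sqE uE))
    (cm aE bE) (cm aE uE) (cm bE uE) (fun e => l.q8.a1 (q.one.mp e)) (fun e => l.q8.b1 (q.one.mp e))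
    (fun e => l.q8.ab (q.eq.mp e)) (by simpa using nu 1 (one_mem _)) (nu a l.q8.am) (nu b l.q8.bm)
    (map_mul π a b ▸ nu _ (mul_mem l.q8.am l.q8.bm)) (mem_map_of_mem π aE) (mem_map_of_mem π bE)
    (mem_map_of_mem π uE)
  have := cor_bal (ih.mono (q.card_lt c)) (l.balY q) hS ⟨_, e3.mono (map_mono w.ET)⟩
    (cn_of_normal (map_mono w.ET) (by rintro _ ⟨g, hg, rfl⟩; exact nor_map π (w.nE hg)) el
      (e3.card.trans (card_le_of_le e3.le))) (q.Od_bot c h0)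
    (q.inv.mpr ⟨c.not_one w.yi.1 w.yi.2, Et.of_eq w.yi.1.2⟩)
  have le : (Od (Cen1 (u * a))).map π ≤ Od (Cen1 (π (u * a))) := le_Od (by
      rintro _ ⟨g, hg, rfl⟩
      exact (q.mem_cen (c := c)).mpr (Ce_of_comm (c1_iff.mp (Od_le _ hg))))
    (fun g hg => by
      obtain ⟨g, rfl⟩ := q.surj g
      exact nor_map π (nor_Od _ (l.Ce_nor (q.mem_cen.mp hg)))) (odd_map' π (odd_Od _))
  exact eq_bot_iff.mpr fun g hg => two_odd (pgroup_zp c.tt) (odd_Od _) (c.mem_zp.mpr (q.one.mp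
    (mem_bot.mp (this ▸ le (mem_map_of_mem π hg))))) hg

omit q

theorem ns (ih : KUp.{u} (Nat.card X)) (h0 : Od (⊤ : Subgroup X) = ⊥) (hd : Inv d) (d1 : d ≠ t) :
    Od (Cen1 d) = ⊥ ∧ ∃ R, Syl R (Cen1 d) ∧ Cen1 d ≤ Nor R := by
  obtain ⟨Y, _, _, _, π, q⟩ := l.sc.exists_qt
  have h1 := l.Od_y q ih h0
  have h2 := l.nor_sup
  rw [h1, bot_sup_eq] at h2
  obtain ⟨g, -, e⟩ := l.c.cm_symm (l.pair d hd d1)
  have e' : Cen1 d = conjS g (Cen1 (u * a)) := by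
    rw [conjS_cen1]
    exact le_antisymm (fun x hx => c1_iff.mpr (l.c.comm_r e (c1_iff.mp hx)))
      fun x hx => c1_iff.mpr (l.c.comm_r (l.c.symm e) (c1_iff.mp hx))
  rw [e']
  refine ⟨?_, _, syl_conj' l.sw.syl_y g, (conjS_mono g h2).trans (conjS_nor g _).le⟩
  rw [conjS_cen1, ← th_eq, th_conj, th_eq, h1, conjS, Subgroup.map_bot]

theorem tb (ih : KUp.{u} (Nat.card X)) (h0 : Od (⊤ : Subgroup X) = ⊥) : TB t := by
  have c := l.c
  have con : ∀ T : Subgroup X, Syl T ⊤ → Cn T := fun T hT => l.cn.syl l.syT hT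
  refine ⟨fun d d' h1 h2 h3 h4 => ?_, fun d hd d1 Z ho hn => ?_, con⟩
  · obtain ⟨g, -, e⟩ := c.cm_trans (l.pair d h1 h2) (c.cm_symm (l.pair d' h3 h4))
    exact ⟨g, e⟩
  obtain ⟨S, hS, h1⟩ := H5.exists_isSylowOf_ge (pgroup_zp hd.2) le_top
  obtain ⟨x, hx, y, hy, ix, iy, e, h2, h3, h4, h5⟩ := (r3_iff (T := S ⊓ Cen1 d) c.inv
    ⟨l.sc.t_mem hS (mem_top t), c.t_cen d⟩ fun g _ => c.mem_cen g).mp (con S hS d (h1 (mem_zpowers d)) hd)
  have key : ∀ v ∈ Cen1 d, Inv v → v ≠ t → Z ⊓ Cen1 v ≤ Cen1 d := fun v hv i v1 z hz => by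
    obtain ⟨-, R, r1, r2⟩ := l.ns ih h0 i v1
    have m := mem_cen1_comm.mp hv
    exact c1_iff.mpr (comm_of_nor r1.isPGroup ho (mem_of_syl r1 m (p2_of_sq hd.2) (r2 m)) hz.1
      (hn (c1_iff.mpr rfl)) (r2 hz.2)).symm
  have := BS.le_of_four ix iy h4 e ho (hn hx.2) (hn hy.2) (key x hx.2 ix h2) (key y hy.2 iy h3)
    (key _ (mul_mem hx.2 hy.2) (ix.mul iy h4 e) fun e' => h5 (by
      rw [← e', ← mul_assoc, ← e, mul_assoc, iy.2, mul_one]))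
  exact le_bot_iff.mp ((l.ns ih h0 hd d1).1 ▸ le_Od this hn ho)

end Fn

/-- the structure of the centralizer of an involution -/
theorem SC.te_or_tb (h : SC Δ t) (ih : KUp.{u} (Nat.card X)) (h0 : Od (⊤ : Subgroup X) = ⊥)
    (hne : ∃ α β : Δ, α ≠ β) : TE t ∨ TB t := by
  by_cases n : NT2 Δ t
  · exact Or.inr (h.tb_of_nt2 h0 n hne)
  obtain ⟨u, P, m⟩ := h.exists_mx n
  obtain ⟨F, a, b, k, α, l⟩ := m.exists_bc
  rcases l.te_or_sw m with e | ⟨T, a, b, w⟩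
  exacts [Or.inl e, Or.inr (w.fin.tb ih h0)]

end GC
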