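import Cfsg.Agent.GC.M

/-! Quotients by the odd core and actions in which four-groups fix one point. -/

set_option autoImplicit false
set_option linter.unusedSectionVars false

namespace GC

open Cfsg Subgroup FT H4 BS SF
open H5.Dich (E3 R3 NF th)
open H8.Sq (P2 p2_of_sq)
open scoped commutatorElement

universe u

variable {G : Type u} [Group G] [Finite G] {Ω : Type u} [MulAction G Ω] [Finite Ω]
  {a b c d g r t v z : G} {A B H K L N P R S T U W Y : Subgroup G} {α x y : Ω}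

/-- the quotient by the odd core -/
structure Qo (H : Subgroup G) {Γ : Type u} [Group Γ] (f : H →* Γ) : Prop where
  surj : Function.Surjective f
  ker : f.ker = (Od H).subgroupOf H

theorem exists_qo (H : Subgroup G) :
    ∃ (Γ : Type u) (_ : Group Γ) (_ : Finite Γ) (f : H →* Γ), Qo H f :=
  let ⟨Γ, i, j, f, h1, h2⟩ := H5.exists_hom_ker_eq (le_nor_Od H); ⟨Γ, i, j, f, h1, h2⟩

namespace Qo

variable {Γ : Type u} [Group Γ] [Finite Γ] {f : H →* Γ} (q : Qo H f)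
include q

theorem one (hg : g ∈ H) : ph f g = 1 ↔ g ∈ Od H := ph_ker q.ker hg

theorem one2 (hg : g ∈ H) (h2 : P2 g) (h : ph f g = 1) : g = 1 :=
  h2.eq_one (odd_orderOf_of_mem (odd_Od H) ((q.one hg).mp h))

theorem inj (hR : IsPGroup 2 R) (h : R ≤ H) (ha : a ∈ R) (hb : b ∈ R) (e : ph f a = ph f b) :
    a = b := mul_inv_eq_one.mp (q.one2 (h (mul_mem ha (inv_mem hb)))
      (P2.of_mem hR (mul_mem ha (inv_mem hb))) (by
        rw [ph_mul (h ha) (inv_mem (h hb)), ph_inv (h hb), e, mul_inv_cancel]))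

theorem inv (ha : a ∈ H) (i : Inv a) : Inv (ph f a) :=
  ⟨fun e => i.1 (q.one2 ha (p2_of_sq i.2) e), by rw [← ph_mul ha ha, i.2, ph_one]⟩

theorem inv' (ha : a ∈ H) (h2 : P2 a) (i : Inv (ph f a)) : Inv a :=
  ⟨fun e => i.1 (by rw [e, ph_one]), q.one2 (mul_mem ha ha) (by simpa [pow_two] using p2_pow h2 2)
    (by rw [ph_mul ha ha, i.2])⟩

theorem ne (ha : a ∈ H) (hb : b ∈ H) (h1 : a * a = 1) (h2 : b * b = 1) (hc : a * b = b * a)
    (h : a ≠ b) : ph f a ≠ ph f b := fun e => h (q.inj (H8.Sq.two_pair (p2_of_sq h1) (p2_of_sq h2) hc)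
      (sup_le (zpowers_le.mpr ha) (zpowers_le.mpr hb)) (mem_sup_left (mem_zpowers a))
      (mem_sup_right (mem_zpowers b)) e)

theorem lift2 {Q : Subgroup Γ} (hQ : IsPGroup 2 Q) (hB : IsPGroup 2 B) (h : B ≤ H5.pre f Q) :
    ∃ R : Subgroup G, IsPGroup 2 R ∧ B ≤ R ∧ R ≤ H ∧ ∀ y ∈ Q, ∃ r ∈ R, ph f r = y := by
  obtain ⟨R, hR, h1⟩ := H5.exists_isSylowOf_ge hB h
  have h2 := hR.im (f := f) (H5.pre_le (f := f) Q)
  rw [H5.im_pre q.surj] at h2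
  refine ⟨R, hR.isPGroup, h1, hR.le.trans (H5.pre_le Q), fun y hy => ?_⟩
  obtain ⟨r, h3, -, e⟩ := mem_im.mp ((h2.eq_of_le hQ h2.le le_rfl).le hy)
  exact ⟨r, h3, e⟩

theorem comm (hR : IsPGroup 2 R) (h : R ≤ H) (ha : a ∈ R) (hb : b ∈ R)
    (e : ph f a * ph f b = ph f b * ph f a) : a * b = b * a :=
  q.inj hR h (mul_mem ha hb) (mul_mem hb ha) (by rwa [ph_mul (h ha) (h hb), ph_mul (h hb) (h ha)])

theorem r3 (h : R3 T) (hT : T ≤ H) : R3 (H5.im f T) := by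
  obtain ⟨A, hA⟩ := h
  refine ⟨_, H5.im_mono hA.le, H5.elem_im hA.elem, ?_⟩
  rw [H5.card_im_of_disjoint q.ker (hA.le.trans hT) (_root_.W.two_odd hA.pgroup (odd_Od H))]
  exact hA.card

theorem Od_bot : Od (⊤ : Subgroup Γ) = ⊥ := by
  rw [Od_eq, ← H5.im_self q.surj]
  exact H5.pPrimeCoreIn_im_eq_bot q.surj (Od_eq H ▸ q.ker) le_rfl

theorem cen (ha : a ∈ H) (i : Inv a) (hn : a ∈ Nor K) :
    H5.im f (K ⊓ Cen1 a) = H5.im f K ⊓ Cen1 (ph f a) := by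
  rw [ph_eq ha]
  exact H5.im_inf_centralizer_singleton q.ker ha hn (i.orderOf ▸ Nat.coprime_two_left.mpr
    (odd_of_le (odd_Od H) inf_le_right))

theorem cen' (ha : a ∈ H) (i : Inv a) {y : Γ} (hy : y ∈ Cen1 (ph f a)) :
    ∃ c ∈ H, c ∈ Cen1 a ∧ ph f c = y := by
  obtain ⟨c, h1, -, e⟩ := mem_im.mp ((q.cen ha i (le_normalizer ha)).ge
    ⟨H5.im_self q.surj ▸ mem_top y, hy⟩)
  exact ⟨c, h1.1, h1.2, e⟩

theorem le_Od (hU : U ≤ H) (h : H5.im f U ≤ Od ⊤) : U ≤ Od H :=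
  (H5.im_eq_bot_iff q.ker hU).mp (le_bot_iff.mp (q.Od_bot ▸ h))

theorem lift_inv (hg : g ∈ H) (i : Inv (ph f g)) : ∃ a ∈ zpowers g, Inv a ∧ ph f a = ph f g := by
  obtain ⟨a, h1, h2, e⟩ := ph_lift_two hg (p2_of_sq i.2)
  exact ⟨a, h1, q.inv' (zpowers_le.mpr hg h1) h2 (e ▸ i), e⟩

theorem syl (hT : Syl T H) : Syl (H5.im f T) ⊤ := H5.im_self q.surj ▸ hT.im le_rfl

end Qo

/-- rank at least two -/
def RK (K : Subgroup G) : Prop := ∃ a ∈ K, ∃ b ∈ K, Inv a ∧ Inv b ∧ a ≠ b ∧ a * b = b * a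

theorem RK.mono (h : RK K) (e : K ≤ L) : RK L :=
  let ⟨a, h1, b, h2, h3⟩ := h; ⟨a, e h1, b, e h2, h3⟩

theorem RK.syl (h : RK K) (hS : Syl S K) : RK S := by
  obtain ⟨a, h1, b, h2, ia, ib, ne, e⟩ := h
  obtain ⟨g, -, m⟩ := H8.Sq.conj_le hS (H8.Sq.two_pair (p2_of_sq ia.2) (p2_of_sq ib.2) e)
    (sup_le (zpowers_le.mpr h1) (zpowers_le.mpr h2))
  exact ⟨_, m a (mem_sup_left (mem_zpowers a)), _, m b (mem_sup_right (mem_zpowers b)), ia.conj g,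
    ib.conj g, by simpa using ne, conj_comm e g⟩

theorem rk_of_r3 (h : R3 K) : RK K := by
  obtain ⟨A, hA⟩ := h
  obtain ⟨a, ha, b, hb, a1, b1, ne⟩ := exists_two (A := A) (le_trans (by norm_num) hA.card)
  exact ⟨a, hA.le ha, b, hA.le hb, ⟨a1, e3_sq hA ha⟩, ⟨b1, e3_sq hA hb⟩, ne, e3_comm hA ha hb⟩

theorem rk_cen (hT : IsPGroup 2 T) (h : RK T) (ht : t ∈ T) (i : Inv t) : RK (T ⊓ Cen1 t) := by
  obtain ⟨z, hz, zz, z1, hc⟩ := H5.Dich.exists_central hT fun e => i.1 (by simpa [e] using ht)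
  by_cases e : t = z
  · exact h.mono (le_inf le_rfl (e ▸ hc))
  · exact ⟨t, ⟨ht, c1_iff.mpr rfl⟩, z, ⟨hz, mem_cen1_comm.mp (hc ht)⟩, i, ⟨z1, zz⟩, e,
      c1_iff.mp (hc ht)⟩

theorem FG.nor_fix (h : FG G Ω) (hP : P ≤ St G x) (r : RK P) (hg : g ∈ Nor P) : g • x = x := by
  obtain ⟨a, h1, b, h2, ia, ib, ne, e⟩ := r
  have k : ∀ p ∈ P, p • g • x = g • x := fun p hp => by
    simpa [mul_assoc] using conj_smul (g := g) (hP (conj_mem' hg hp))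
  exact h a b ia ib ne e _ _ (k a h1) (k b h2) (hP h1) (hP h2)

theorem FG.cen4 (h : FG G Ω) (ia : Inv a) (ib : Inv b) (ne : a ≠ b) (e : a * b = b * a)
    (h1 : a • x = x) (h2 : b • x = x) (ga : g ∈ Cen1 a) (gb : g ∈ Cen1 b) : g • x = x :=
  h a b ia ib ne e _ _ (by rw [← mul_smul, ← c1_iff.mp ga, mul_smul, h1])
    (by rw [← mul_smul, ← c1_iff.mp gb, mul_smul, h2]) h1 h2

theorem FG.odd_le1 (h : FG G Ω) (i : Inv v) (hY : Odd (Nat.card Y)) (h1 : Y ≤ Cen1 v)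
    (hR : R ≤ St G x ⊓ Cen1 v) (hv : v ∈ R) (r : R3 R) (hn : R ≤ Nor Y) : Y ≤ St G x := by
  obtain ⟨a, ha, b, hb, ia, ib, e, h2, h3, h4, h5⟩ := (r3_iff i hv (hR.trans inf_le_right)).mp r
  have k : ∀ a ∈ R, Inv a → a ≠ v → Y ⊓ Cen1 a ≤ St G x := fun a ha ia n g hg =>
    h.cen4 ia i n (c1_iff.mp (hR ha).2) (hR ha).1 (hR hv).1 hg.2 (h1 hg.1)
  exact BS.le_of_four ia ib h4 e hY (hn ha) (hn hb) (k a ha ia h2) (k b hb ib h3)
    (k _ (mul_mem ha hb) (ia.mul ib h4 e) fun e' => h5 (by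
      rw [← e', ← mul_assoc, ← e, mul_assoc, ib.2, mul_one]))

theorem FG.odd_le (h : FG G Ω) (hY : Odd (Nat.card Y)) (hR : R ≤ St G x) (r : R3 R)
    (hn : R ≤ Nor Y) : Y ≤ St G x := by
  obtain ⟨A, hA⟩ := r
  obtain ⟨a, ha, b, hb, ia, ib, ne, e⟩ := rk_of_r3 ⟨A, hA.self⟩
  have k : ∀ v ∈ A, Inv v → Y ⊓ Cen1 v ≤ St G x := fun v hv i =>
    h.odd_le1 i (odd_of_le hY inf_le_left) inf_le_right (le_inf (hA.le.trans hR)
      fun a ha => c1_iff.mpr (e3_comm hA ha hv)) hv ⟨A, hA.self⟩ fun a ha =>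
        mem_nor_inf (hn (hA.le ha)) (le_normalizer (c1_iff.mpr (e3_comm hA ha hv)))
  exact BS.le_of_four ia ib ne e hY (hn (hA.le ha)) (hn (hA.le hb)) (k a ha ia) (k b hb ib)
    (k _ (mul_mem ha hb) (ia.mul ib ne e))

theorem nor_fix_all (h : N ≤ St G x) (hg : g ∈ Nor N) : N ≤ St G (g • x) := fun n hn => by
  simpa [mul_assoc] using conj_smul (g := g) (h (conj_mem' hg hn))

namespace KH

variable (h : KH G Ω α W)
include h

theorem syl_at (x : Ω) : ∃ T : Subgroup G, Syl T ⊤ ∧ T ≤ St G x ∧ R3 T := by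
  obtain ⟨T, h1, h2, h3⟩ := h.syl
  obtain ⟨g, rfl⟩ := h.tr α x
  exact ⟨_, H8.Sq.syl_conj h1 g, conjS_St g α ▸ conjS_mono g h2, h3.conj g⟩

theorem r3 (hT : Syl T ⊤) : R3 T := let ⟨_, _, _, h3⟩ := h.syl; r3_syl (h3.mono le_top) hT

theorem fix2 (hP : IsPGroup 2 P) : ∃ x : Ω, P ≤ St G x := by
  obtain ⟨T, h1, h2, -⟩ := h.syl
  obtain ⟨g, -, m⟩ := H8.Sq.conj_le h1 hP le_top
  exact ⟨g⁻¹ • α, fun p hp => by simpa [mul_assoc] using conj_smul (g := g⁻¹) (h2 (m p hp))⟩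

theorem fix1 (i : Inv t) : ∃ x : Ω, t • x = x :=
  let ⟨x, e⟩ := h.fix2 (pgroup_zp i.2); ⟨x, e (mem_zpowers t)⟩

theorem syl_ge (hP : IsPGroup 2 P) (hx : P ≤ St G x) :
    ∃ T : Subgroup G, Syl T ⊤ ∧ P ≤ T ∧ T ≤ St G x := by
  obtain ⟨T, h1, h2, -⟩ := h.syl_at x
  obtain ⟨S, h3, h4⟩ := H5.exists_isSylowOf_ge hP hx
  exact ⟨S, h1.of_card_le h3.isPGroup le_top (h3.card_le h1.isPGroup h2), h4, h3.le⟩

theorem syl_cen (i : Inv t) (hx : t • x = x) :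
    ∃ S, Syl S (Cen1 t) ∧ S ≤ St G x ∧ RK S ∧ t ∈ S := by
  obtain ⟨T, h1, h2, h3⟩ := h.syl_ge (pgroup_zp i.2) (zpowers_le.mpr hx)
  have m := h2 (mem_zpowers t)
  obtain ⟨S, h4, h5⟩ := H5.exists_isSylowOf_ge (K := Cen1 t ⊓ St G x)
    (h1.isPGroup.to_inf_left (K := Cen1 t)) (le_inf inf_le_right (inf_le_left.trans h3))
  have r := (rk_cen h1.isPGroup (rk_of_r3 (h.r3 h1)) m i).mono h5
  have le := h4.le.trans inf_le_right
  exact ⟨S, H5.IsSylowOf.of_normalizer (h4.of_le (le_inf (h4.le.trans inf_le_left) le_normalizer)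
    fun g hg => ⟨hg.1, h.fg.nor_fix le r hg.2⟩), le, r, h5 ⟨m, c1_iff.mpr rfl⟩⟩

theorem tr_cen (i : Inv t) (hx : t • x = x) (hy : t • y = y) : ∃ c ∈ Cen1 t, c • x = y := by
  obtain ⟨S, h1, h2, -, -⟩ := h.syl_cen i hx
  obtain ⟨S', h3, h4, ⟨a, ha, b, hb, ia, ib, ne, e⟩, -⟩ := h.syl_cen i hy
  obtain ⟨c, hc, rfl⟩ := h1.exists_conj h3
  have le := (conjS_mono c h2).trans (conjS_St c x).le
  exact ⟨c, hc, h.fg a b ia ib ne e _ _ (le ha) (le hb) (h4 ha) (h4 hb)⟩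

/-- passage to sections -/
theorem sub (ih : KUp.{u} (Nat.card G)) (hT : Syl T ⊤) (h1 : T ≤ H) (h2 : T ≤ St G α)
    (hlt : H ≠ ⊤ ∨ Od (⊤ : Subgroup G) ≠ ⊥) : W ⊓ H ≤ Od H := by
  obtain ⟨Γ, _, _, f, q⟩ := exists_qo H
  have r := h.r3 hT
  have o1 : Od H ≤ St G α := h.fg.odd_le (odd_Od H) h2 r (h1.trans (le_nor_Od H))
  obtain ⟨_, act⟩ := exists_act (S := {y | ∃ g ∈ H, g • α = y}) (f := f) (by
    rintro g hg _ ⟨k, hk, rfl⟩
    exact ⟨g * k, mul_mem hg hk, mul_smul _ _ _⟩) q.surj (by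
    rintro g hg e _ ⟨k, hk, rfl⟩
    exact nor_fix_all o1 (le_nor_Od H hk) ((q.one hg).mp e))
  have m0 : α ∈ {y | ∃ g ∈ H, g • α = y} := ⟨1, one_mem _, one_smul _ _⟩
  refine q.le_Od inf_le_right (ih Γ {y | ∃ g ∈ H, g • α = y} ⟨α, m0⟩ _ ?_ ⟨?_, ⟨_, q.syl (hT.of_le h1 le_top), ?_,
    q.r3 r h1⟩, ?_, h.odd.of_dvd_nat ((H5.card_im_dvd _).trans (card_dvd_of_le inf_le_left)), ?_,
    ?_, ?_⟩)
  · rw [← card_top (G := Γ), ← H5.im_self q.surj, ← card_top (G := G)]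
    rcases hlt with e | e
    · exact (Nat.le_of_dvd Nat.card_pos (H5.card_im_dvd H)).trans_lt
        (H5.card_lt_of_lt (lt_top_iff_ne_top.mpr e))
    by_cases e' : H = ⊤
    · subst e'
      exact H5.card_im_lt q.ker le_rfl (by rwa [top_inf_eq])
    · exact (Nat.le_of_dvd Nat.card_pos (H5.card_im_dvd H)).trans_lt
        (H5.card_lt_of_lt (lt_top_iff_ne_top.mpr e'))
  · rintro ⟨_, g, hg, rfl⟩ ⟨_, k, hk, rfl⟩
    exact ⟨ph f (k * g⁻¹), (act.fix_iff (mul_mem hk (inv_mem hg))).mpr (by simp [mul_smul])⟩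
  · intro y hy
    obtain ⟨g, h3, h4, rfl⟩ := mem_im.mp hy
    exact (act.fix_iff h4).mpr (h2 h3)
  · intro a b ia ib ne e x y h3 h4 h5 h6
    obtain ⟨R, r1, -, r2, r3⟩ := q.lift2 (H8.Sq.two_pair (p2_of_sq ia.2) (p2_of_sq ib.2) e)
      IsPGroup.of_bot bot_le
    obtain ⟨a, ha, rfl⟩ := r3 a (mem_sup_left (mem_zpowers a))
    obtain ⟨b, hb, rfl⟩ := r3 b (mem_sup_right (mem_zpowers b))
    rw [act.fix_iff (r2 ha)] at h3 h5
    rw [act.fix_iff (r2 hb)] at h4 h6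
    exact Subtype.ext (h.fg a b (q.inv' (r2 ha) (P2.of_mem r1 ha) ia)
      (q.inv' (r2 hb) (P2.of_mem r1 hb) ib) (fun e => ne (congrArg (ph f) e)) (q.comm r1 r2 ha hb e) _ _
      h3 h4 h5 h6)
  · intro y hy
    obtain ⟨g, h3, h4, rfl⟩ := mem_im.mp hy
    exact (act.fix_iff h4).mpr (h.le h3.1)
  · intro y hy
    obtain ⟨g, h3, rfl⟩ := act.ex y
    exact ph_nor h3 (mem_nor_inf (h.nor ((act.fix_iff h3).mp hy)) (le_normalizer h3))
  · intro y hy i z hz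
    obtain ⟨g, h3, rfl⟩ := act.ex y
    obtain ⟨a, h4, ia, e⟩ := q.lift_inv h3 i
    have aH := zpowers_le.mpr h3 h4
    have aS : a ∈ St G α := zpowers_le.mpr ((act.fix_iff h3).mp hy) h4
    rw [← e] at hz ⊢
    obtain ⟨c, h5, h6, rfl⟩ := q.cen' aH ia hz
    rw [← q.cen aH ia (mem_nor_inf (h.nor aS) (le_normalizer aH)), inf_right_comm]
    exact ph_nor h5 (mem_nor_inf (h.cen a aS ia h6) (le_normalizer h5))

end KH

/-- the central product type in the ambient group -/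
structure GE (t : G) : Prop where
  e1 : ∀ d ∈ Cen1 t, Inv d → d ≠ t →
    ∃ a ∈ Cen1 d, ∃ b ∈ Cen1 d, Inv a ∧ Inv b ∧ a * b * (a * b) = t
  e2 : ∀ a ∈ Cen1 t, ∀ b ∈ Cen1 t, Inv a → Inv b → Inv (a * b * (a * b)) → a * b * (a * b) = t

/-- the balanced type in the ambient group -/
structure GB (t : G) : Prop where
  pair : ∀ d ∈ Cen1 t, ∀ d' ∈ Cen1 t, Inv d → d ≠ t → Inv d' → d' ≠ t →
    IsConj d d' ∨ IsConj d (d' * t)
  bal : ∀ d ∈ Cen1 t, Inv d → d ≠ t → ∀ U ≤ Cen1 t, Odd (Nat.card U) →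
    Cen1 t ⊓ Cen1 d ≤ Nor U → U ≤ Od (Cen1 t)
  con : ∀ T : Subgroup G, Syl T (Cen1 t) → Cn T

namespace Qo

variable {Γ : Type u} [Group Γ] [Finite Γ] {f : Cen1 t →* Γ} (q : Qo (Cen1 t) f) (i : Inv t)
include q i

theorem ne_t (hd : d ∈ Cen1 t) (id : Inv d) (h : d ≠ t) : ph f d ≠ ph f t :=
  q.ne hd (c1_iff.mpr rfl) id.2 i.2 (c1_iff.mp hd) h

theorem ge (e : TE (ph f t)) : GE t := by
  have tt : t ∈ Cen1 t := c1_iff.mpr rfl
  refine ⟨fun d hd id d1 => ?_, fun a ha b hb ia ib iab => ?_⟩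
  · obtain ⟨a, b, ia, ib, h1, h2, h3⟩ := e.e1 _ (q.inv hd id) (q.ne_t i hd id d1)
    have p := two_dih ia.2 ib.2 (p2_sq (h3 ▸ p2_of_sq (q.inv tt i).2))
    have ma : a ∈ zpowers (a * b) ⊔ zpowers a := mem_sup_right (mem_zpowers a)
    have mab : a * b ∈ zpowers (a * b) ⊔ zpowers a := mem_sup_left (mem_zpowers _)
    have le : zpowers (a * b) ⊔ zpowers a ≤ Cen1 (ph f d) := sup_le (zpowers_le.mpr
      (mul_mem (c1_iff.mpr h1) (c1_iff.mpr h2))) (zpowers_le.mpr (c1_iff.mpr h1))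
    obtain ⟨R, r1, r2, r3, r4⟩ := q.lift2 (B := zpowers d ⊔ zpowers t) (two_sup p (e := ph f d)
      (cen_le_nor _ (cen_iff.mpr fun g hg => (c1_iff.mp (le hg)).symm)) (p2_of_sq (q.inv hd id).2))
      (H8.Sq.two_pair (p2_of_sq id.2) (p2_of_sq i.2) (c1_iff.mp hd))
      (sup_le (zpowers_le.mpr (mem_pre.mpr ⟨hd, mem_sup_right (mem_zpowers _)⟩))
        (zpowers_le.mpr (mem_pre.mpr ⟨tt, mem_sup_left (h3 ▸ mul_mem mab mab)⟩)))
    · obtain ⟨b, hb, rfl⟩ := r4 b (mem_sup_left (by simpa using mul_mem (inv_mem ma) mab))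
      obtain ⟨a, ha, rfl⟩ := r4 a (mem_sup_left ma)
      have dR : d ∈ R := r2 (mem_sup_left (mem_zpowers d))
      have ab := mul_mem ha hb
      exact ⟨a, c1_iff.mpr (q.comm r1 r3 ha dR h1), b, c1_iff.mpr (q.comm r1 r3 hb dR h2),
        q.inv' (r3 ha) (P2.of_mem r1 ha) ia, q.inv' (r3 hb) (P2.of_mem r1 hb) ib,
        q.inj r1 r3 (mul_mem ab ab) (r2 (mem_sup_right (mem_zpowers t))) (by
          rw [ph_mul (r3 ab) (r3 ab), ph_mul (r3 ha) (r3 hb), h3])⟩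
  · have ab := mul_mem ha hb
    by_contra n
    refine q.ne_t i (mul_mem ab ab) iab n ?_
    have := q.inv (mul_mem ab ab) iab
    rw [ph_mul ab ab, ph_mul ha hb] at this ⊢
    exact e.e2 _ _ (q.inv ha ia) (q.inv hb ib) this

theorem gb (c : Ci (ph f t)) (e : TB (ph f t)) : GB t := by
  have tt : t ∈ Cen1 t := c1_iff.mpr rfl
  refine ⟨fun d hd d' hd' id d1 id' d2 => ?_, fun d hd id d1 U hU ho hn => ?_,
    fun T hT d hd id => ?_⟩
  · obtain ⟨g, h⟩ := e.pair _ _ (q.inv hd id) (q.ne_t i hd id d1) (q.inv hd' id') (q.ne_t i hd' id' d2)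
    have k : ∀ d' (hd' : d' ∈ Cen1 t), Inv d' → g * ph f d * g⁻¹ = ph f d' → IsConj d d' :=
      fun d' hd' id' h => (MT.lift_cj q.surj q.ker (odd_Od _) (a := ⟨d, hd⟩) (b := ⟨d', hd'⟩)
        id.orderOf id'.orderOf (isConj_iff.mpr ⟨g, by rwa [← ph_eq, ← ph_eq]⟩)).isConj
    exact h.imp (k d' hd' id') fun h => k _ (mul_mem hd' tt) (id'.mul i d2 (c1_iff.mp hd'))
      (h.trans (ph_mul hd' tt).symm)
  · refine q.le_Od hU ((e.bal _ (q.inv hd id) (q.ne_t i hd id d1) _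
      (ho.of_dvd_nat (H5.card_im_dvd U)) fun y hy => ?_).le.trans bot_le)
    obtain ⟨c, h1, h2, rfl⟩ := q.cen' hd id hy
    exact ph_nor h1 (hn ⟨h1, h2⟩)
  · have tT : t ∈ T := mem_of_syl hT tt (p2_of_sq i.2) (cen_le_nor _ (cen_iff.mpr fun g hg =>
      (c1_iff.mp (hT.le hg)).symm))
    have dt := hT.le hd
    obtain ⟨a, ha, b, hb, ia, ib, h1, h2, h3, h4, h5⟩ := (r3_iff (T := H5.im f T ⊓ Cen1 (ph f d))
      c.inv ⟨ph_mem_im tT tt, c.t_cen _⟩ fun g _ => c.mem_cen g).mp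
      (e.con _ (q.syl hT) _ (ph_mem_im hd dt) (q.inv dt id))
    obtain ⟨a, a1, a2, rfl⟩ := mem_im.mp ha.1
    obtain ⟨b, b1, b2, rfl⟩ := mem_im.mp hb.1
    have p := hT.isPGroup
    exact (r3_iff (T := T ⊓ Cen1 d) i ⟨tT, mem_cen1_comm.mp dt⟩ (inf_le_left.trans hT.le)).mpr
      ⟨a, ⟨a1, c1_iff.mpr (q.comm p hT.le a1 hd (c1_iff.mp ha.2))⟩, b,
        ⟨b1, c1_iff.mpr (q.comm p hT.le b1 hd (c1_iff.mp hb.2))⟩, q.inv' a2 (P2.of_mem p a1) ia,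
        q.inv' b2 (P2.of_mem p b1) ib, q.comm p hT.le a1 b1 h1, fun e => h2 (congrArg (ph f) e),
        fun e => h3 (congrArg (ph f) e), fun e => h4 (congrArg (ph f) e),
        fun e => h5 ((congrArg (ph f) e).trans (ph_mul b2 tt))⟩

end Qo

theorem KH.ge_or_gb (h : KH G Ω α W) (ih : KUp.{u} (Nat.card G)) (i : Inv t) (r : R3 (Cen1 t))
    (hx : t • x = x) (hy : t • y = y) (hne : x ≠ y) : GE t ∨ GB t := by
  obtain ⟨Γ, _, _, f, q⟩ := exists_qo (Cen1 t)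
  have tt : t ∈ Cen1 t := c1_iff.mpr rfl
  obtain ⟨_, act⟩ := exists_act (S := Fx Ω t) (f := f) (fun g hg z hz => by
    rw [mem_Fx, ← mul_smul, ← c1_iff.mp hg, mul_smul, hz]) q.surj fun g hg e z hz => by
      obtain ⟨S, h1, h2, -, h3⟩ := h.syl_cen i hz
      exact h.fg.odd_le1 i (odd_Od _) (Od_le _) (le_inf h2 h1.le) h3 (r3_syl r h1)
        (h1.le.trans (le_nor_Od _)) ((q.one hg).mp e)
  have c : Ci (ph f t) := ⟨q.inv tt i, fun g => by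
    obtain ⟨g, hg, rfl⟩ := act.ex g
    rw [← ph_mul hg tt, ← ph_mul tt hg, c1_iff.mp hg]⟩
  have s : SC (Fx Ω t) (ph f t) := by
    refine ⟨c, fun z => (act.fix_iff tt).mpr z.2, fun d id d1 => ?_, (q.r3 r le_rfl).mono le_top,
      fun z w => ?_⟩
    · obtain ⟨g, hg, rfl⟩ := act.ex d
      obtain ⟨a, h1, ia, e⟩ := q.lift_inv hg id
      have ha := zpowers_le.mpr hg h1
      rw [← e] at d1 ⊢
      obtain ⟨z, hz⟩ := h.fix2 (H8.Sq.two_pair (p2_of_sq ia.2) (p2_of_sq i.2) (c1_iff.mp ha))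
      have h2 := hz (mem_sup_left (mem_zpowers a))
      have h3 := hz (mem_sup_right (mem_zpowers t))
      exact ⟨⟨z, h3⟩, (act.fix_iff ha).mpr h2, fun w hw => Subtype.ext (h.fg a t ia i
        (fun e => d1 (congrArg (ph f) e)) (c1_iff.mp ha) _ _ ((act.fix_iff ha).mp hw) w.2 h2 h3)⟩
    · obtain ⟨g, h1, h2⟩ := h.tr_cen i z.2 w.2
      exact ⟨_, (act.fix_iff h1).mpr h2⟩
  refine (s.te_or_tb (ih.mono ?_) q.Od_bot ⟨⟨x, hx⟩, ⟨y, hy⟩, fun e => hne (congrArg Subtype.val e)⟩).imp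
    (q.ge i) (q.gb i c)
  exact (Nat.card_le_card_of_surjective f q.surj).trans (card_le_card_group _)

end GC
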