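import Cfsg.Agent.GC.K
import Cfsg.Agent.H9.Tools5

/-! Connected balanced groups. -/

set_option autoImplicit false
set_option linter.unusedSectionVars false

namespace GC

open Cfsg Subgroup FT H4 BS SF
open H5.Dich (E3 R3 NF th cl)
open H8.Sq (P2 p2_of_sq)
open scoped commutatorElement

universe u

variable {G : Type u} [Group G] [Finite G] {a b t : G} {A S T U V : Subgroup G}

theorem klein_four (ia : Inv a) (ib : Inv b) (ne : a ≠ b) (e : a * b = b * a) :
    IsKleinFour (H4.four a b ia.2 ib.2 e) := by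
  refine H9.isKleinFour_iff.mpr ⟨le_antisymm ?_ (le_card_four ia.2 ib.2 e ia.1 ib.1 ne),
    (elem_four ia.2 ib.2 e).2⟩
  rw [← SetLike.coe_sort_coe, Nat.card_coe_set_eq]
  exact ((Set.ncard_insert_le _ _).trans (Nat.succ_le_succ ((Set.ncard_insert_le _ _).trans
    (Nat.succ_le_succ ((Set.ncard_insert_le _ _).trans (by simp)))))  :
      ({1, a, b, a * b} : Set G).ncard ≤ 4)

theorem klein_elem (h : IsKleinFour U) : IsElementaryAbelian 2 U :=
  ⟨IsKleinFour.isMulCommutative, (H9.isKleinFour_iff.mp h).2⟩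

theorem exists_klein (r : R3 (⊤ : Subgroup G)) (i : Inv t) : ∃ U : Subgroup G, IsKleinFour U ∧ t ∈ U := by
  obtain ⟨T, hT, h⟩ := H5.exists_isSylowOf_ge (pgroup_zp i.2) le_top
  obtain ⟨a, ha, b, hb, ia, ib, ne, -⟩ := rk_cen hT.isPGroup (rk_of_r3 (r3_syl r hT))
    (h (mem_zpowers t)) i
  by_cases e : a = t
  · exact ⟨_, klein_four ib i (e ▸ ne.symm) (c1_iff.mp hb.2), right_mem_four _ _ _⟩
  · exact ⟨_, klein_four ia i e (c1_iff.mp ha.2), right_mem_four _ _ _⟩

theorem conn_top (hb : H5.Dich.Bal G) (h0 : Od (⊤ : Subgroup G) = ⊥) (r : R3 (⊤ : Subgroup G))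
    (hc : IsFourConnected G) (i : Inv t) : th t = ⊥ := by
  have k : ∀ U V : Subgroup G, IsKleinFour U → IsKleinFour V → cl U = cl V := fun U V hU hV => by
    have := hc U V hU hV
    clear hV
    induction this with
    | refl => rfl
    | tail _ h ih =>
      have e := H6.EA.sup (klein_elem h.1) (klein_elem h.2.1) fun x hx =>
        cen_iff.mpr (h.2.2 x hx)
      rw [ih, hb.cl_eq e le_sup_left h.1.card_four.ge, hb.cl_eq e le_sup_right h.2.1.card_four.ge]
  obtain ⟨U, hU, m⟩ := exists_klein r i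
  obtain ⟨A, hA⟩ := r
  obtain ⟨a, ha, b, hb', ia, ib, ne, e⟩ := rk_of_r3 ⟨A, hA.self⟩
  have h1 := klein_four ia ib ne e
  have : cl U = ⊥ := eq_bot_of_Od h0 (fun g _ => by
      rw [mem_normalizer_iff_conjS, H5.Dich.conjS_cl]
      refine k _ _ (H9.isKleinFour_iff.mpr ⟨(card_conjS g U).trans hU.card_four,
        (H5.Dich.elem_conjS (klein_elem hU) g).2⟩) hU) (by
    rw [k U _ hU h1, hb.cl_eq hA.elem (H4.four_le _ _ _ ha hb') h1.card_four.ge]
    exact Nat.odd_iff.mpr (Nat.two_dvd_ne_zero.mp (H5.fam_not_dvd (hb.cl_mem hA))))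
  exact le_bot_iff.mp (this ▸ H5.SS.le_closure' m i.1)

theorem cn_of_conn (r : R3 (⊤ : Subgroup G)) (hc : IsFourConnected G) : Cn (⊤ : Subgroup G) :=
  fun t _ i => by
  obtain ⟨U, hU, m⟩ := exists_klein r i
  obtain ⟨V, hV, ne⟩ : ∃ V : Subgroup G, IsKleinFour V ∧ V ≠ U := by
    by_contra n
    push Not at n
    obtain ⟨A, hA⟩ := r
    obtain ⟨v, hv, -, -, iv, -⟩ := rk_of_r3 ⟨A, hA.self⟩
    obtain ⟨a, ha, b, hb, ia, ib, e, h2, h3, h4, h5⟩ := (r3_iff iv hv fun a ha =>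
      c1_iff.mpr (e3_comm hA ha hv)).mp ⟨A, hA.self⟩
    have : v ∈ H4.four a b ia.2 ib.2 e := by
      rw [n _ (klein_four ia ib h4 e), ← n _ (klein_four ia iv h2 (e3_comm hA ha hv))]
      exact right_mem_four _ _ _
    rcases this with h | h | h | h
    exacts [iv.1 h, h2 h.symm, h3 h.symm, h5 (by
      rw [h, ← mul_assoc, ← e, mul_assoc, ib.2, mul_one])]
  obtain ⟨V, hV, ne, h⟩ : ∃ V : Subgroup G, IsKleinFour V ∧ V ≠ U ∧ ∀ a ∈ U, ∀ b ∈ V, a * b = b * a := by
    have := hc U V hU hV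
    clear hV
    induction this with
    | refl => exact (ne rfl).elim
    | @tail B C _ h ih =>
      by_cases e : B = U
      · exact ⟨C, h.2.1, ne, e ▸ h.2.2⟩
      · exact ih e
  have e := H6.EA.sup (klein_elem hU) (klein_elem hV) (cen_iff.mpr <| h · ·)
  refine ⟨_, le_inf le_top fun x hx => c1_iff.mpr (H5.comm_of_isMulCommutative e.1 hx
    (mem_sup_left m)), e, H7.pow_succ_le_card_of_lt (H5.isPGroup_of_elem e)
      (hU.card_four.ge.trans_lt (H5.card_lt_of_lt (lt_of_le_of_ne le_sup_left fun e' => ne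
        (eq_of_le_card (le_sup_right.trans e'.ge) (hU.card_four.trans hV.card_four.symm).le))))⟩

theorem e3_map (h : E3 A S) {Y : Type u} [Group Y] [Finite Y] {f : G →* Y}
    (hf : Function.Injective f) : E3 (A.map f) (S.map f) :=
  ⟨map_mono h.le, H6.EA.map h.elem f, by rw [card_map_of_injective hf]; exact h.card⟩

theorem cn_sub (r : R3 S) (hc : IsFourConnected S) : Cn S := fun t ht i => by
  obtain ⟨A, hA⟩ := cn_of_conn (G := S) (H5.Dich.r3_top_iff.mpr (H5.Dich.r3_iff.mp r)) hc ⟨t, ht⟩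
    (mem_top _) ⟨fun e => i.1 (congrArg Subtype.val e), Subtype.ext i.2⟩
  refine ⟨_, (e3_map hA S.subtype_injective).mono ?_⟩
  rintro _ ⟨x, hx, rfl⟩
  exact ⟨x.2, c1_iff.mpr (congrArg Subtype.val (c1_iff.mp hx.2))⟩

end GC
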