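import Cfsg.Agent.GC.K
import Cfsg.Agent.H5.Gold

/-! Balance or an unbalancing triple. -/

set_option autoImplicit false
set_option linter.unusedSectionVars false

namespace GC

open Cfsg Subgroup FT H4
open H5 (bar bar_ker bar_core compIn_bar im_bar_core_le)
open H5.Dich (th)
open scoped commutatorElement

universe u

variable {G : Type u} [Group G] [Finite G] {p : ℕ} [hp : Fact p.Prime] {D E H : Subgroup G} {x : G}

theorem core_comm_or (hx : orderOf x = p) (hxH : x ∈ H) (hE : PCompIn p H E)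
    (hD : D ≤ pPrimeCoreIn p (H ⊓ Cen (zpowers x))) :
    x ∈ Nor E ∨ ⁅E, D⁆ ≤ pPrimeCoreIn p H := by
  have hP : IsPGroup p (zpowers x) := IsPGroup.of_card (n := 1) (by rw [Nat.card_zpowers, hx, pow_one])
  have hPH := zpowers_le.mpr hxH
  have hDH : D ≤ H := hD.trans ((pPrimeCoreIn_le p _).trans inf_le_left)
  have ho : orderOf (bar p H ⟨x, hxH⟩) = p := by
    refine orderOf_eq_prime (by
      rw [← map_pow, show (⟨x, hxH⟩ : H) ^ p = 1 from Subtype.ext (hx ▸ pow_orderOf_eq_one x), map_one])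
      fun e => ?_
    have h1 : (⟨x, hxH⟩ : H) ∈ (bar p H).ker := e
    rw [bar_ker] at h1
    have := coprime_orderOf_of_mem (coprime_card_pPrimeCoreIn p H) (mem_subgroupOf.mp h1)
    rw [hx] at this
    exact hp.out.one_lt.ne' (Nat.coprime_self _ |>.mp this)
  by_cases e : ⁅H5.im (bar p H) E, zpowers (bar p H ⟨x, hxH⟩)⁆ = H5.im (bar p H) E
  · refine Or.inl (zpowers_le.mp (le_trans ?_ hE.normalizer_sup_le))
    rw [← H5.pre_im bar_ker (pPrimeCoreIn_le p H) hE.le]
    refine H5.le_normalizer_pre hPH ?_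
    rw [H5.im_zpowers hxH]
    exact zpowers_le.mpr (mem_normalizer_of_commutator_eq e)
  · refine Or.inr ((H5.commutator_le_iff_im bar_ker hE.le hDH).mpr ?_)
    have h1 := (compIn_bar hE).commute_core bar_core ho (le_normalizer (mem_top _)) e
    have h2 := im_bar_core_le hP hPH hD
    rw [H5.im_zpowers hxH, cen_zpowers] at h2
    rw [top_inf_eq] at h1
    exact (commutator_eq_bot_iff_le_centralizer.mp h1).trans (centralizer_anti h2)

theorem bal_of (h : ∀ a x : G, ∀ E, orderOf a = 2 → orderOf x = 2 → a * x = x * a →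
    PCompIn 2 (Cen1 a) E → x ∈ Nor E → ⁅E, th x ⊓ Cen1 a⁆ ≠ E) : H5.Dich.Bal G := by
  intro x a xx aa x1 a1 e
  have ox := orderOf_eq_two' xx x1
  have hx : x ∈ Cen1 a := mem_centralizer_singleton_iff.mpr e
  have hP : IsPGroup 2 (zpowers x) := IsPGroup.of_card (n := 1) (by rw [Nat.card_zpowers, ox, pow_one])
  have hD := H5.Gold.th_inf_le x a
  refine H5.le_core_of_pcomp hP (zpowers_le.mpr hx) hD fun E hE => le_cMod_iff.mpr
    ⟨inf_le_right.trans (le_normalizer_pPrimeCoreIn 2 _), ?_⟩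
  refine (core_comm_or ox hx hE hD).elim (fun n => ?_) id
  have hn := hD.trans (H5.core_le_nor_pcomp hP (zpowers_le.mpr hx) hE)
  exact (hE.commutator_le_iff hn).mp ((hE.pqs.commutator_eq_or hn).resolve_left
    (h a x E (orderOf_eq_two' aa a1) ox e.symm hE n))

end GC
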